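import Cfsg.Agent.Lib.UFourThree.NotSmall

/-!
The elementary group of order eighty-one and the standard generators.
-/

set_option autoImplicit false
set_option maxRecDepth 100000
set_option Elab.async false

namespace CfsgLib.UFourThree

variable {G : Type*} [Group G] {z : G}

/-- The standard generators and their relations. -/
structure Gens (R : Real z) where
  /-- The cycle on `z, u, uz`. -/
  k : G
  /-- The cycle on `z, v, vz`. -/
  l : G
  /-- A generator of the abelian group. -/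
  a : G
  /-- A generator of the abelian group. -/
  b : G
  k_cube : k * k * k = 1
  k_z : k * z * k⁻¹ = R.el 615
  k_u : k * R.el 615 * k⁻¹ = R.el 615 * z
  k_X : Commute k (R.el 78)
  k_w : Commute k (R.el 0)
  r_k : R.el 327 * k * (R.el 327)⁻¹ = k⁻¹ * z
  k_Y : k * R.el 81 * k⁻¹ = a
  k_a : k * a * k⁻¹ = b
  k_b : k * b * k⁻¹ = R.el 81
  l_cube : l * l * l = 1
  l_z : l * z * l⁻¹ = R.el 903
  l_v : l * R.el 903 * l⁻¹ = R.el 903 * z
  l_Y : Commute l (R.el 81)
  l_w : Commute l (R.el 144)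
  r_l : R.el 327 * l * (R.el 327)⁻¹ = l⁻¹ * z
  l_X : l * R.el 78 * l⁻¹ = a * b
  l_ab : l * (a * b) * l⁻¹ = a⁻¹ * b
  l_a'b : l * (a⁻¹ * b) * l⁻¹ = R.el 78
  a_cube : a * a * a = 1
  b_cube : b * b * b = 1
  x_a : Commute (R.el 75) a
  x_b : Commute (R.el 75) b
  y_a : Commute (R.el 42) a
  y_b : Commute (R.el 42) b
  a_b : Commute a b
  z_a : z * a * z⁻¹ = a⁻¹
  z_b : z * b * z⁻¹ = b⁻¹
  u_a : R.el 615 * a * (R.el 615)⁻¹ = a
  u_b : R.el 615 * b * (R.el 615)⁻¹ = b⁻¹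
  r_a : R.el 327 * a * (R.el 327)⁻¹ = b⁻¹
  r_b : R.el 327 * b * (R.el 327)⁻¹ = a

theorem twist_el_eq (R : Real z) (n : ℕ) : R.twist.el n = R.el (phiC n) := rfl

namespace Real

variable (R : Real z)

theorem Y_spec : R.el 615 * R.el 81 * (R.el 615)⁻¹ = (R.el 81)⁻¹ ∧
    R.el 327 * R.el 81 * (R.el 327)⁻¹ = (R.el 81)⁻¹ ∧
    R.el 903 * R.el 81 * (R.el 903)⁻¹ = R.el 81 ∧ Commute (R.el 81) z ∧
    R.el 903 * R.el 78 * (R.el 903)⁻¹ = (R.el 78)⁻¹ ∧ R.el 903 * R.el 903 = 1 ∧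
    R.el 903 * R.el 144 * (R.el 903)⁻¹ = R.el 144 := by
  have h : hConj 615 81 = hInv 81 ∧ hConj 327 81 = hInv 81 ∧ hConj 903 81 = 81 ∧ hConj 903 78 = hInv 78 ∧
      hMul 903 903 = 39 ∧ hConj 903 144 = 144 := by decide +kernel
  refine ⟨?_, ?_, ?_, R.el_z_comm (by norm_num), ?_, ?_, ?_⟩
  · rw [← R.el_conj (by norm_num), h.1, R.el_inv (by norm_num)]
  · rw [← R.el_conj (by norm_num), h.2.1, R.el_inv (by norm_num)]
  · rw [← R.el_conj (by norm_num), h.2.2.1]
  · rw [← R.el_conj (by norm_num), h.2.2.2.1, R.el_inv (by norm_num)]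
  · rw [R.mul_congr h.2.2.2.2.1, R.el_one]
  · rw [← R.el_conj (by norm_num), h.2.2.2.2.2]

theorem comm_P9 {g : G} (hx : Commute g (R.el 75)) (hy : Commute g (R.el 42)) {c : ℕ} (hc : c ∈ pList) :
    Commute g (R.el c) := by
  have hp := R.pList_gen hc
  generalize R.el c = p at hp ⊢
  induction hp using Subgroup.closure_induction with
  | mem q hq => rcases hq with rfl | rfl <;> [exact hx; exact hy]
  | one => exact Commute.one_right g
  | mul q q' _ _ a b => exact a.mul_right b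
  | inv q _ a => exact a.inv_right

/-- The standard generators exist. -/
theorem exists_gens [Finite G] : Nonempty (Gens R) := by
  obtain ⟨T⟩ := R.exists_tri
  obtain ⟨T'⟩ := R.twist.exists_tri
  have hK := R.conj_comm T
  obtain ⟨uY, rY, vY, Yz, vX, vv, vw⟩ := R.Y_spec
  have hYp : (81 : ℕ) ∈ pList := by decide
  have hXp : (78 : ℕ) ∈ pList := by decide
  set k := T.k with hk
  set r := R.el 327 with hr
  set u := R.el 615 with hu
  set Y := R.el 81 with hY
  set a := k * Y * k⁻¹ with ha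
  set b := k * a * k⁻¹ with hb
  have hkk : k⁻¹ = k * k := R.k_sq T
  have ax : ∀ c ∈ pList, Commute a (R.el c) := fun c hc => R.comm_P9 (hK 81 hYp).1 (hK 81 hYp).2 hc
  have hb' : b = k⁻¹ * Y * k := by
    rw [hb, ha]
    calc k * (k * Y * k⁻¹) * k⁻¹ = (k * k * k) * (k⁻¹ * Y * k) * (k * k * k)⁻¹ := by group
      _ = _ := by rw [hk, T.cube, one_mul, inv_one, mul_one]
  have bx : ∀ c ∈ pList, Commute b (R.el c) := fun c hc => by
    have h := comm_conj (n := k⁻¹) (c := R.el c)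
      (show k⁻¹ * (k * R.el c * k⁻¹) * k⁻¹⁻¹ = R.el c by group)
      ((R.comm_P9 (hK c hc).1 (hK c hc).2 hYp).symm)
    rw [inv_inv, ← hY] at h
    rw [hb']; exact h
  have kb : k * b * k⁻¹ = Y := by rw [hb']; group
  have hab : Commute a b := by
    have h := comm_conj (n := k) (c := b) hb.symm ((ax 81 hYp).symm)
    rwa [← ha] at h
  have Y3 : Y * Y * Y = 1 := by
    rw [hY, ← R.map_mul, ← R.map_mul, (R.pList_spec hYp).2.2.2.1, R.el_one]
  have a3 : a * a * a = 1 := by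
    calc a * a * a = k * (Y * Y * Y) * k⁻¹ := by rw [ha]; group
      _ = 1 := by rw [Y3]; group
  have b3 : b * b * b = 1 := by
    calc b * b * b = k * (a * a * a) * k⁻¹ := by rw [hb]; group
      _ = 1 := by rw [a3]; group
  have kuz := R.k_uz T
  have zY : z * Y * z⁻¹ = Y := conj_of_commute Yz.symm
  have uzY : (u * z) * Y * (u * z)⁻¹ = Y⁻¹ := by
    calc (u * z) * Y * (u * z)⁻¹ = u * (z * Y * z⁻¹) * u⁻¹ := by group
      _ = _ := by rw [zY, uY]
  have za : z * a * z⁻¹ = a⁻¹ := by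
    calc z * a * z⁻¹ = k * ((k⁻¹ * z * k) * Y * (k⁻¹ * z * k)⁻¹) * k⁻¹ := by rw [ha]; group
      _ = a⁻¹ := by rw [inv_conj kuz, ← hu, uzY, ha]; group
  have ua : u * a * u⁻¹ = a := by
    calc u * a * u⁻¹ = k * ((k⁻¹ * u * k) * Y * (k⁻¹ * u * k)⁻¹) * k⁻¹ := by rw [ha]; group
      _ = a := by rw [hu, inv_conj T.k_z, zY, ha]
  have uza : (u * z) * a * (u * z)⁻¹ = a⁻¹ := by
    calc (u * z) * a * (u * z)⁻¹ = u * (z * a * z⁻¹) * u⁻¹ := by group
      _ = _ := by rw [za, conj_inv_of ua]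
  have zb : z * b * z⁻¹ = b⁻¹ := by
    calc z * b * z⁻¹ = k * ((k⁻¹ * z * k) * a * (k⁻¹ * z * k)⁻¹) * k⁻¹ := by rw [hb]; group
      _ = b⁻¹ := by rw [inv_conj kuz, ← hu, uza, hb]; group
  have ub : u * b * u⁻¹ = b⁻¹ := by
    calc u * b * u⁻¹ = k * ((k⁻¹ * u * k) * a * (k⁻¹ * u * k)⁻¹) * k⁻¹ := by rw [hb]; group
      _ = b⁻¹ := by rw [hu, inv_conj T.k_z, za, hb]; group
  have rk : r * k * r⁻¹ = k⁻¹ * z := T.r_k
  have ra : r * a * r⁻¹ = b⁻¹ := by
    calc r * a * r⁻¹ = (r * k * r⁻¹) * (r * Y * r⁻¹) * (r * k * r⁻¹)⁻¹ := by rw [ha]; group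
      _ = k⁻¹ * (z * Y⁻¹ * z⁻¹) * k := by rw [rY, rk]; group
      _ = _ := by rw [conj_inv_of zY, hb']; group
  have rb : r * b * r⁻¹ = a := by
    calc r * b * r⁻¹ = (r * k * r⁻¹) * (r * a * r⁻¹) * (r * k * r⁻¹)⁻¹ := by rw [hb]; group
      _ = k⁻¹ * (z * b⁻¹ * z⁻¹) * k := by rw [ra, rk]; group
      _ = a := by rw [conj_inv_of zb, inv_inv, hb]; group
  -- the second cycle
  set l := T'.k with hl
  set v := R.el 903 with hv
  have lz : l * z * l⁻¹ = v := by
    rw [hl, T'.k_z, twist_el_eq, misc_facts.2.2.2.2.2.2.2.2.2.2.2.2.2.2.2.2.2.1]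
  have lv : l * v * l⁻¹ = v * z := by
    have h := T'.k_u
    rw [twist_el_eq, misc_facts.2.2.2.2.2.2.2.2.2.2.2.2.2.2.2.2.2.1] at h
    exact h
  have lY : Commute l Y := by
    have h := T'.k_X
    rw [twist_el_eq, misc_facts.2.2.2.2.2.2.2.2.2.2.2.2.2.2.2.1] at h
    exact h
  have lw : Commute l (R.el 144) := by
    have h := T'.k_w
    rw [twist_el_eq, show phiC 0 = 144 by decide +kernel] at h
    exact h
  have rl : r * l * r⁻¹ = l⁻¹ * z := by
    have h := T'.r_k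
    rw [twist_el_eq, misc_facts.2.2.2.2.2.2.2.2.2.2.2.2.2.2.2.2.2.2.1] at h
    exact h
  have l3 : l * l * l = 1 := T'.cube
  have vz : v * z = z * v := (R.el_z_comm (show 903 < 1152 by norm_num)).eq
  have v_eq : v = u * r := by
    rw [hv, hu, hr, R.mul_congr misc_facts.2.2.2.2.2.2.2.2.2.2.2.2.2.2.2.2.2.2.2]
  have va : v * a * v⁻¹ = b := by
    calc v * a * v⁻¹ = u * (r * a * r⁻¹) * u⁻¹ := by rw [v_eq]; group
      _ = b := by rw [ra, conj_inv_of ub, inv_inv]
  have vb : v * b * v⁻¹ = a := by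
    calc v * b * v⁻¹ = u * (r * b * r⁻¹) * u⁻¹ := by rw [v_eq]; group
      _ = a := by rw [rb, ua]
  have vab : Commute (a * b) v := by
    refine (commute_of_conj ?_).symm
    calc v * (a * b) * v⁻¹ = (v * a * v⁻¹) * (v * b * v⁻¹) := by group
      _ = a * b := by rw [va, vb, hab.eq]
  have zab : z * (a * b) * z⁻¹ = (a * b)⁻¹ := by
    calc z * (a * b) * z⁻¹ = (z * a * z⁻¹) * (z * b * z⁻¹) := by group
      _ = _ := by rw [za, zb, (hab.inv_inv).eq]; exact (mul_inv_rev a b).symm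
  set q := l⁻¹ * (a * b) * l with hq
  have qz : Commute q z := by
    have h := comm_conj (n := l⁻¹) (b := v) (c := z) (by rw [inv_inv]; exact inv_conj lz) vab
    rwa [inv_inv] at h
  have qY : Commute q Y := by
    exact ((lY.inv_left.mul_left ((ax 81 hYp).mul_left (bx 81 hYp))).mul_left lY)
  have q3 : q * q * q = 1 := by
    calc q * q * q = l⁻¹ * ((a * b) * (a * b) * (a * b)) * l := by rw [hq]; group
      _ = 1 := by
          have h : (a * b) ^ 3 = 1 := by
            rw [hab.mul_pow, show a ^ 3 = a * a * a by simp [pow_succ], a3,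
              show b ^ 3 = b * b * b by simp [pow_succ], b3, one_mul]
          rw [show a * b * (a * b) * (a * b) = (a * b) ^ 3 by simp [pow_succ, mul_assoc], h]; group
  obtain ⟨c, hc, ec⟩ := R.twist.surj q qz
  have hcp : c ∈ pList := by
    have key := List.all_eq_true.mp cx_odd c (List.mem_range.mpr hc)
    have h1 : hMul c 78 = hMul 78 c := by
      refine R.twist.code_of_commute ?_
      rw [ec, twist_el_eq, misc_facts.2.2.2.2.2.2.2.2.2.2.2.2.2.2.2.1]
      exact qY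
    have h2 : hMul (hMul c c) c = 39 := by
      refine R.twist.inj _ _ (hMul_lt _ _) (by norm_num) ?_
      rw [R.twist.map_mul, R.twist.map_mul, ec, R.twist.el_one, q3]
    simpa [h1, h2] using key
  have hphi : phiC c ∈ pList := by
    have h : (pList.all fun c => pList.contains (phiC c)) = true := by decide +kernel
    simpa using List.all_eq_true.mp h c hcp
  set d := phiC c with hd
  have ed : R.el d = q := by rw [← ec, twist_el_eq]
  have lzl : l⁻¹ * z * l = v * z := by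
    calc l⁻¹ * z * l = l⁻¹ * (v * (v * z)) * l := by rw [← mul_assoc v v z, vv, one_mul]
      _ = (l⁻¹ * v * l) * (l⁻¹ * (v * z) * l) := by group
      _ = _ := by rw [inv_conj lz, inv_conj lv, vz]
  have hinv : hConj (hMul 903 183) d = hInv d := by
    refine R.inj _ _ (hConj_lt _ _) (R.pList_spec (R.pList_spec hphi).2.2.2.2).1 ?_
    rw [R.el_conj (hMul_lt _ _), R.el_inv (R.pList_spec hphi).1, R.map_mul, R.map_z, ed, ← hv, ← lzl, hq]
    calc l⁻¹ * z * l * (l⁻¹ * (a * b) * l) * (l⁻¹ * z * l)⁻¹ = l⁻¹ * (z * (a * b) * z⁻¹) * l := by group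
      _ = _ := by rw [zab]; group
  have q1 : q ≠ 1 := by
    intro h
    have h' : b = a⁻¹ := by
      refine eq_inv_of_mul_eq_one_right ?_
      calc a * b = l * q * l⁻¹ := by rw [hq]; group
        _ = 1 := by rw [h]; group
    have e : Y = a := by
      rw [← kb, h', conj_inv_of hb.symm, h', inv_inv]
    have e2 : a = a⁻¹ := by rw [← h', hb, ← e, ← ha, e]
    refine R.el_ne_one (show 81 < 1152 by norm_num) (by norm_num) ?_
    rw [← hY, e]
    calc a = a * (a * a⁻¹) := by group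
      _ = a * (a * a) := by rw [← e2]
      _ = 1 := by rw [← mul_assoc, a3]
  have key := List.all_eq_true.mp inverted_by d hphi
  simp only [hinv, beq_self_eq_true, Bool.not_true, Bool.false_or, Bool.or_eq_true, beq_iff_eq] at key
  obtain ⟨m, hm3, hmz, hmv, hmY, hmw, hmr, hmX⟩ : ∃ m : G, m * m * m = 1 ∧ m * z * m⁻¹ = v ∧
      m * v * m⁻¹ = v * z ∧ Commute m Y ∧ Commute m (R.el 144) ∧ r * m * r⁻¹ = m⁻¹ * z ∧
      m * R.el 78 * m⁻¹ = a * b := by
    have hlq : l * q * l⁻¹ = a * b := by rw [hq]; group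
    rcases key with (e | e) | e
    · exact absurd (by rw [← ed, e, R.el_one]) q1
    · exact ⟨l, l3, lz, lv, lY, lw, rl, by rw [← e, ed, hlq]⟩
    · have vinv : v⁻¹ = v := inv_eq_of_mul_eq_one_right vv
      refine ⟨l * v, ?_, ?_, ?_, lY.mul_left (commute_of_conj vY), lw.mul_left (commute_of_conj vw), ?_, ?_⟩
      · calc l * v * (l * v) * (l * v) = (l * v * l⁻¹) * (l * (l * v * l⁻¹) * l⁻¹) * (l * l * l) * v := by group
          _ = 1 := by
              rw [lv, l3, mul_one, show l * (v * z) * l⁻¹ = (l * v * l⁻¹) * (l * z * l⁻¹) by group, lv, lz]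
              calc v * z * (v * z * v) * v = v * z * (v * z) * (v * v) := by group
                _ = v * (z * v) * z := by rw [vv]; group
                _ = 1 := by rw [← vz, ← mul_assoc, vv, one_mul, R.z_sq]
      · calc l * v * z * (l * v)⁻¹ = l * (v * z * v⁻¹) * l⁻¹ := by group
          _ = v := by rw [vz, mul_inv_cancel_right, lz]
      · calc l * v * v * (l * v)⁻¹ = l * v * l⁻¹ := by group
          _ = _ := lv
      · calc r * (l * v) * r⁻¹ = (r * l * r⁻¹) * (r * v * r⁻¹) := by group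
          _ = l⁻¹ * v := by rw [rl, hr, hv, R.r_v, ← mul_assoc, mul_assoc (l⁻¹) z z, R.z_sq, mul_one]
          _ = l⁻¹ * ((v * z) * z) := by rw [mul_assoc v z z, R.z_sq, mul_one]
          _ = _ := by rw [← lv, mul_inv_rev, vinv]; group
      · calc l * v * R.el 78 * (l * v)⁻¹ = l * (v * R.el 78 * v⁻¹) * l⁻¹ := by group
          _ = _ := by
              rw [vX, ← R.el_inv (by norm_num), misc_facts.2.2.2.2.2.2.2.2.2.2.2.2.1, ← e, ed, hlq]
  have hback : m⁻¹ * R.el 78 * m = a⁻¹ * b := by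
    have h : r * (m * R.el 78 * m⁻¹) * r⁻¹ = r * (a * b) * r⁻¹ := by rw [hmX]
    have e1 : r * (m * R.el 78 * m⁻¹) * r⁻¹ = (r * m * r⁻¹) * (r * R.el 78 * r⁻¹) * (r * m * r⁻¹)⁻¹ := by group
    rw [e1, hmr, hr, R.r_X, show R.el 327 * (a * b) * (R.el 327)⁻¹ = (r * a * r⁻¹) * (r * b * r⁻¹) by rw [hr]; group,
      ra, rb] at h
    have e2 : m⁻¹ * z * (R.el 78)⁻¹ * (m⁻¹ * z)⁻¹ = m⁻¹ * (R.el 78)⁻¹ * m := by
      calc m⁻¹ * z * (R.el 78)⁻¹ * (m⁻¹ * z)⁻¹ = m⁻¹ * (z * (R.el 78)⁻¹ * z⁻¹) * m := by group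
        _ = _ := by rw [conj_of_commute (R.z_comm_el (show 78 < 1152 by norm_num)).inv_right]
    rw [e2] at h
    calc m⁻¹ * R.el 78 * m = (m⁻¹ * (R.el 78)⁻¹ * m)⁻¹ := by group
      _ = _ := by rw [h, mul_inv_rev, inv_inv]
  have msq : m⁻¹ = m * m := inv_eq_of_mul_eq_one_right (by rw [← mul_assoc, hm3])
  have hab' : m * (a * b) * m⁻¹ = a⁻¹ * b := by
    rw [← hback, ← hmX]
    calc m * (m * R.el 78 * m⁻¹) * m⁻¹ = (m * m * m) * (m⁻¹ * R.el 78 * m) * (m * m * m)⁻¹ := by group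
      _ = _ := by rw [hm3]; group
  have ha'b : m * (a⁻¹ * b) * m⁻¹ = R.el 78 := by rw [← hback]; group
  exact ⟨{
    k := k, l := m, a := a, b := b
    k_cube := T.cube, k_z := T.k_z, k_u := T.k_u, k_X := T.k_X, k_w := T.k_w, r_k := T.r_k
    k_Y := rfl, k_a := rfl, k_b := kb
    l_cube := hm3, l_z := hmz, l_v := hmv, l_Y := hmY, l_w := hmw, r_l := hmr
    l_X := hmX, l_ab := hab', l_a'b := ha'b
    a_cube := a3, b_cube := b3
    x_a := (ax 75 (by decide)).symm, x_b := (bx 75 (by decide)).symm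
    y_a := (ax 42 (by decide)).symm, y_b := (bx 42 (by decide)).symm
    a_b := hab, z_a := za, z_b := zb, u_a := ua, u_b := ub, r_a := ra, r_b := rb }⟩

end Real

end CfsgLib.UFourThree
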