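import Cfsg.Agent.Lib.UFourThree.Fusion

/-!
Finite facts on the subgroup of order nine of the centraliser and on an elementary group of order
sixteen.
-/

set_option autoImplicit false
set_option maxRecDepth 100000
set_option Elab.async false

namespace CfsgLib.UFourThree

/-- The codes of the Sylow 3-subgroup. -/
def pList : List ℕ := [39, 42, 45, 75, 78, 81, 111, 114, 117]

/-- The codes commuting with it. -/
def cpList : List ℕ := [39, 42, 45, 75, 78, 81, 111, 114, 117, 183, 186, 189, 219, 222, 225, 255, 258, 261]

theorem pList_facts : ((pList.all fun a => a < 1152 && hMul a 75 == hMul 75 a && hMul a 42 == hMul 42 a &&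
    hMul (hMul a a) a == 39 && pList.contains (hInv a) && pList.all fun b => pList.contains (hMul a b)) &&
    hMul 75 42 == 78 && pList.Nodup) = true := by decide +kernel

theorem cp_complete : ((List.range 1152).all fun c =>
    !(hMul c 75 == hMul 75 c && hMul c 42 == hMul 42 c) ||
      (cpList.contains c && (!(hMul c c == 39) || c == 39 || c == 183))) = true := by decide +kernel

theorem cp_split : (cpList.all fun c => pList.contains c || pList.contains (hMul c 183)) = true := by
  decide +kernel

theorem pList_inv : (pList.all fun c => !(hMul c c == 39) || c == 39) = true := by decide +kernel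

/-- Odd elements centralising `78`. -/
theorem cx_odd : ((List.range 1152).all fun c => !(hMul c 78 == hMul 78 c) || !(hMul (hMul c c) c == 39) ||
    pList.contains c) = true := by decide +kernel

theorem pu_three : (pList.filter fun c => hMul c 615 == hMul 615 c) = [39, 78, 117] := by decide +kernel

/-- A code normalising the subgroup of order nine. -/
def normPB (c : ℕ) : Bool := pList.contains (hConj c 75) && pList.contains (hConj c 42)

theorem normP : ((List.range 1152).all fun c => !normPB c ||
    ((!(hMul (hMul c c) c == 39) || pList.contains c) && [78, 117].contains (hConj c 78))) = true := by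
  decide +kernel

/-- The elementary group of order sixteen. -/
def aList : List ℕ := [0, 39, 91, 143, 144, 183, 235, 287, 576, 615, 667, 719, 720, 759, 811, 863]

theorem a_cent : ((List.range 1152).all fun c =>
    !(hMul c 615 == hMul 615 c && hMul c 0 == hMul 0 c && hMul c 91 == hMul 91 c) || aList.contains c) = true := by
  decide +kernel

/-- The part in the four group. -/
def eOf (t : ℕ) : ℕ :=
  ([39, 183, 615, 759].find? fun e => [39, 0, 91, 143].contains (hMul e t)).getD 39

/-- The cycle on the four group. -/
def eCyc (e : ℕ) : ℕ := if e = 183 then 615 else if e = 615 then 759 else if e = 759 then 183 else e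

/-- The action of the element of order three on the group of order sixteen. -/
def kA (t : ℕ) : ℕ := hMul (eCyc (eOf t)) (hMul (eOf t) t)

/-- The action of the product `q₁ k q₂ k q₁`. -/
def nA (t : ℕ) : ℕ := hConj 3 (kA (hConj 7 (kA (hConj 3 t))))

/-- The action of its inverse. -/
def nI (t : ℕ) : ℕ := hConj (hInv 3) (kA (kA (hConj 7 (kA (kA (hConj (hInv 3) t))))))

theorem a_facts : (aList.all fun t => [39, 183, 615, 759].contains (eOf t) &&
    [39, 0, 91, 143].contains (hMul (eOf t) t) && hMul (eOf t) (hMul (eOf t) t) == t &&
    [hConj 3 t, hConj (hInv 3) t, hConj 7 t, hConj 78 t, kA t].all (aList.contains ·) &&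
    kA (kA (kA t)) == t) = true := by decide +kernel

theorem m_facts : ([183, 615, 0, 91].all fun t => nA (hConj 78 (nI (kA t))) == t) = true := by
  decide +kernel

theorem misc_facts : hConj 78 0 = 91 ∧ hMul 91 0 = 143 ∧ hMul 7 7 = 39 ∧
    hMul 183 75 = hMul 75 183 ∧ hMul 183 42 = hMul 42 183 ∧
    hConj 615 75 = 42 ∧ hConj 615 42 = 75 ∧ hConj 327 75 = hInv 75 ∧ hConj 327 42 = hInv 42 ∧
    hConj 327 81 = hInv 81 ∧ hConj 615 81 = hInv 81 ∧ hMul 81 183 = hMul 183 81 ∧
    hInv 78 = 117 ∧ hInv 81 ∈ pList ∧ phiC 75 = 75 ∧ phiC 78 = 81 ∧ phiC 42 = hInv 42 ∧ phiC 615 = 903 ∧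
    phiC 327 = 327 ∧ hMul 615 327 = 903 := by
  decide +kernel

/-- Among the elements of the subgroup of order nine outside `⟨81⟩` only `78` and its inverse are
inverted by `759`-times the third involution. -/
theorem inverted_by : (pList.all fun c => !(hConj (hMul 903 183) c == hInv c) || c == 39 || c == 78 ||
    c == 117) = true := by
  decide +kernel

end CfsgLib.UFourThree
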