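import Mathlib

/-!
Words and a renumbering relating the table of cosets to the tabulated action of degree 112.
-/

set_option autoImplicit false

namespace CfsgLib.UFourThree

/-- Words in the six generators carrying each point to the first one. -/
def backWords : List (List ℕ) := [[], [1], [0, 0, 1], [0, 1], [2, 1], [1, 2, 1],
  [2, 0, 0, 1], [1, 2, 0, 0, 1], [0, 0, 1, 2, 1], [3, 4, 1], [4, 1], [4, 4, 0, 1],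
  [3, 4, 0, 1], [3, 1, 4, 1], [4, 1, 4, 1], [5, 4, 1], [4, 2, 1], [2, 5, 1],
  [5, 1], [5, 5, 0, 1], [2, 5, 0, 1], [2, 1, 5, 1], [1, 5, 1], [5, 1, 5, 1],
  [4, 5, 1], [5, 2, 1], [2, 0, 1], [1, 2, 0, 1], [0, 1, 2, 1], [0, 4, 1],
  [3, 1, 4, 0, 1], [0, 4, 1, 4, 1], [0, 4, 1, 5, 1], [4, 4, 0, 1, 2, 1], [5, 4, 0, 1], [0, 4, 2, 1],
  [0, 5, 1], [3, 1, 5, 0, 1], [0, 0, 1, 5, 1], [0, 5, 1, 5, 1], [2, 5, 1, 2, 0, 1], [5, 1, 2, 0, 1],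
  [0, 5, 1, 4, 1], [4, 5, 0, 1], [5, 0, 1], [5, 2, 0, 1], [4, 0, 1], [3, 1, 0, 4, 1],
  [5, 1, 0, 4, 1], [3, 4, 1, 2, 0, 1], [5, 4, 1, 2, 0, 1], [5, 0, 4, 1], [4, 2, 0, 1], [3, 1, 0, 5, 1],
  [0, 1, 5, 1], [4, 1, 0, 5, 1], [5, 5, 1, 2, 0, 1], [5, 1, 2, 0, 0, 1], [0, 1, 2, 5, 0, 1], [4, 0, 5, 1],
  [5, 2, 0, 0, 1], [1, 5, 2, 1], [1, 4, 2, 1], [1, 0, 4, 2, 1], [5, 2, 1, 5, 1], [4, 3, 1, 4, 1],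
  [1, 4, 1], [2, 1, 4, 2, 0, 1], [3, 0, 1, 4, 1], [1, 4, 2, 0, 1], [1, 0, 4, 1], [1, 4, 0, 1],
  [5, 1, 5, 2, 0, 1], [4, 1, 2, 0, 1], [4, 4, 1, 4, 1], [1, 3, 4, 0, 1], [0, 3, 1, 4, 1], [1, 5, 5, 0, 1],
  [0, 1, 5, 2, 1], [2, 1, 0, 5, 1], [5, 0, 1, 2, 1], [4, 1, 2, 0, 0, 1], [1, 4, 4, 0, 1], [0, 1, 0, 4, 1],
  [4, 1, 4, 2, 0, 1], [4, 1, 4, 0, 1], [2, 1, 5, 0, 1], [1, 5, 0, 1], [1, 2, 5, 0, 1], [1, 5, 2, 0, 1],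
  [5, 0, 1, 5, 1], [4, 2, 1, 5, 1], [4, 0, 1, 2, 1], [0, 1, 2, 0, 1], [0, 1, 0, 5, 1], [3, 2, 1, 5, 0, 1],
  [0, 1, 4, 0, 1], [2, 1, 4, 0, 1], [4, 1, 5, 1], [0, 1, 4, 2, 1], [1, 5, 2, 0, 0, 1], [0, 1, 4, 1],
  [4, 1, 5, 2, 1], [0, 1, 5, 0, 1], [1, 0, 5, 1], [4, 1, 0, 4, 1], [5, 4, 1, 4, 1], [5, 1, 4, 1],
  [3, 5, 1, 4, 1], [5, 1, 4, 2, 1], [0, 1, 4, 2, 0, 1], [4, 5, 1, 5, 1]]

/-- Words in the stabiliser carrying each point to a representative of its orbit. -/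
def orbitWords : List (List ℕ) := [[], [], [0, 0], [0], [2], [],
  [2, 0, 0], [2, 0, 0], [0, 0], [3, 4], [4], [4, 4, 0],
  [3, 4, 0], [3, 4, 0, 2, 0, 0], [5, 0, 5, 2, 0], [5, 4], [4, 2], [2, 5],
  [5], [5, 5, 0], [2, 5, 0], [2, 5, 0, 2, 0], [5, 0, 2, 0], [4, 0, 4, 0, 0],
  [4, 5], [5, 2], [2, 0], [2, 0], [0], [0, 4],
  [3, 0, 4, 2, 0], [3, 2, 0, 4, 0], [4, 4, 2, 0], [4, 4, 0], [5, 4, 0], [0, 4, 2],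
  [0, 5], [5, 0, 4, 0, 0], [3, 2, 0, 5, 0], [2, 0, 5, 0], [2, 5, 2, 0], [5, 2, 0],
  [5, 5, 0], [4, 5, 0], [5, 0], [5, 2, 0], [4, 0], [0, 4, 4, 0],
  [2, 0, 4, 4, 0], [3, 4, 2, 0], [3, 4, 0], [5, 0, 4], [4, 2, 0], [0, 5, 5, 0],
  [0, 5, 0, 2, 0], [0, 2, 0, 5, 0], [5, 5, 2, 0], [5, 2, 0, 0], [2, 5, 0], [4, 0, 5],
  [5, 2, 0, 0], [5, 3, 0, 2, 0], [4, 0, 0, 2, 0], [3, 0, 4, 4, 0], [3, 0, 2, 0], [0, 0, 2, 0],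
  [4, 0, 2, 0, 0], [2, 0, 4, 0], [0, 5, 0, 4, 0], [0, 4, 0], [0, 0, 4, 0, 0], [0, 4, 2, 0],
  [0, 4, 2, 0, 0], [4, 2, 0], [0, 2, 0, 0], [3, 0, 4, 0], [5, 0, 4, 0], [0, 2, 5, 2, 0],
  [5, 4, 0, 5, 0], [0, 4, 0, 5, 0], [5, 0], [4, 2, 0, 0], [0, 4, 4, 2, 0], [4, 0, 0],
  [4, 0, 4, 0], [4, 0, 4, 2, 0], [4, 0, 5, 0], [0, 5, 2, 0, 0], [3, 0, 5, 0], [0, 0, 5, 2, 0],
  [0, 4, 0, 0], [0, 3, 4, 0], [4, 0], [0, 2, 0], [5, 0, 0], [2, 3, 0, 5, 0],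
  [2, 0, 4, 0, 0], [2, 0, 4, 2, 0], [5, 0, 5, 0], [4, 5, 0, 4, 0], [0, 5, 0], [0, 4, 0, 2, 0, 0],
  [0, 3, 4, 2, 0], [3, 0, 2, 5, 0], [0, 0, 5, 0, 0], [0, 5, 0, 0], [2, 0, 5, 0, 0], [3, 0, 5, 0, 0],
  [0, 5, 2, 0], [0, 2, 5, 0], [0, 0, 4, 0], [3, 0, 4, 0, 0]]

/-- The renumbering. -/
def renumCode : ℕ := 0x230f1a07130b1f1902162c4b32053f1c6149012b0c08245a6b55121e3a303c0e150a253941182f143b3445353e6a20102e5f645b2204030d212609462d29282a31471b6762584e485d53661733443842433d36564f6f5e51505468521d5c6d5965636c40374d4a4c576027116e690600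

/-- Its inverse. -/
def renumInvCode : ℕ := 0x1a03110d574202152c250f3d0e2b5f063e1927123c58102a071c5616261418171b290a0864095e282e3445221f204b0c61431e5147534c210b1d444623632f52493f33655c30323105364d596f3b3741695413602d6d684a24664f486b5504406e50385b6a4e355a6c01623a39675d00

/-- The generators as words in the tabulated generators. -/
def toMcL : List (List (Fin 4)) := [[0, 3, 0, 3, 0, 1, 2, 2, 1, 1, 0, 3, 3, 0], [2, 0, 3, 0, 2, 1, 1, 2, 0, 1, 3, 3, 2, 2, 1],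
  [2, 0, 1, 0, 3, 1, 0, 2, 0, 0, 3, 0, 0], [0, 1, 2, 0, 3, 2, 1, 0, 0, 2, 1, 0, 0],
  [0, 1, 2, 1, 0, 3, 3, 2, 0, 1, 2, 0, 3, 3, 1, 1], [0, 2, 3, 0, 1, 1, 0, 3, 1, 0, 2, 0, 3]]

/-- The tabulated generators as words in the generators. -/
def fromMcL : List (List (Fin 6)) := [[4, 0, 0, 5, 0, 1, 4, 1, 4, 3, 1], [2, 5, 4, 5, 1, 2, 5, 4, 5, 0],
  [3, 0, 5, 3, 1, 0, 5, 0], [1, 5, 3, 0, 4, 3, 0, 5, 3]]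

end CfsgLib.UFourThree
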