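import Cfsg.Agent.Lib.UFourThree.CosetCheck
import Cfsg.Agent.Lib.UFourThree.ActionData
import Cfsg.Agent.Lib.UFourThree.AbelianTables
import Cfsg.Agent.Lib.Steiner.McLTables

/-!
Checks on the table of cosets.
-/

set_option autoImplicit false
set_option maxRecDepth 100000
set_option Elab.async false

namespace CfsgLib.UFourThree

open CfsgLib.Steiner

/-- Applying a word of generators to a point of the table. -/
def appT : List ℕ → ℕ → ℕ
  | [], p => p
  | j :: w, p => appT w (tableT p j)

theorem column_nodup : ((List.range 6).all fun j =>
    decide ((List.range 112).map fun p => tableT p j).Nodup) = true := by decide +kernel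

theorem stab_fix : ([0, 2, 3, 4, 5].all fun j => tableT 0 j == 0) = true := by decide +kernel

theorem back_ok : ((List.range 112).all fun p =>
    (backWords.getD p []).all (· < 6) && appT (backWords.getD p []) p == 0) = true := by decide +kernel

theorem orbit_ok : ((List.range 112).all fun p => p == 0 || ((orbitWords.getD p []).all ([0, 2, 3, 4, 5].contains ·) &&
    [1, 5].contains (appT (orbitWords.getD p []) p))) = true := by decide +kernel

theorem reach_five : appT [1, 2, 1] 0 = 5 ∧
    appT [0, 2] (appT [1, 2, 1] 0) = appT [0, 2] 5 ∧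
    appT [0] (appT [1, 2, 1] (appT [0, 2] (appT [1, 2, 1] 0))) = 1 ∧ appT [1] 0 = 1 := by decide +kernel

theorem z_moves : appT [1, 1] 9 ≠ 9 := by decide +kernel

/-- The renumbering. -/
def renum : Equiv.Perm (Fin 112) where
  toFun i := McL.mapOf renumCode i
  invFun i := McL.mapOf renumInvCode i
  left_inv := by
    have h : ∀ i, McL.mapOf renumInvCode (McL.mapOf renumCode i) = i := by decide +kernel
    exact h
  right_inv := by
    have h : ∀ i, McL.mapOf renumCode (McL.mapOf renumInvCode i) = i := by decide +kernel
    exact h

theorem toMcL_ok : ∀ j : Fin 6, ∀ i : Fin 112,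
    (McL.wordF (toMcL.getD j.val []) (renum i)).val = (renum ⟨tableT i.val j.val % 112, Nat.mod_lt _ (by norm_num)⟩).val := by
  decide +kernel

theorem fromMcL_ok : ∀ k : Fin 4, ∀ i : Fin 112,
    (McL.mapOf (McL.genCode.getD k.val 0) (renum i)).val =
      (renum ⟨appT ((fromMcL.getD k.val []).reverse.map Fin.val) i.val % 112, Nat.mod_lt _ (by norm_num)⟩).val := by
  decide +kernel

/-- Outside the centre some conjugate moves the subgroup of order nine. -/
def coreB (c : ℕ) : Bool :=
  [(39, 39), (0, 0), (1, hInv 1)].any fun h =>
    let d := hMul (hMul h.1 c) h.2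
    [75, 42].any fun t => !(pList.any fun p => hMul d t == hMul p d)

theorem core_facts : ((List.range 1152).all fun c => c == 39 || c == 183 || coreB c) = true := by
  decide +kernel

theorem hinv_zero : hInv 0 = 0 := by decide +kernel

theorem j_noncomm : hMul (hConj 3 75) 75 ≠ hMul 75 (hConj 3 75) ∧ hMul 3 3 = 183 := by decide +kernel


end CfsgLib.UFourThree
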