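import Cfsg.Agent.Lib.Steiner.McLModel

/-!
The four tabulated permutations of degree 112 generate a group isomorphic to the projective unitary
group of dimension four over the field with nine elements.
-/

set_option autoImplicit false
set_option maxRecDepth 100000

namespace CfsgLib.UFourThree

open Cfsg CfsgLib.Golay CfsgLib.Golay.LeechOrbit CfsgLib.MonsterType CfsgLib.Sporadic CfsgLib.Sporadic.ConwayPairs
open CfsgLib.Sporadic.ConwayPsu43

/-- In the situation of a twin relation the elements related to generators generate. -/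
theorem closure_eq_top_of_twin {G Q ι : Type*} [Group G] [Group Q] [Finite G] [Finite Q]
    [IsSimpleGroup Q] (hcard : Nat.card G = Nat.card Q) (R : G → Q → Prop) (h1 : R 1 1)
    (hmul : ∀ g g' q q', R g q → R g' q' → R (g * g') (q * q'))
    (s : ι → G) (t : ι → Q) (hst : ∀ k, R (s k) (t k))
    (hgen : Subgroup.closure (Set.range t) = ⊤) (hne : ∃ q, ¬ R 1 q) :
    Subgroup.closure (Set.range s) = ⊤ := by
  set S := Subgroup.closure (Set.range s)
  set P := Subgroup.closure (Set.range fun k => (s k, t k)) with hP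
  have hR : ∀ p ∈ P, R p.1 p.2 := by
    intro p hp
    rw [← Subgroup.mem_toSubmonoid, hP, Subgroup.closure_toSubmonoid_of_finite] at hp
    induction hp using Submonoid.closure_induction with
    | mem p hp => obtain ⟨k, rfl⟩ := hp; exact hst k
    | one => exact h1
    | mul a b _ _ ha hb => exact hmul _ _ _ _ ha hb
  let f : P →* G := (MonoidHom.fst G Q).comp P.subtype
  let p₂ : P →* Q := (MonoidHom.snd G Q).comp P.subtype
  have hsurj : Function.Surjective p₂ := by
    rw [← MonoidHom.range_eq_top, eq_top_iff, ← hgen, Subgroup.closure_le]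
    rintro _ ⟨k, rfl⟩
    exact ⟨⟨(s k, t k), Subgroup.subset_closure ⟨k, rfl⟩⟩, rfl⟩
  have hinj : Function.Injective f := by
    refine (injective_iff_map_eq_one f).2 fun p hp => ?_
    rcases IsSimpleGroup.eq_bot_or_eq_top_of_normal _ ((inferInstance : f.ker.Normal).map p₂ hsurj) with h | h
    · have h2 : p₂ p ∈ f.ker.map p₂ := ⟨p, hp, rfl⟩
      rw [h, Subgroup.mem_bot] at h2
      exact Subtype.ext (Prod.ext hp h2)
    · obtain ⟨q, hq⟩ := hne
      obtain ⟨⟨⟨g, q'⟩, hmem⟩, hker, hpq⟩ := (h ▸ Subgroup.mem_top q : q ∈ f.ker.map p₂)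
      have e1 : g = 1 := hker
      have e2 : q' = q := hpq
      subst e1 e2
      exact absurd (hR _ hmem) hq
  have hle : ∀ p : P, f p ∈ S := by
    rintro ⟨p, hp⟩
    show p.1 ∈ S
    have : P ≤ S.comap (MonoidHom.fst G Q) := by
      rw [hP, Subgroup.closure_le]
      rintro _ ⟨k, rfl⟩
      exact Subgroup.subset_closure ⟨k, rfl⟩
    exact this hp
  refine Subgroup.eq_top_of_le_card _ ?_
  have hinj' : Function.Injective fun p : P => (⟨f p, hle p⟩ : S) := fun a b h =>
    hinj (congrArg Subtype.val h)
  exact (hcard ▸ Nat.card_le_card_of_surjective p₂ hsurj).trans (Nat.card_le_card_of_injective _ hinj')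

/-- The tabulated generators generate a copy of the unitary group. -/
theorem exists_isoMcL {K : Type} [Field K] [Fintype K] (hK : Fintype.card K = 9) :
    Nonempty (Subgroup.closure (Set.range CfsgLib.Steiner.McL.gen) ≃* Cfsg.PSU 4 K 3) := by
  have := co0_finite
  haveI : Fact (Nat.Prime 3) := ⟨Nat.prime_three⟩
  have hF : Fintype.card K = 3 ^ 2 := by rw [hK]; rfl
  obtain ⟨w, hw⟩ : IsSquare (-1 : K) := FiniteField.isSquare_neg_one_iff.mpr (by rw [hK]; norm_num)
  have hw' : w ^ 2 = -1 := by rw [sq]; exact hw.symm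
  obtain ⟨e⟩ := ConwayPsu43.iso_G0 hF (w := w) hw'
  haveI := CfsgLib.ClassicalGroups.psu_isSimpleGroup (n := 4) (q := 3) hF (by norm_num) (by norm_num)
  haveI : Finite (Cfsg.PSU 4 K 3) := Nat.finite_of_card_ne_zero (by rw [card_psu hF hw']; norm_num)
  choose t ht using exists_gen hF hw'
  have htop : Subgroup.closure (Set.range sGen) = ⊤ :=
    closure_eq_top_of_twin (card_G0.trans (card_psu hF hw').symm) (Twin w) twin_one twin_mul sGen
      (fun k => QuotientGroup.mk (t k)) (fun k => twin_gen hF hw' k (ht k).1) (closure_gens hF hw' t ht)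
      ⟨_, not_twin_one hF hw' (ht 0).1⟩
  have hrange : CfsgLib.Steiner.McLModel.perm.range = Subgroup.closure (Set.range CfsgLib.Steiner.McL.gen) := by
    rw [MonoidHom.range_eq_map, ← htop, MonoidHom.map_closure, ← Set.range_comp]
    congr 2
    funext k
    exact CfsgLib.Steiner.McLModel.perm_gen k
  exact ⟨((MulEquiv.subgroupCongr hrange.symm).trans
    (MonoidHom.ofInjective CfsgLib.Steiner.McLModel.setup.2).symm).trans e⟩

end CfsgLib.UFourThree
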