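import Cfsg.Agent.Lib.UFourThree.Letters
import Cfsg.Agent.Lib.UFourThree.ActionTables
import Cfsg.Agent.Lib.UFourThree.ModelGroup

/-!
The group generated by the standard generators acts faithfully on 112 cosets as the tabulated group.
-/

set_option autoImplicit false
set_option maxRecDepth 100000
set_option Elab.async false

namespace CfsgLib.UFourThree

open CfsgLib.Steiner

/-- One more factor of `39, 75, 3`. -/
def slGrow (l : List ℕ) : List ℕ := l.flatMap fun g => [g, hMul g 75, hMul g 3]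

theorem sl_reach : ((List.range 24).all fun a =>
    (slGrow (slGrow (slGrow (slGrow (slGrow [39]))))).contains (enc a 3 0 0)) = true := by decide +kernel

theorem code_split : ((List.range 1152).all fun n =>
    hMul (hMul (hMul (enc (cA n) 3 0 0) (hConj 615 (enc (cB n) 3 0 0)))
      (if cS n = 0 then 39 else 615)) (if cT n = 0 then 39 else 327) == n) = true := by
  decide +kernel

theorem zp_route : hConj 3 615 = hMul 759 0 ∧ hMul 183 0 = 144 ∧ hConj 7 144 = 0 ∧ hMul 0 0 = 39 := by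
  decide +kernel

theorem rotW_one {G : Type*} [Group G] {z : G} {R : Real z} (Γ : Gens R) (w pos : ℕ) :
    Γ.valW (rotW w pos) = 1 := by
  have h : Γ.valW (relWords.getD w []) = 1 := by
    rw [List.getD_eq_getElem?_getD]
    rcases h : relWords[w]? with _ | v
    · rfl
    · exact Γ.rel_ok v (List.mem_of_getElem? h)
  rw [← List.take_append_drop pos (relWords.getD w []), Γ.valW_append] at h
  rw [rotW, Γ.valW_append]
  exact mul_eq_one_swap h

namespace Gens

variable {G : Type*} [Group G] {z : G} {R : Real z} (Γ : Gens R)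

theorem val_opp (x : ℕ) : Γ.val (opp x) = (Γ.val x)⁻¹ := by
  unfold opp
  rcases Nat.mod_two_eq_zero_or_one x with h | h
  · simp only [h, if_true, val, show (x + 1) % 2 ≠ 0 by omega, if_false, show (x + 1) / 2 = x / 2 by omega]
  · simp only [val, show x % 2 ≠ 0 by omega, if_false, show (x - 1) % 2 = 0 by omega, if_true, inv_inv,
      show (x - 1) / 2 = x / 2 by omega]

/-- The elementary group of order eighty-one. -/
def A : Subgroup G := Subgroup.closure {R.el 75, R.el 42, Γ.a, Γ.b}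

theorem x_mem : R.el 75 ∈ Γ.A := Subgroup.subset_closure (by simp)
theorem y_mem : R.el 42 ∈ Γ.A := Subgroup.subset_closure (by simp)
theorem a_mem : Γ.a ∈ Γ.A := Subgroup.subset_closure (by simp)
theorem b_mem : Γ.b ∈ Γ.A := Subgroup.subset_closure (by simp)
theorem X_mem : R.el 78 ∈ Γ.A := by rw [← R.x_mul_y]; exact mul_mem Γ.x_mem Γ.y_mem
theorem Y_mem : R.el 81 ∈ Γ.A := by rw [← Gens.Y_eq]; exact mul_mem Γ.x_mem (inv_mem Γ.y_mem)

theorem A_comm {g h : G} (hg : g ∈ Γ.A) (hh : h ∈ Γ.A) : Commute g h := by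
  have hxy : Commute (R.el 75) (R.el 42) := R.commute_of (by decide +kernel)
  have key : ∀ t ∈ ({R.el 75, R.el 42, Γ.a, Γ.b} : Set G), ∀ s ∈ ({R.el 75, R.el 42, Γ.a, Γ.b} : Set G),
      Commute t s := by
    intro t ht s hs
    simp only [Set.mem_insert_iff, Set.mem_singleton_iff] at ht hs
    rcases ht with rfl | rfl | rfl | rfl <;> rcases hs with rfl | rfl | rfl | rfl
    exacts [Commute.refl _, hxy, Γ.x_a, Γ.x_b, hxy.symm, Commute.refl _, Γ.y_a, Γ.y_b, Γ.x_a.symm,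
      Γ.y_a.symm, Commute.refl _, Γ.a_b, Γ.x_b.symm, Γ.y_b.symm, Γ.a_b.symm, Commute.refl _]
  unfold A at hg hh
  induction hg using Subgroup.closure_induction with
  | one => exact Commute.one_left _
  | mul p q _ _ hp hq => exact hp.mul_left hq
  | inv p _ hp => exact hp.inv_left
  | mem t ht =>
    induction hh using Subgroup.closure_induction with
    | one => exact Commute.one_right _
    | mul p q _ _ hp hq => exact hp.mul_right hq
    | inv p _ hp => exact hp.inv_right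
    | mem s hs => exact key t ht s hs

theorem mem_normalizer_A [Finite G] {g : G} (hx : g * R.el 75 * g⁻¹ ∈ Γ.A) (hy : g * R.el 42 * g⁻¹ ∈ Γ.A)
    (ha : g * Γ.a * g⁻¹ ∈ Γ.A) (hb : g * Γ.b * g⁻¹ ∈ Γ.A) : g ∈ Subgroup.normalizer (Γ.A : Set G) := by
  have hle : Γ.A.map (MulAut.conj g).toMonoidHom ≤ Γ.A := by
    rw [Subgroup.map_le_iff_le_comap]
    refine (Subgroup.closure_le _).mpr ?_
    intro t ht
    simp only [Set.mem_insert_iff, Set.mem_singleton_iff] at ht
    rcases ht with rfl | rfl | rfl | rfl <;> assumption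
  have heq : Γ.A.map (MulAut.conj g).toMonoidHom = Γ.A := Subgroup.eq_of_le_of_card_ge hle
    (Subgroup.card_map_of_injective (MulEquiv.injective _)).ge
  rw [Subgroup.mem_normalizer_iff]
  intro h
  constructor
  · intro hh; exact hle ⟨h, hh, rfl⟩
  · intro hh
    obtain ⟨h', hh', e⟩ := heq.ge hh
    rwa [show h = h' from (MulEquiv.injective (MulAut.conj g)) e.symm]

/-- The normaliser of the elementary group. -/
abbrev M : Subgroup G := Subgroup.normalizer (Γ.A : Set G)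

theorem x_cube : R.el 75 * R.el 75 * R.el 75 = 1 ∧ R.el 42 * R.el 42 * R.el 42 = 1 := by
  constructor <;> rw [← R.map_mul, ← R.map_mul, ← R.el_one] <;> congr 1 <;> decide +kernel

theorem x_eq : R.el 75 = (R.el 78 * R.el 81)⁻¹ ∧ R.el 42 = (R.el 78 * (R.el 81)⁻¹)⁻¹ := by
  constructor
  · rw [← R.map_mul, ← R.el_inv (hMul_lt _ _)]; congr 1
  · rw [← R.el_inv (show 81 < 1152 by norm_num), ← R.map_mul, ← R.el_inv (hMul_lt _ _)]; congr 1

theorem gen_mem_M [Finite G] {i : ℕ} (hi : 2 * i ∈ subLetters) : Γ.gen i ∈ Γ.M := by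
  have hself : ∀ g ∈ Γ.A, g ∈ Γ.M := fun g hg => Subgroup.le_normalizer hg
  obtain ⟨ux, uy⟩ := R.xy_conj_u
  obtain ⟨rx, ry⟩ := R.r_xy
  obtain ⟨ex, ey⟩ := Gens.x_eq (R := R)
  have hk : Γ.k ∈ Γ.M := by
    have h1 : Γ.k * R.el 78 * Γ.k⁻¹ = R.el 78 := conj_of_commute Γ.k_X
    refine Γ.mem_normalizer_A ?_ ?_ (by rw [Γ.k_a]; exact Γ.b_mem) (by rw [Γ.k_b]; exact Γ.Y_mem)
    · have e : Γ.k * R.el 75 * Γ.k⁻¹ = ((Γ.k * R.el 78 * Γ.k⁻¹) * (Γ.k * R.el 81 * Γ.k⁻¹))⁻¹ := by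
        rw [ex]; group
      rw [e, h1, Γ.k_Y]
      exact inv_mem (mul_mem Γ.X_mem Γ.a_mem)
    · have e : Γ.k * R.el 42 * Γ.k⁻¹ = ((Γ.k * R.el 78 * Γ.k⁻¹) * (Γ.k * R.el 81 * Γ.k⁻¹)⁻¹)⁻¹ := by
        rw [ey]; group
      rw [e, h1, Γ.k_Y]
      exact inv_mem (mul_mem Γ.X_mem (inv_mem Γ.a_mem))
  have hl : Γ.l ∈ Γ.M := by
    have h1 : Γ.l * R.el 81 * Γ.l⁻¹ = R.el 81 := conj_of_commute Γ.l_Y
    have m1 : Γ.a * Γ.b ∈ Γ.A := mul_mem Γ.a_mem Γ.b_mem
    have m2 : Γ.a⁻¹ * Γ.b ∈ Γ.A := mul_mem (inv_mem Γ.a_mem) Γ.b_mem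
    have hab := Γ.a_b
    have e1 : Γ.a = ((Γ.a * Γ.b) * (Γ.a⁻¹ * Γ.b)⁻¹)⁻¹ := by
      calc Γ.a = (Γ.a * Γ.a * Γ.a) * Γ.a⁻¹ * Γ.a⁻¹ := by group
        _ = _ := by rw [Γ.a_cube, one_mul]; group
    have e2 : Γ.b = ((Γ.a * Γ.b) * (Γ.a⁻¹ * Γ.b))⁻¹ := by
      calc Γ.b = (Γ.b * Γ.b * Γ.b) * Γ.b⁻¹ * Γ.b⁻¹ := by group
        _ = _ := by
            rw [Γ.b_cube, one_mul, show Γ.a * Γ.b * (Γ.a⁻¹ * Γ.b) = Γ.a * (Γ.b * Γ.a⁻¹) * Γ.b by group,
              hab.symm.inv_right.eq]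
            group
    refine Γ.mem_normalizer_A ?_ ?_ ?_ ?_
    · have e : Γ.l * R.el 75 * Γ.l⁻¹ = ((Γ.l * R.el 78 * Γ.l⁻¹) * (Γ.l * R.el 81 * Γ.l⁻¹))⁻¹ := by
        rw [ex]; group
      rw [e, h1, Γ.l_X]
      exact inv_mem (mul_mem m1 Γ.Y_mem)
    · have e : Γ.l * R.el 42 * Γ.l⁻¹ = ((Γ.l * R.el 78 * Γ.l⁻¹) * (Γ.l * R.el 81 * Γ.l⁻¹)⁻¹)⁻¹ := by
        rw [ey]; group
      rw [e, h1, Γ.l_X]
      exact inv_mem (mul_mem m1 (inv_mem Γ.Y_mem))
    · have e : Γ.l * Γ.a * Γ.l⁻¹ = ((Γ.l * (Γ.a * Γ.b) * Γ.l⁻¹) * (Γ.l * (Γ.a⁻¹ * Γ.b) * Γ.l⁻¹)⁻¹)⁻¹ := by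
        conv_lhs => rw [e1]
        group
      rw [e, Γ.l_ab, Γ.l_a'b]
      exact inv_mem (mul_mem m2 (inv_mem Γ.X_mem))
    · have e : Γ.l * Γ.b * Γ.l⁻¹ = ((Γ.l * (Γ.a * Γ.b) * Γ.l⁻¹) * (Γ.l * (Γ.a⁻¹ * Γ.b) * Γ.l⁻¹))⁻¹ := by
        conv_lhs => rw [e2]
        group
      rw [e, Γ.l_ab, Γ.l_a'b]
      exact inv_mem (mul_mem m2 Γ.X_mem)
  have hi' : i = 0 ∨ i = 2 ∨ i = 3 ∨ i = 4 ∨ i = 5 ∨ i = 6 ∨ i = 7 ∨ i = 8 ∨ i = 9 := by
    simp only [subLetters, List.mem_cons, List.not_mem_nil, or_false] at hi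
    omega
  rcases hi' with rfl | rfl | rfl | rfl | rfl | rfl | rfl | rfl | rfl <;>
    simp only [gen, if_true, if_false, Nat.reduceEqDiff]
  · exact hself _ Γ.x_mem
  · exact Γ.mem_normalizer_A (by rw [ux]; exact Γ.y_mem) (by rw [uy]; exact Γ.x_mem)
      (by rw [Γ.u_a]; exact Γ.a_mem) (by rw [Γ.u_b]; exact inv_mem Γ.b_mem)
  · exact Γ.mem_normalizer_A (by rw [rx]; exact inv_mem Γ.x_mem) (by rw [ry]; exact inv_mem Γ.y_mem)
      (by rw [Γ.r_a]; exact inv_mem Γ.b_mem) (by rw [Γ.r_b]; exact Γ.a_mem)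
  · exact hk
  · exact hl
  · exact hself _ Γ.y_mem
  · exact Γ.mem_normalizer_A (by rw [conj_of_commute R.z_x]; exact Γ.x_mem)
      (by rw [conj_of_commute R.z_y]; exact Γ.y_mem)
      (by rw [Γ.z_a]; exact inv_mem Γ.a_mem) (by rw [Γ.z_b]; exact inv_mem Γ.b_mem)
  · exact hself _ Γ.a_mem
  · exact hself _ Γ.b_mem

theorem J_not_mem : R.el 3 ∉ Γ.M := by
  intro h
  have h' := Γ.A_comm ((Subgroup.mem_normalizer_iff.mp h _).mp Γ.x_mem) Γ.x_mem
  rw [← R.el_conj (by norm_num)] at h'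
  exact j_noncomm.1 (R.code_of_commute h')

/-- The action of a letter on the cosets. -/
def act (x : ℕ) (c : G ⧸ Γ.M) : G ⧸ Γ.M := (Γ.val x)⁻¹ • c

/-- The points. -/
def P (p : ℕ) : G ⧸ Γ.M := pt Γ.act (QuotientGroup.mk (1 : G)) (nameW p)

theorem act_opp (x : ℕ) (c : G ⧸ Γ.M) : Γ.act (opp x) (Γ.act x c) = c := by
  rw [act, act, Γ.val_opp, inv_inv, smul_inv_smul]

theorem actW_eq (w : List ℕ) (c : G ⧸ Γ.M) : actW Γ.act w c = (Γ.valW w)⁻¹ • c := by
  induction w generalizing c with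
  | nil => rw [actW, valW, inv_one, one_smul]
  | cons x w ih => rw [actW, ih, act, smul_smul, valW, mul_inv_rev]

theorem act_rot (w pos : ℕ) (c : G ⧸ Γ.M) : actW Γ.act (rotW w pos) c = c := by
  rw [Γ.actW_eq, rotW_one, inv_one, one_smul]

theorem act_sub [Finite G] : ∀ x ∈ subLetters, Γ.act x (QuotientGroup.mk (1 : G)) = QuotientGroup.mk 1 := by
  intro x hx
  have hx2 : x % 2 = 0 := by
    simp only [subLetters, List.mem_cons, List.not_mem_nil, or_false] at hx
    omega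
  have hm := Γ.gen_mem_M (i := x / 2) (by rwa [show 2 * (x / 2) = x by omega])
  rw [act, val, if_pos hx2, MulAction.Quotient.smul_mk, smul_eq_mul, mul_one, QuotientGroup.eq, inv_inv, mul_one]
  exact hm

theorem table [Finite G] {p j : ℕ} (hp : p < 112) (hj : j < 6) :
    tableT p j < 112 ∧ (Γ.gen j)⁻¹ • Γ.P p = Γ.P (tableT p j) := by
  obtain ⟨h1, h2⟩ := table_sound Γ.act_opp Γ.act_rot Γ.act_sub hp hj
  refine ⟨h1, ?_⟩
  have e : Γ.val (tableLetter j) = Γ.gen j := by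
    rw [val, tableLetter, if_pos (by omega), show 2 * j / 2 = j by omega]
  rw [← e]
  exact h2

/-- The product of a word of generators, as it moves the points. -/
def moveW : List ℕ → G
  | [] => 1
  | j :: w => moveW w * (Γ.gen j)⁻¹

theorem moveW_smul [Finite G] : ∀ {w : List ℕ} {p : ℕ}, (∀ j ∈ w, j < 6) → p < 112 →
    appT w p < 112 ∧ Γ.moveW w • Γ.P p = Γ.P (appT w p)
  | [], p, _, hp => ⟨hp, one_smul _ _⟩
  | j :: w, p, hw, hp => by
    obtain ⟨h1, h2⟩ := Γ.table hp (hw j (by simp))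
    obtain ⟨h3, h4⟩ := moveW_smul (w := w) (fun i hi => hw i (by simp [hi])) h1
    refine ⟨h3, ?_⟩
    show (Γ.moveW w * (Γ.gen j)⁻¹) • Γ.P p = Γ.P (appT w (tableT p j))
    rw [mul_smul, h2, h4]

include Γ in
theorem appT_inj [Finite G] : ∀ {w : List ℕ} {p q : ℕ}, (∀ j ∈ w, j < 6) → p < 112 → q < 112 →
    appT w p = appT w q → p = q
  | [], _, _, _, _, _, h => h
  | j :: w, p, q, hw, hp, hq, h => by
    have hj : j < 6 := hw j (by simp)
    have e := appT_inj (w := w) (fun i hi => hw i (by simp [hi])) (Γ.table hp hj).1 (Γ.table hq hj).1 h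
    have hn : ((List.range 112).map fun p => tableT p j).Nodup := by
      simpa using List.all_eq_true.mp column_nodup j (List.mem_range.mpr hj)
    exact List.inj_on_of_nodup_map hn (List.mem_range.mpr hp) (List.mem_range.mpr hq) e

theorem P_inj [Finite G] {p q : ℕ} (hp : p < 112) (hq : q < 112) (h : Γ.P p = Γ.P q) : p = q := by
  by_contra hne
  have kb := List.all_eq_true.mp back_ok p (List.mem_range.mpr hp)
  simp only [Bool.and_eq_true, List.all_eq_true, decide_eq_true_eq, beq_iff_eq] at kb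
  obtain ⟨hw, h0⟩ := kb
  set w := backWords.getD p []
  obtain ⟨hlt, e1⟩ := Γ.moveW_smul hw hp
  obtain ⟨hlt', e2⟩ := Γ.moveW_smul hw hq
  rw [h, e2, h0] at e1
  have hne' : appT w q ≠ 0 := fun e => hne (Γ.appT_inj hw hp hq (h0.trans e.symm))
  -- the class of the first point
  have stable : ∀ (v : List ℕ) (i : ℕ), (∀ j ∈ v, j ∈ [0, 2, 3, 4, 5]) → i < 112 → Γ.P i = Γ.P 0 →
      appT v i < 112 ∧ Γ.P (appT v i) = Γ.P 0 := by
    intro v
    induction v with
    | nil => exact fun i _ hi e => ⟨hi, e⟩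
    | cons j v ih =>
      intro i hv hi e
      have hj' := hv j (by simp)
      have hj : j < 6 := by
        simp only [List.mem_cons, List.not_mem_nil, or_false] at hj'
        omega
      obtain ⟨g1, g2⟩ := Γ.table hi hj
      refine ih _ (fun x hx => hv x (by simp [hx])) g1 ?_
      rw [← g2, e, (Γ.table (show 0 < 112 by norm_num) hj).2]
      simpa using congrArg Γ.P (beq_iff_eq.mp (List.all_eq_true.mp stab_fix j hj'))
  have ko := List.all_eq_true.mp orbit_ok _ (List.mem_range.mpr hlt')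
  simp only [Bool.or_eq_true, beq_iff_eq, hne', false_or, Bool.and_eq_true, List.all_eq_true,
    List.contains_iff_mem] at ko
  obtain ⟨hr, hrep⟩ := stable _ _ ko.1 hlt' e1
  generalize appT (orbitWords.getD (appT w q) []) (appT w q) = r at hr hrep ko
  obtain ⟨f1, f2, f3, f4⟩ := reach_five
  have h01 : Γ.P 1 = Γ.P 0 := by
    simp only [List.mem_cons, List.not_mem_nil, or_false] at ko
    rcases ko.2 with rfl | rfl
    · exact hrep
    · have hv : ∀ j ∈ [1, 2, 1], j < 6 := by decide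
      have hw5 : ∀ i, i < 112 → Γ.P i = Γ.P 0 → appT [1, 2, 1] i < 112 ∧ Γ.P (appT [1, 2, 1] i) = Γ.P 0 := by
        intro i hi e
        obtain ⟨g1, g2⟩ := Γ.moveW_smul hv hi
        refine ⟨g1, ?_⟩
        rw [← g2, e, (Γ.moveW_smul hv (show 0 < 112 by norm_num)).2, f1]
        exact hrep
      have s0 := stable [0, 2] (appT [1, 2, 1] 0) (by decide) (by rw [f1]; norm_num) (by rw [f1]; exact hrep)
      have s1 := hw5 _ s0.1 s0.2
      have s2 := stable [0] _ (by decide) s1.1 s1.2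
      rw [f3] at s2
      exact s2.2
  obtain ⟨-, g2⟩ := Γ.table (show 0 < 112 by norm_num) (show 1 < 6 by norm_num)
  have hT : tableT 0 1 = 1 := f4
  rw [hT, h01] at g2
  refine Γ.J_not_mem ?_
  have hbase : Γ.P 0 = QuotientGroup.mk (1 : G) := by
    rw [P, show nameW 0 = [] by decide +kernel]
    rfl
  rw [hbase, MulAction.Quotient.smul_mk, smul_eq_mul, mul_one, QuotientGroup.eq] at g2
  simpa [gen] using g2

/-- The generators of the subgroup. -/
def sj (j : Fin 6) : G := (Γ.gen j.val)⁻¹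

/-- The subgroup they generate. -/
def G0 : Subgroup G := Subgroup.closure (Set.range Γ.sj)

/-- The points, by `Fin 112`. -/
def pf (i : Fin 112) : G ⧸ Γ.M := Γ.P i.val

theorem pf_inj [Finite G] : Function.Injective Γ.pf := fun _ _ h => Fin.ext (Γ.P_inj (Fin.isLt _) (Fin.isLt _) h)

theorem stable_pts [Finite G] {g : G} (hg : g ∈ Γ.G0) : ∀ i, ∃ j, g • Γ.pf i = Γ.pf j := by
  rw [G0, ← Subgroup.mem_toSubmonoid, Subgroup.closure_toSubmonoid_of_finite] at hg
  induction hg using Submonoid.closure_induction with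
  | mem g h =>
    obtain ⟨j, rfl⟩ := h
    intro i
    obtain ⟨h1, h2⟩ := Γ.table i.2 j.2
    exact ⟨⟨_, h1⟩, h2⟩
  | one => exact fun i => ⟨i, one_smul _ _⟩
  | mul a b _ _ ha hb =>
    intro i
    obtain ⟨j, e⟩ := hb i
    obtain ⟨k, e'⟩ := ha j
    exact ⟨k, by rw [mul_smul, e, e']⟩

/-- The permutation of the points. -/
noncomputable def rho [Finite G] : Γ.G0 →* Equiv.Perm (Fin 112) where
  toFun g := Equiv.ofBijective (fun i => (Γ.stable_pts g.2 i).choose) (Finite.injective_iff_bijective.mp (by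
    intro a b h
    refine Γ.pf_inj (MulAction.injective (g : G) ?_)
    show (g : G) • Γ.pf a = (g : G) • Γ.pf b
    rw [(Γ.stable_pts g.2 a).choose_spec, (Γ.stable_pts g.2 b).choose_spec]
    exact congrArg Γ.pf h))
  map_one' := by
    refine Equiv.ext fun i => Γ.pf_inj ?_
    show Γ.pf (Γ.stable_pts (1 : Γ.G0).2 i).choose = Γ.pf i
    rw [← (Γ.stable_pts (1 : Γ.G0).2 i).choose_spec, OneMemClass.coe_one, one_smul]
  map_mul' a b := by
    refine Equiv.ext fun i => Γ.pf_inj ?_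
    show Γ.pf (Γ.stable_pts (a * b).2 i).choose = Γ.pf (Γ.stable_pts a.2 (Γ.stable_pts b.2 i).choose).choose
    rw [← (Γ.stable_pts (a * b).2 i).choose_spec, ← (Γ.stable_pts a.2 _).choose_spec,
      ← (Γ.stable_pts b.2 i).choose_spec, Subgroup.coe_mul, mul_smul]

theorem rho_spec [Finite G] (g : Γ.G0) (i : Fin 112) : (g : G) • Γ.pf i = Γ.pf (Γ.rho g i) :=
  (Γ.stable_pts g.2 i).choose_spec

theorem gen_mem_G0 {j : ℕ} (hj : j < 6) : Γ.gen j ∈ Γ.G0 := by
  have h : (Γ.gen j)⁻¹ ∈ Γ.G0 := Subgroup.subset_closure ⟨⟨j, hj⟩, rfl⟩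
  simpa using inv_mem h

theorem el_mem_G0 {n : ℕ} (hn : n < 1152) : R.el n ∈ Γ.G0 := by
  have mx : R.el 75 ∈ Γ.G0 := Γ.gen_mem_G0 (j := 0) (by norm_num)
  have mJ : R.el 3 ∈ Γ.G0 := Γ.gen_mem_G0 (j := 1) (by norm_num)
  have mu : R.el 615 ∈ Γ.G0 := Γ.gen_mem_G0 (j := 2) (by norm_num)
  have mr : R.el 327 ∈ Γ.G0 := Γ.gen_mem_G0 (j := 3) (by norm_num)
  have grow : ∀ l : List ℕ, (∀ g ∈ l, R.el g ∈ Γ.G0) → ∀ g ∈ slGrow l, R.el g ∈ Γ.G0 := by
    intro l hl g hg
    simp only [slGrow, List.mem_flatMap, List.mem_cons, List.not_mem_nil, or_false] at hg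
    obtain ⟨h, hh, rfl | rfl | rfl⟩ := hg
    · exact hl _ hh
    · rw [R.map_mul]; exact mul_mem (hl _ hh) mx
    · rw [R.map_mul]; exact mul_mem (hl _ hh) mJ
  have base : ∀ g ∈ [39], R.el g ∈ Γ.G0 := by
    intro g hg
    rw [List.mem_singleton] at hg
    rw [hg, R.el_one]; exact one_mem _
  have hsl : ∀ a, a < 24 → R.el (enc a 3 0 0) ∈ Γ.G0 := fun a ha =>
    grow _ (grow _ (grow _ (grow _ (grow _ base)))) _
      (by simpa using List.all_eq_true.mp sl_reach a (List.mem_range.mpr ha))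
  have e := beq_iff_eq.mp (List.all_eq_true.mp code_split n (List.mem_range.mpr hn))
  rw [← e, R.map_mul, R.map_mul, R.map_mul, R.el_conj (by norm_num)]
  refine mul_mem (mul_mem (mul_mem (hsl _ (by unfold cA; omega))
    (mul_mem (mul_mem mu (hsl _ (by unfold cB; omega))) (inv_mem mu))) ?_) ?_
  · split_ifs
    · rw [R.el_one]; exact one_mem _
    · exact mu
  · split_ifs
    · rw [R.el_one]; exact one_mem _
    · exact mr

theorem cent_le_G0 {g : G} (hg : Commute g z) : g ∈ Γ.G0 := by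
  obtain ⟨n, hn, rfl⟩ := R.surj g hg
  exact Γ.el_mem_G0 hn

theorem rho_injective [Finite G] : Function.Injective Γ.rho := by
  set N := Γ.rho.ker.map Γ.G0.subtype with hN
  have hNM : ∀ g ∈ N, g ∈ Γ.M := by
    rintro _ ⟨g, hg, rfl⟩
    have h := Γ.rho_spec g 0
    rw [MonoidHom.mem_ker.mp hg, Equiv.Perm.one_apply] at h
    have hbase : Γ.pf 0 = QuotientGroup.mk (1 : G) := by
      rw [pf, P, show nameW ((0 : Fin 112) : ℕ) = [] by decide +kernel]
      rfl
    rw [hbase, MulAction.Quotient.smul_mk, smul_eq_mul, mul_one, QuotientGroup.eq] at h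
    simpa using h
  have hnorm : ∀ h ∈ Γ.G0, ∀ g ∈ N, h * g * h⁻¹ ∈ N := by
    rintro h hh _ ⟨g, hg, rfl⟩
    exact ⟨⟨h, hh⟩ * g * ⟨h, hh⟩⁻¹, (MonoidHom.normal_ker _).conj_mem g hg _, rfl⟩
  have hC : ∀ g ∈ N, Commute g z → g = 1 := by
    intro g hg hgz
    obtain ⟨c, hc, rfl⟩ := R.surj g hgz
    have key := List.all_eq_true.mp core_facts c (List.mem_range.mpr hc)
    simp only [Bool.or_eq_true, beq_iff_eq] at key
    rcases key with (rfl | rfl) | key
    · exact R.el_one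
    · exfalso
      obtain ⟨g, hgk, e⟩ := hg
      have hJ2 : Γ.moveW [1, 1] = z := by
        show 1 * (R.el 3)⁻¹ * (R.el 3)⁻¹ = z
        rw [one_mul, ← mul_inv_rev, R.mul_congr j_noncomm.2, R.map_z, R.z_inv]
      obtain ⟨h1, h2⟩ := Γ.moveW_smul (w := [1, 1]) (p := 9) (by decide) (by norm_num)
      have h3 := Γ.rho_spec g ⟨9, by norm_num⟩
      have hg' : (g : G) = Γ.moveW [1, 1] := e.trans (R.map_z.trans hJ2.symm)
      rw [MonoidHom.mem_ker.mp hgk, Equiv.Perm.one_apply, hg'] at h3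
      exact z_moves (Γ.P_inj h1 (by norm_num) (h2.symm.trans h3))
    · exfalso
      simp only [coreB, List.any_eq_true, Bool.not_eq_true'] at key
      obtain ⟨⟨h, hi⟩, hh, t, ht, hfail⟩ := key
      have hh' : h < 1152 ∧ R.el hi = (R.el h)⁻¹ := by
        simp only [List.mem_cons, List.not_mem_nil, or_false, Prod.mk.injEq] at hh
        rcases hh with ⟨rfl, rfl⟩ | ⟨rfl, rfl⟩ | ⟨rfl, rfl⟩ <;> refine ⟨by norm_num, ?_⟩
        · rw [R.el_one, inv_one]
        · rw [← R.el_inv (by norm_num), hinv_zero]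
        · rw [R.el_inv (by norm_num)]
      set d := hMul (hMul h c) hi with hd
      have ed : R.el d = R.el h * R.el c * (R.el h)⁻¹ := by rw [hd, R.map_mul, R.map_mul, hh'.2]
      have hdN : R.el d ∈ N := ed ▸ hnorm _ (Γ.el_mem_G0 hh'.1) _ hg
      have hdz : Commute (R.el d) z := R.el_z_comm (hMul_lt _ _)
      have htA : R.el t ∈ Γ.A ∧ t < 1152 ∧ hMul (hMul t t) t = 39 := by
        simp only [List.mem_cons, List.not_mem_nil, or_false] at ht
        rcases ht with rfl | rfl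
        exacts [⟨Γ.x_mem, by norm_num, by decide +kernel⟩, ⟨Γ.y_mem, by norm_num, by decide +kernel⟩]
      have hcA : R.el d * R.el t * (R.el d)⁻¹ ∈ Γ.A := (Subgroup.mem_normalizer_iff.mp (hNM _ hdN) _).mp htA.1
      have hcz : Commute (R.el d * R.el t * (R.el d)⁻¹) z :=
        (hdz.mul_left (R.el_z_comm htA.2.1)).mul_left hdz.inv_left
      obtain ⟨e, he, ee⟩ := R.surj _ hcz
      have heP : e ∈ pList := by
        have k := List.all_eq_true.mp cx_odd e (List.mem_range.mpr he)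
        have k1 : hMul e 78 = hMul 78 e := R.code_of_commute (by rw [ee]; exact Γ.A_comm hcA Γ.X_mem)
        have k2 : hMul (hMul e e) e = 39 := by
          refine R.inj _ _ (hMul_lt _ _) (by norm_num) ?_
          rw [R.map_mul, R.map_mul, ee, R.el_one]
          calc R.el d * R.el t * (R.el d)⁻¹ * (R.el d * R.el t * (R.el d)⁻¹) * (R.el d * R.el t * (R.el d)⁻¹)
              = R.el d * (R.el t * R.el t * R.el t) * (R.el d)⁻¹ := by group
            _ = 1 := by rw [← R.map_mul, ← R.map_mul, htA.2.2, R.el_one]; group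
        simpa [k1, k2] using k
      rw [List.any_eq_false] at hfail
      refine hfail e heP (beq_iff_eq.mpr ?_)
      refine R.inj _ _ (hMul_lt _ _) (hMul_lt _ _) ?_
      rw [R.map_mul, R.map_mul e d, ee]
      group
  have hk : ∀ g ∈ N, Commute g (R.el 615) → g = 1 := by
    intro g hg hgu
    have h1 : Γ.k⁻¹ * g * Γ.k⁻¹⁻¹ = 1 :=
      hC _ (hnorm _ (inv_mem (Γ.gen_mem_G0 (j := 4) (by norm_num))) _ hg)
        (comm_conj (by rw [inv_inv]; exact inv_conj Γ.k_z) hgu)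
    exact conj_eq_one_iff.mp h1
  have kuz : Γ.k * (R.el 615 * z) * Γ.k⁻¹ = z := by
    calc Γ.k * (R.el 615 * z) * Γ.k⁻¹ = (Γ.k * R.el 615 * Γ.k⁻¹) * (Γ.k * z * Γ.k⁻¹) := by group
      _ = R.el 615 * (z * R.el 615) := by rw [Γ.k_u, Γ.k_z, mul_assoc]
      _ = z := by rw [R.z_u.eq, ← mul_assoc, R.u_sq, one_mul]
  have hk' : ∀ g ∈ N, Commute g (R.el 615 * z) → g = 1 := by
    intro g hg hguz
    exact conj_eq_one_iff.mp (hC _ (hnorm _ (Γ.gen_mem_G0 (j := 4) (by norm_num)) _ hg) (comm_conj kuz hguz))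
  have inverts : ∀ t ∈ Γ.G0, t * t = 1 → (∀ g ∈ N, Commute g t → g = 1) → ∀ n ∈ N, t * n * t = n⁻¹ := by
    intro t ht t2 hfix n hn
    have tinv : t⁻¹ = t := inv_eq_of_mul_eq_one_right t2
    let f : N → N := fun g => ⟨(g : G)⁻¹ * (t * g * t⁻¹), mul_mem (inv_mem g.2) (hnorm t ht g g.2)⟩
    have hf : Function.Injective f := by
      intro a b h
      have h' : (a : G)⁻¹ * (t * a * t⁻¹) = (b : G)⁻¹ * (t * b * t⁻¹) := congrArg Subtype.val h
      have h2 : (b : G) * (a : G)⁻¹ = 1 := by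
        refine hfix _ (mul_mem b.2 (inv_mem a.2)) ?_
        show (b : G) * (a : G)⁻¹ * t = t * ((b : G) * (a : G)⁻¹)
        calc (b : G) * (a : G)⁻¹ * t = (b : G) * ((a : G)⁻¹ * (t * a * t⁻¹)) * t * (a : G)⁻¹ := by group
          _ = (b : G) * ((b : G)⁻¹ * (t * b * t⁻¹)) * t * (a : G)⁻¹ := by rw [h']
          _ = _ := by group
      exact Subtype.ext (mul_inv_eq_one.mp h2).symm
    obtain ⟨g, hg⟩ := (Finite.injective_iff_surjective.mp hf) ⟨n, hn⟩
    rw [show n = (g : G)⁻¹ * (t * g * t⁻¹) from (congrArg Subtype.val hg).symm, tinv]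
    calc t * ((g : G)⁻¹ * (t * g * t)) * t = t * (g : G)⁻¹ * t * g * (t * t) := by group
      _ = t⁻¹ * (g : G)⁻¹ * t⁻¹ * g := by rw [t2, mul_one, tinv]
      _ = _ := by group
  rw [← MonoidHom.ker_eq_bot_iff, eq_bot_iff]
  intro g hg
  rw [Subgroup.mem_bot]
  refine Subtype.ext ?_
  have hgN : (g : G) ∈ N := ⟨g, hg, rfl⟩
  have e1 := inverts z (Γ.cent_le_G0 (Commute.refl z)) R.z_sq hC _ hgN
  have e2 := inverts (R.el 615) (Γ.el_mem_G0 (by norm_num)) R.u_sq hk _ hgN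
  refine hk' _ hgN (commute_of_conj ?_).symm
  calc R.el 615 * z * g * (R.el 615 * z)⁻¹ = R.el 615 * (z * g * z) * R.el 615 := by
        rw [mul_inv_rev, R.z_inv, R.u_inv]; group
    _ = (R.el 615 * g * R.el 615)⁻¹ := by rw [e1, mul_inv_rev, mul_inv_rev, R.u_inv]; group
    _ = _ := by rw [e2, inv_inv]

/-- The image is the tabulated group. -/
theorem exists_iso [Finite G] : Nonempty (Γ.G0 ≃* Subgroup.closure (Set.range McL.gen)) := by
  set f : Γ.G0 →* Equiv.Perm (Fin 112) :=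
    (renum.permCongrHom).toMonoidHom.comp Γ.rho with hf
  have hfi : Function.Injective f := renum.permCongrHom.injective.comp Γ.rho_injective
  let s : Fin 6 → Γ.G0 := fun j => ⟨Γ.sj j, Subgroup.subset_closure ⟨j, rfl⟩⟩
  have hs : ∀ j, f (s j) = McL.wordP (toMcL.getD j.val []) := by
    intro j
    refine Equiv.ext fun i => ?_
    obtain ⟨i, rfl⟩ := renum.surjective i
    rw [McL.wordP_apply]
    refine Fin.ext ?_
    rw [toMcL_ok j i]
    show (renum (Γ.rho (s j) (renum.symm (renum i)))).val = _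
    rw [Equiv.symm_apply_apply]
    congr 2
    refine Γ.pf_inj ?_
    rw [← Γ.rho_spec]
    obtain ⟨h1, h2⟩ := Γ.table i.2 j.2
    show (Γ.gen j.val)⁻¹ • Γ.P i.val = _
    rw [h2, pf]
    simp only [Nat.mod_eq_of_lt h1]
  have htop : Subgroup.closure (Set.range s) = ⊤ := by
    refine Subgroup.map_injective Γ.G0.subtype_injective ?_
    rw [MonoidHom.map_closure, ← MonoidHom.range_eq_map, Subgroup.range_subtype, ← Set.range_comp]
    rfl
  have hrange : f.range = Subgroup.closure (Set.range McL.gen) := by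
    refine le_antisymm ?_ ?_
    · rw [MonoidHom.range_eq_map, ← htop, MonoidHom.map_closure, ← Set.range_comp, Subgroup.closure_le]
      rintro _ ⟨j, rfl⟩
      show f (s j) ∈ _
      rw [hs, McL.wordP]
      refine list_prod_mem fun p hp => ?_
      obtain ⟨k, -, rfl⟩ := List.mem_map.mp hp
      exact Subgroup.subset_closure ⟨k, rfl⟩
    · rw [Subgroup.closure_le]
      rintro _ ⟨k, rfl⟩
      refine ⟨((fromMcL.getD k.val []).map s).prod, Equiv.ext fun i => ?_⟩
      obtain ⟨i, rfl⟩ := renum.surjective i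
      refine Fin.ext ?_
      show _ = (McL.mapOf (McL.genCode.getD k.val 0) (renum i)).val
      rw [fromMcL_ok k i]
      show (renum (Γ.rho _ (renum.symm (renum i)))).val = _
      rw [Equiv.symm_apply_apply]
      congr 2
      refine Γ.pf_inj ?_
      rw [← Γ.rho_spec]
      generalize fromMcL.getD k.val [] = w
      have hw : ∀ w : List (Fin 6), ((w.map s).prod : G) = Γ.moveW (w.reverse.map Fin.val) := by
        intro w
        induction w with
        | nil => rfl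
        | cons j w ih =>
          rw [List.map_cons, List.prod_cons, Subgroup.coe_mul, ih, List.reverse_cons, List.map_append]
          have happ : ∀ v u : List ℕ, Γ.moveW (v ++ u) = Γ.moveW u * Γ.moveW v := by
            intro v u
            induction v with
            | nil => simp [moveW]
            | cons a v iv => simp [moveW, iv, mul_assoc]
          rw [happ]
          simp [moveW, s, sj]
      obtain ⟨h1, h2⟩ := Γ.moveW_smul (w := w.reverse.map Fin.val) (fun j hj => by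
        obtain ⟨a, -, rfl⟩ := List.mem_map.mp hj
        exact a.2) i.2
      rw [hw w]
      show Γ.moveW _ • Γ.P i.val = _
      rw [h2, pf]
      simp only [Nat.mod_eq_of_lt h1]
  exact ⟨(MonoidHom.ofInjective hfi).trans (MulEquiv.subgroupCongr hrange)⟩

/-- Every involution of the centraliser is conjugate to the central one inside the subgroup. -/
theorem one_class_G0 {t : ℕ} (ht : t < 1152) (h2 : hMul t t = 39) (hne : t ≠ 39) :
    ∃ g ∈ Γ.G0, g * z * g⁻¹ = R.el t := by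
  have hk : Γ.k ∈ Γ.G0 := Γ.gen_mem_G0 (j := 4) (by norm_num)
  have hl : Γ.l ∈ Γ.G0 := Γ.gen_mem_G0 (j := 5) (by norm_num)
  have hm : ∀ n, n < 1152 → R.el n ∈ Γ.G0 := fun n hn => Γ.el_mem_G0 hn
  -- the four representatives
  have hrep : ∀ r ∈ invReps, ∃ g ∈ Γ.G0, g * z * g⁻¹ = R.el r := by
    intro r hr
    simp only [invReps, List.mem_cons, List.not_mem_nil, or_false] at hr
    rcases hr with rfl | rfl | rfl | rfl
    · exact ⟨1, one_mem _, by rw [R.map_z]; group⟩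
    · obtain ⟨f1, f2, f3, f4⟩ := zp_route
      refine ⟨R.el 7 * Γ.k * R.el 3 * Γ.k, mul_mem (mul_mem (mul_mem (hm 7 (by norm_num)) hk)
        (hm 3 (by norm_num))) hk, ?_⟩
      have kuz : Γ.k * (R.el 615 * z) * Γ.k⁻¹ = z := by
        calc Γ.k * (R.el 615 * z) * Γ.k⁻¹ = (Γ.k * R.el 615 * Γ.k⁻¹) * (Γ.k * z * Γ.k⁻¹) := by group
          _ = R.el 615 * (z * R.el 615) := by rw [Γ.k_u, Γ.k_z, mul_assoc]
          _ = z := by rw [R.z_u.eq, ← mul_assoc, R.u_sq, one_mul]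
      calc R.el 7 * Γ.k * R.el 3 * Γ.k * z * (R.el 7 * Γ.k * R.el 3 * Γ.k)⁻¹
          = R.el 7 * (Γ.k * (R.el 3 * (Γ.k * z * Γ.k⁻¹) * (R.el 3)⁻¹) * Γ.k⁻¹) * (R.el 7)⁻¹ := by group
        _ = R.el 7 * (Γ.k * (R.el 759 * R.el 0) * Γ.k⁻¹) * (R.el 7)⁻¹ := by
            rw [Γ.k_z, ← R.el_conj (by norm_num), f1, R.map_mul]
        _ = R.el 7 * ((Γ.k * (R.el 615 * z) * Γ.k⁻¹) * (Γ.k * R.el 0 * Γ.k⁻¹)) * (R.el 7)⁻¹ := by
            rw [R.el_uz]; group
        _ = R.el 7 * R.el 144 * (R.el 7)⁻¹ := by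
            rw [kuz, conj_of_commute Γ.k_w, ← f2, R.map_mul, R.map_z]
        _ = R.el 0 := by rw [← R.el_conj (by norm_num), f3]
    · exact ⟨Γ.k, hk, Γ.k_z⟩
    · exact ⟨Γ.l, hl, Γ.l_z⟩
  have key := inv_classes ht
  simp only [invB2, h2, beq_self_eq_true, Bool.not_true, Bool.false_or, Bool.or_eq_true, beq_iff_eq, hne,
    false_or, List.contains_iff_mem, List.any_eq_true, List.mem_range] at key
  rcases key with h | ⟨k, hk', h⟩
  · exact hrep t h
  · obtain ⟨g, hg, e⟩ := hrep _ h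
    refine ⟨(R.el k)⁻¹ * g, mul_mem (inv_mem (hm k hk')) hg, ?_⟩
    calc (R.el k)⁻¹ * g * z * ((R.el k)⁻¹ * g)⁻¹ = (R.el k)⁻¹ * (g * z * g⁻¹) * R.el k := by group
      _ = R.el t := by rw [e, R.map_mul, R.map_mul, R.el_inv hk']; group

end Gens

end CfsgLib.UFourThree
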