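import Cfsg.Agent.Lib.UFourThree.AbelianTables
import Cfsg.Agent.Lib.LivWag.KleinFormula

/-!
The conjugates of the subgroup of order nine of the centraliser by the element of order three
commute with it.
-/

set_option autoImplicit false
set_option maxRecDepth 100000
set_option Elab.async false

namespace CfsgLib.UFourThree

variable {G : Type*} [Group G] {z : G}

namespace Real

variable (R : Real z)

theorem pList_spec {a : ℕ} (ha : a ∈ pList) : a < 1152 ∧ Commute (R.el a) (R.el 75) ∧
    Commute (R.el a) (R.el 42) ∧ hMul (hMul a a) a = 39 ∧ hInv a ∈ pList := by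
  have key := pList_facts
  simp only [Bool.and_eq_true, List.all_eq_true, decide_eq_true_eq, beq_iff_eq, List.contains_iff_mem] at key
  obtain ⟨⟨⟨⟨⟨h1, h2⟩, h3⟩, h4⟩, h5⟩, -⟩ := key.1.1 a ha
  exact ⟨h1, R.commute_of h2, R.commute_of h3, h4, h5⟩

theorem pList_mul {a b : ℕ} (ha : a ∈ pList) (hb : b ∈ pList) : hMul a b ∈ pList := by
  have key := pList_facts
  simp only [Bool.and_eq_true, List.all_eq_true, decide_eq_true_eq, beq_iff_eq, List.contains_iff_mem] at key
  exact (key.1.1 a ha).2 b hb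

theorem x_mul_y : R.el 75 * R.el 42 = R.el 78 := R.mul_congr (by decide +kernel)

/-- The subgroup of order nine. -/
def P9 : Subgroup G where
  carrier := {g | ∃ c ∈ pList, R.el c = g}
  mul_mem' := by
    rintro _ _ ⟨a, ha, rfl⟩ ⟨b, hb, rfl⟩
    exact ⟨_, pList_mul ha hb, R.map_mul a b⟩
  one_mem' := ⟨39, by decide, R.el_one⟩
  inv_mem' := by
    rintro _ ⟨a, ha, rfl⟩
    exact ⟨_, (R.pList_spec ha).2.2.2.2, R.el_inv (R.pList_spec ha).1⟩

theorem pList_gen {c : ℕ} (hc : c ∈ pList) :
    R.el c ∈ Subgroup.closure ({R.el 75, R.el 42} : Set G) := by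
  have key : pList.all (fun c => [39, 75, hMul 75 75].any fun a => [39, 42, hMul 42 42].any fun b =>
      hMul a b == c) = true := by decide +kernel
  have := List.all_eq_true.mp key c hc
  simp only [List.any_eq_true, beq_iff_eq] at this
  obtain ⟨a, ha, b, hb, e⟩ := this
  rw [← e, R.map_mul]
  have mx : R.el 75 ∈ Subgroup.closure ({R.el 75, R.el 42} : Set G) := Subgroup.subset_closure (Or.inl rfl)
  have my : R.el 42 ∈ Subgroup.closure ({R.el 75, R.el 42} : Set G) := Subgroup.subset_closure (Or.inr rfl)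
  simp only [List.mem_cons, List.not_mem_nil, or_false] at ha hb
  refine mul_mem ?_ ?_
  · rcases ha with rfl | rfl | rfl
    exacts [by rw [R.el_one]; exact one_mem _, mx, by rw [R.map_mul]; exact mul_mem mx mx]
  · rcases hb with rfl | rfl | rfl
    exacts [by rw [R.el_one]; exact one_mem _, my, by rw [R.map_mul]; exact mul_mem my my]

theorem card_image {l : List ℕ} (hl : ∀ c ∈ l, c < 1152) (hn : l.Nodup) :
    Nat.card {g : G // ∃ c ∈ l, R.el c = g} = l.length := by
  let f : {c : ℕ // c ∈ l} → {g : G // ∃ c ∈ l, R.el c = g} := fun c => ⟨R.el c, c, c.2, rfl⟩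
  have hf : Function.Bijective f := by
    refine ⟨fun a b h => Subtype.ext (R.inj _ _ (hl _ a.2) (hl _ b.2) (congrArg Subtype.val h)), ?_⟩
    rintro ⟨g, c, hc, e⟩
    exact ⟨⟨c, hc⟩, Subtype.ext e⟩
  rw [← Nat.card_eq_of_bijective f hf]
  rw [← List.toFinset_card_of_nodup hn, ← Nat.card_eq_finsetCard]
  exact Nat.card_congr (Equiv.subtypeEquivRight fun c => List.mem_toFinset.symm)

theorem card_P9 : Nat.card R.P9 = 9 :=
  R.card_image (fun _ hc => (R.pList_spec hc).1) (by decide)

theorem x_mem_P9 : R.el 75 ∈ R.P9 := ⟨75, by decide, rfl⟩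

theorem y_mem_P9 : R.el 42 ∈ R.P9 := ⟨42, by decide, rfl⟩

/-- The elements commuting with the subgroup of order nine. -/
theorem cp_code {g : G} (hz : Commute g z) (hx : Commute g (R.el 75)) (hy : Commute g (R.el 42)) :
    ∃ c ∈ cpList, R.el c = g ∧ (g * g = 1 → g = 1 ∨ g = z) := by
  obtain ⟨c, hc, rfl⟩ := R.surj g hz
  have key := List.all_eq_true.mp cp_complete c (List.mem_range.mpr hc)
  simp only [R.code_of_commute hx, R.code_of_commute hy, beq_self_eq_true, Bool.and_self, Bool.not_true,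
    Bool.false_or, Bool.and_eq_true, Bool.or_eq_true, Bool.not_eq_true', beq_iff_eq, beq_eq_false_iff_ne,
    List.contains_iff_mem] at key
  refine ⟨c, key.1, rfl, fun h => ?_⟩
  rcases key.2 with (h' | h') | h'
  · exact absurd (R.inj _ _ (hMul_lt _ _) (by norm_num) (by rw [R.map_mul, h, R.el_one])) h'
  · exact Or.inl (by rw [h', R.el_one])
  · exact Or.inr (by rw [h', R.map_z])

theorem cp_decomp {g : G} (hz : Commute g z) (hx : Commute g (R.el 75)) (hy : Commute g (R.el 42)) :
    g ∈ R.P9 ∨ g * z ∈ R.P9 := by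
  obtain ⟨c, hc, rfl, -⟩ := R.cp_code hz hx hy
  have key := List.all_eq_true.mp cp_split c hc
  simp only [Bool.or_eq_true, List.contains_iff_mem] at key
  rcases key with h | h
  · exact Or.inl ⟨c, h, rfl⟩
  · exact Or.inr ⟨_, h, by rw [R.map_mul, R.map_z]⟩

theorem z_x : Commute z (R.el 75) := R.z_comm_el (by norm_num)

theorem z_y : Commute z (R.el 42) := R.z_comm_el (by norm_num)

/-- The odd elements commuting with the subgroup of order nine form a subgroup. -/
theorem exists_odd_core [Finite G] : ∃ O : Subgroup G, Odd (Nat.card O) ∧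
    (∀ g, g ∈ O ↔ Commute g (R.el 75) ∧ Commute g (R.el 42) ∧ Odd (orderOf g)) ∧
    ∀ g, Commute g (R.el 75) → Commute g (R.el 42) → g ∈ O ∨ g * z ∈ O := by
  classical
  have : Fact (Nat.Prime 2) := ⟨Nat.prime_two⟩
  set C := Subgroup.centralizer ({R.el 75, R.el 42} : Set G) with hC
  have memC : ∀ g, g ∈ C ↔ Commute g (R.el 75) ∧ Commute g (R.el 42) := fun g => by
    rw [hC, Subgroup.mem_centralizer_iff]
    simp only [Set.mem_insert_iff, Set.mem_singleton_iff, forall_eq_or_imp, forall_eq]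
    exact ⟨fun h => ⟨h.1.symm, h.2.symm⟩, fun h => ⟨h.1.eq.symm, h.2.eq.symm⟩⟩
  let t : C := ⟨z, (memC z).mpr ⟨R.z_x, R.z_y⟩⟩
  have ht : orderOf t = 2 := by rw [← R.ord]; exact (Subgroup.orderOf_coe t).symm
  have hT2 : IsPGroup 2 (Subgroup.zpowers t) :=
    IsPGroup.of_card (n := 1) (by rw [Nat.card_zpowers, ht, pow_one])
  obtain ⟨S, hS⟩ := hT2.exists_le_sylow
  have tS : t ∈ S := hS (Subgroup.mem_zpowers t)
  have key : ∀ s ∈ (S : Subgroup C), Commute (s : G) z → s = 1 ∨ s = t := by
    intro s hs hsz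
    obtain ⟨k, hk⟩ := (S.2 ⟨s, hs⟩)
    have hk' : s ^ 2 ^ k = 1 := congrArg Subtype.val hk
    rcases R.cp_decomp hsz ((memC _).mp s.2).1 ((memC _).mp s.2).2 with ⟨c, hc, ec⟩ | ⟨c, hc, ec⟩
    · left
      have h3 : (s : G) ^ 3 = 1 := by
        rw [← ec, show R.el c ^ 3 = R.el c * R.el c * R.el c by simp [pow_succ], ← R.map_mul, ← R.map_mul,
          (R.pList_spec hc).2.2.2.1, R.el_one]
      have h1 : orderOf (s : G) ∣ Nat.gcd 3 (2 ^ k) := Nat.dvd_gcd (orderOf_dvd_of_pow_eq_one h3)
        (orderOf_dvd_of_pow_eq_one (by rw [← SubgroupClass.coe_pow, hk']; rfl))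
      rw [Nat.Coprime.gcd_eq_one (Nat.Coprime.pow_right k (by norm_num)), Nat.dvd_one] at h1
      exact Subtype.ext (orderOf_eq_one_iff.mp h1)
    · right
      have h3 : ((s : G) * z) ^ 3 = 1 := by
        rw [← ec, show R.el c ^ 3 = R.el c * R.el c * R.el c by simp [pow_succ], ← R.map_mul, ← R.map_mul,
          (R.pList_spec hc).2.2.2.1, R.el_one]
      have h2 : ((s : G) * z) ^ 2 ^ (k + 1) = 1 := by
        have a1 : (s : G) ^ 2 ^ (k + 1) = 1 := by
          rw [pow_succ, pow_mul, ← SubgroupClass.coe_pow, hk']; simp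
        have a2 : z ^ 2 ^ (k + 1) = 1 := by rw [pow_succ', pow_mul, sq, R.z_sq, one_pow]
        rw [hsz.mul_pow, a1, a2, one_mul]
      have h1 : orderOf ((s : G) * z) ∣ Nat.gcd 3 (2 ^ (k + 1)) :=
        Nat.dvd_gcd (orderOf_dvd_of_pow_eq_one h3) (orderOf_dvd_of_pow_eq_one h2)
      rw [Nat.Coprime.gcd_eq_one (Nat.Coprime.pow_right _ (by norm_num)), Nat.dvd_one,
        orderOf_eq_one_iff] at h1
      refine Subtype.ext ?_
      show (s : G) = z
      rw [← R.z_inv]
      exact eq_inv_of_mul_eq_one_left h1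
  have hSz : (S : Subgroup C) = Subgroup.zpowers t := by
    refine le_antisymm (fun s hs => ?_) hS
    have hne : Nontrivial (S : Subgroup C) := ⟨⟨1, one_mem _⟩, ⟨t, tS⟩, fun h => by
      have := congrArg Subtype.val h
      simp only at this
      rw [← this, orderOf_one] at ht
      omega⟩
    haveI := S.2.center_nontrivial
    obtain ⟨c, hc⟩ := exists_ne (1 : Subgroup.center (S : Subgroup C))
    have hcom : ∀ a : (S : Subgroup C), Commute (a : C) ((c : (S : Subgroup C)) : C) := fun a =>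
      congrArg Subtype.val (Subgroup.mem_center_iff.mp c.2 a)
    rcases key _ (c : (S : Subgroup C)).2 (congrArg Subtype.val (hcom ⟨t, tS⟩)).symm with h | h
    · exact absurd (Subtype.ext (Subtype.ext h)) hc
    · have := hcom ⟨s, hs⟩
      rw [h] at this
      rcases key s hs (congrArg Subtype.val this) with h' | h' <;> subst h'
      exacts [one_mem _, Subgroup.mem_zpowers t]
  have hN : Subgroup.normalizer (S : Set C) ≤ Subgroup.centralizer ((S : Subgroup C) : Set C) := by
    intro n hn s hs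
    have hnt : n * t * n⁻¹ = t := by
      have hm := (Subgroup.mem_normalizer_iff.mp hn t).mp tS
      rw [hSz, mem_zpowers_iff_mem_range_orderOf, ht] at hm
      simp only [Finset.mem_image, Finset.mem_range] at hm
      obtain ⟨i, hi, e⟩ := hm
      interval_cases i
      · rw [pow_zero, eq_comm, conj_eq_one_iff] at e
        rw [e, orderOf_one] at ht
        omega
      · rw [pow_one] at e
        exact e.symm
    rw [SetLike.mem_coe, hSz] at hs
    obtain ⟨j, rfl⟩ := hs
    exact ((commute_of_conj hnt).zpow_right j).symm.eq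
  set f := MonoidHom.transferSylow S hN with hf
  have hodd : Odd (Nat.card f.ker) :=
    Nat.not_even_iff_odd.mp fun h => MonoidHom.not_dvd_card_ker_transferSylow S hN (even_iff_two_dvd.mp h)
  have hcard2 : Nat.card (S : Subgroup C) = 2 := by rw [hSz, Nat.card_zpowers, ht]
  have hker : ∀ g : C, g ∈ f.ker ↔ Odd (orderOf g) := fun g => by
    constructor
    · intro h
      exact Odd.of_dvd_nat hodd (by rw [← Subgroup.orderOf_mk g h]; exact orderOf_dvd_natCard _)
    · intro h
      rw [MonoidHom.mem_ker, ← orderOf_eq_one_iff]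
      have h1 := orderOf_dvd_natCard (f g)
      rw [hcard2] at h1
      have h2 := Odd.of_dvd_nat h (orderOf_map_dvd f g)
      rcases (Nat.dvd_prime Nat.prime_two).mp h1 with e | e
      · exact e
      · rw [e] at h2; exact absurd h2 (by decide)
  refine ⟨f.ker.map C.subtype, ?_, fun g => ?_, fun g hx hy => ?_⟩
  · rw [Subgroup.card_map_of_injective C.subtype_injective]; exact hodd
  · constructor
    · rintro ⟨c, hc, rfl⟩
      exact ⟨((memC _).mp c.2).1, ((memC _).mp c.2).2, by rw [show orderOf (C.subtype c) = orderOf c from Subgroup.orderOf_coe c]; exact (hker c).mp hc⟩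
    · rintro ⟨hx, hy, ho⟩
      exact ⟨⟨g, (memC g).mpr ⟨hx, hy⟩⟩, (hker _).mpr (by rwa [Subgroup.orderOf_mk]), rfl⟩
  · let c : C := ⟨g, (memC g).mpr ⟨hx, hy⟩⟩
    rcases Decidable.em (f c = 1) with h | h
    · exact Or.inl ⟨c, h, rfl⟩
    · right
      refine ⟨c * t, ?_, rfl⟩
      have hft : f t ≠ 1 := fun e => by
        have := (hker t).mp e
        rw [ht] at this
        exact absurd this (by decide)
      have two : ∀ a b : (S : Subgroup C), a ≠ 1 → b ≠ 1 → a * b = 1 := by
        intro a b ha hb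
        have e : ∀ a : (S : Subgroup C), a ≠ 1 → (a : C) = t := fun a ha => by
          have hm : (a : C) ∈ Subgroup.zpowers t := hSz.le a.2
          have hc : Commute ((a : C) : G) z := by
            obtain ⟨j, hj⟩ := hm
            rw [← hj]
            exact (Commute.refl z).zpow_left j
          rcases key _ a.2 hc with h | h
          · exact absurd (Subtype.ext h) ha
          · exact h
        refine Subtype.ext ?_
        show (a : C) * b = 1
        rw [e a ha, e b hb]
        exact Subtype.ext R.z_sq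
      rw [SetLike.mem_coe, MonoidHom.mem_ker, _root_.map_mul]
      exact two _ _ h hft

theorem k_sq (T : Tri R) : T.k⁻¹ = T.k * T.k := inv_eq_of_mul_eq_one_right (by rw [← mul_assoc, T.cube])

theorem k_uz (T : Tri R) : T.k * (R.el 615 * z) * T.k⁻¹ = z := by
  calc T.k * (R.el 615 * z) * T.k⁻¹ = (T.k * R.el 615 * T.k⁻¹) * (T.k * z * T.k⁻¹) := by group
    _ = R.el 615 * (z * R.el 615) := by rw [T.k_u, T.k_z, mul_assoc]
    _ = z := by rw [R.z_u.eq, ← mul_assoc, R.u_sq, one_mul]

theorem xy_conj_u : R.el 615 * R.el 75 * (R.el 615)⁻¹ = R.el 42 ∧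
    R.el 615 * R.el 42 * (R.el 615)⁻¹ = R.el 75 := by
  constructor <;> rw [← R.el_conj (by norm_num)] <;>
    [rw [misc_facts.2.2.2.2.2.1]; rw [misc_facts.2.2.2.2.2.2.1]]

theorem r_xy : R.el 327 * R.el 75 * (R.el 327)⁻¹ = (R.el 75)⁻¹ ∧
    R.el 327 * R.el 42 * (R.el 327)⁻¹ = (R.el 42)⁻¹ := by
  constructor <;> rw [← R.el_conj (by norm_num), ← R.el_inv (by norm_num)] <;>
    [rw [misc_facts.2.2.2.2.2.2.2.1]; rw [misc_facts.2.2.2.2.2.2.2.2.1]]

/-- Conjugating the subgroup of order nine by the cycle. -/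
theorem conj_comm_or_small [Finite G] (T : Tri R) :
    (∀ c ∈ pList, Commute (T.k * R.el c * T.k⁻¹) (R.el 75) ∧ Commute (T.k * R.el c * T.k⁻¹) (R.el 42)) ∨
    ∀ g, Commute g (R.el 75) → Commute g (R.el 42) → Commute g z := by
  obtain ⟨O, hodd, hmem, hsplit⟩ := R.exists_odd_core
  set u := R.el 615 with hu
  have hconjO : ∀ a, (a * R.el 75 * a⁻¹ ∈ R.P9) → (a * R.el 42 * a⁻¹ ∈ R.P9) →
      (a⁻¹ * R.el 75 * a ∈ R.P9) → (a⁻¹ * R.el 42 * a ∈ R.P9) → ∀ g ∈ O, a * g * a⁻¹ ∈ O := by
    intro a h1 h2 h3 h4 g hg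
    obtain ⟨gx, gy, go⟩ := (hmem g).mp hg
    have hcomm : ∀ p ∈ R.P9, Commute g p := by
      rintro p ⟨c, hc, rfl⟩
      have hp : R.el c ∈ Subgroup.closure ({R.el 75, R.el 42} : Set G) := R.pList_gen hc
      generalize R.el c = p at hp ⊢
      induction hp using Subgroup.closure_induction with
      | mem x hx => rcases hx with rfl | rfl <;> [exact gx; exact gy]
      | one => exact Commute.one_right g
      | mul x y _ _ a b => exact a.mul_right b
      | inv x _ a => exact a.inv_right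
    refine (hmem _).mpr ⟨?_, ?_, ?_⟩
    · exact comm_conj (by group) (hcomm _ h3)
    · exact comm_conj (by group) (hcomm _ h4)
    · rwa [show a * g * a⁻¹ = MulAut.conj a g from rfl, MulEquiv.orderOf_eq]
  obtain ⟨ux, uy⟩ := R.xy_conj_u
  obtain ⟨rx, ry⟩ := R.r_xy
  have mx := R.x_mem_P9
  have my := R.y_mem_P9
  have zO : ∀ g ∈ O, z * g * z⁻¹ ∈ O := by
    refine hconjO z ?_ ?_ ?_ ?_
    all_goals first
      | (rw [conj_of_commute R.z_x]; exact mx)
      | (rw [conj_of_commute R.z_y]; exact my)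
      | (rw [inv_conj (conj_of_commute R.z_x)]; exact mx)
      | (rw [inv_conj (conj_of_commute R.z_y)]; exact my)
  have uO : ∀ g ∈ O, u * g * u⁻¹ ∈ O := by
    refine hconjO u ?_ ?_ ?_ ?_
    · rw [hu, ux]; exact my
    · rw [hu, uy]; exact mx
    · rw [inv_conj uy]; exact my
    · rw [inv_conj ux]; exact mx
  have rO : ∀ g, g ∈ O ↔ R.el 327 * g * (R.el 327)⁻¹ ∈ O := by
    have h : ∀ g ∈ O, R.el 327 * g * (R.el 327)⁻¹ ∈ O := by
      refine hconjO _ ?_ ?_ ?_ ?_
      · rw [rx]; exact R.P9.inv_mem mx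
      · rw [ry]; exact R.P9.inv_mem my
      · rw [inv_conj (show R.el 327 * (R.el 75)⁻¹ * (R.el 327)⁻¹ = R.el 75 by rw [conj_inv_of rx, inv_inv])]
        exact R.P9.inv_mem mx
      · rw [inv_conj (show R.el 327 * (R.el 42)⁻¹ * (R.el 327)⁻¹ = R.el 42 by rw [conj_inv_of ry, inv_inv])]
        exact R.P9.inv_mem my
    refine fun g => ⟨h g, fun hg => ?_⟩
    have := h _ (h _ (h _ hg))
    have e : R.el 327 * (R.el 327 * (R.el 327 * (R.el 327 * g * (R.el 327)⁻¹) * (R.el 327)⁻¹) * (R.el 327)⁻¹) *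
        (R.el 327)⁻¹ = g := by
      calc _ = (R.el 327 * R.el 327) * (R.el 327 * R.el 327) * g *
            ((R.el 327 * R.el 327) * (R.el 327 * R.el 327))⁻¹ := by group
        _ = g := by rw [R.r_sq, R.z_sq]; group
    rwa [e] at this
  have hK := CfsgLib.LivWag.klein_card_formula (H := O) hodd R.z_sq R.u_sq R.z_u.eq.symm
    (fun g hg => by have := zO g hg; rwa [R.z_inv] at this)
    (fun g hg => by have := uO g hg; rwa [hu, R.u_inv] at this)
  have hOz : ∀ g, g ∈ O ⊓ Subgroup.centralizer {z} ↔ g ∈ R.P9 := by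
    intro g
    rw [Subgroup.mem_inf, Subgroup.mem_centralizer_singleton_iff]
    constructor
    · rintro ⟨hg, hgz⟩
      obtain ⟨gx, gy, go⟩ := (hmem g).mp hg
      rcases R.cp_decomp hgz gx gy with h | ⟨c, hc, ec⟩
      · exact h
      · exfalso
        have h3 : (g * z) ^ 3 = 1 := by
          rw [← ec, show R.el c ^ 3 = R.el c * R.el c * R.el c by simp [pow_succ], ← R.map_mul, ← R.map_mul,
            (R.pList_spec hc).2.2.2.1, R.el_one]
        have e : g ^ 3 = z := by
          rw [(show Commute g z from hgz).mul_pow, show z ^ 3 = z * z * z by simp [pow_succ], R.z_sq, one_mul] at h3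
          rw [eq_inv_of_mul_eq_one_left h3, R.z_inv]
        have := Odd.of_dvd_nat go (orderOf_pow_dvd (x := g) 3)
        rw [e, R.ord] at this
        exact absurd this (by decide)
    · rintro ⟨c, hc, rfl⟩
      obtain ⟨h1, h2, h3, h4, -⟩ := R.pList_spec hc
      refine ⟨(hmem _).mpr ⟨h2, h3, ?_⟩, (R.el_z_comm h1).eq⟩
      refine Odd.of_dvd_nat (by decide : Odd 3) (orderOf_dvd_of_pow_eq_one ?_)
      rw [show R.el c ^ 3 = R.el c * R.el c * R.el c by simp [pow_succ], ← R.map_mul, ← R.map_mul, h4, R.el_one]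
  set A := O ⊓ Subgroup.centralizer {u} with hA
  have hAle : ∀ g ∈ A, ∃ c ∈ pList, T.k * R.el c * T.k⁻¹ = g := by
    intro g hg
    obtain ⟨hgO, hgu⟩ := Subgroup.mem_inf.mp hg
    obtain ⟨gx, gy, go⟩ := (hmem g).mp hgO
    have hz' : Commute (T.k⁻¹ * g * T.k) z := by
      have := comm_conj (n := T.k⁻¹) (b := u) (c := z) (by rw [inv_inv]; exact inv_conj T.k_z)
        (show Commute g u from Subgroup.mem_centralizer_singleton_iff.mp hgu)
      rwa [inv_inv] at this
    obtain ⟨c, hc, ec⟩ := R.surj _ hz'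
    refine ⟨c, ?_, by rw [ec]; group⟩
    have hcX : hMul c 78 = hMul 78 c := by
      refine R.code_of_commute ?_
      rw [ec]
      have hgX : Commute g (R.el 78) := by rw [← R.x_mul_y]; exact gx.mul_right gy
      exact ((T.k_X.inv_left.mul_left hgX).mul_left T.k_X)
    have h24 := (R.ord_code hc).1
    have ho : orderOf (R.el c) = orderOf g := by
      rw [ec, show T.k⁻¹ * g * T.k = MulAut.conj T.k⁻¹ g by simp, MulEquiv.orderOf_eq]
    have hd := orderOf_dvd_of_pow_eq_one h24
    rw [ho] at hd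
    have h3 : orderOf g ∣ 3 := by
      rw [show 24 = 2 ^ 3 * 3 from rfl] at hd
      exact (Nat.Coprime.pow_right 3 go.coprime_two_right).dvd_of_dvd_mul_left hd
    rw [← ho] at h3
    have hc3 : hMul (hMul c c) c = 39 := by
      refine R.inj _ _ (hMul_lt _ _) (by norm_num) ?_
      rw [R.map_mul, R.map_mul, R.el_one, show R.el c * R.el c * R.el c = R.el c ^ 3 by simp [pow_succ],
        orderOf_dvd_iff_pow_eq_one.mp h3]
    have key := List.all_eq_true.mp cx_odd c (List.mem_range.mpr hc)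
    simpa [hcX, hc3] using key
  set D := R.P9.map (MulAut.conj T.k).toMonoidHom with hD
  have hAD : A ≤ D := fun g hg => by
    obtain ⟨c, hc, e⟩ := hAle g hg
    exact ⟨R.el c, ⟨c, hc, rfl⟩, e⟩
  have hDc : Nat.card D = 9 := by
    rw [hD, Subgroup.card_map_of_injective (MulEquiv.injective _), R.card_P9]
  have hAdvd : Nat.card A ∣ 9 := hDc ▸ Subgroup.card_dvd_of_le hAD
  have hrA : Nat.card (O ⊓ Subgroup.centralizer {z * u} : Subgroup G) = Nat.card A := by
    have e : A.map (MulAut.conj (R.el 327)).toMonoidHom = O ⊓ Subgroup.centralizer {z * u} := by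
      have hru : R.el 327 * u * (R.el 327)⁻¹ = z * u := by rw [hu, R.r_u, R.z_u.eq]
      ext g
      constructor
      · rintro ⟨a, ha, rfl⟩
        obtain ⟨h1, h2⟩ := Subgroup.mem_inf.mp ha
        exact Subgroup.mem_inf.mpr ⟨(rO a).mp h1, Subgroup.mem_centralizer_singleton_iff.mpr
          (comm_conj hru (show Commute a u from Subgroup.mem_centralizer_singleton_iff.mp h2)).eq⟩
      · intro hg
        obtain ⟨h1, h2⟩ := Subgroup.mem_inf.mp hg
        refine ⟨(R.el 327)⁻¹ * g * R.el 327, Subgroup.mem_inf.mpr ⟨(rO _).mpr ?_, ?_⟩, ?_⟩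
        · rw [show R.el 327 * ((R.el 327)⁻¹ * g * R.el 327) * (R.el 327)⁻¹ = g by group]; exact h1
        · have h := comm_conj (n := (R.el 327)⁻¹) (c := u) (by rw [inv_inv]; exact inv_conj hru)
            (show Commute g (z * u) from Subgroup.mem_centralizer_singleton_iff.mp h2)
          rw [inv_inv] at h
          exact Subgroup.mem_centralizer_singleton_iff.mpr h.eq
        · show R.el 327 * ((R.el 327)⁻¹ * g * R.el 327) * (R.el 327)⁻¹ = g
          group
    rw [← e, Subgroup.card_map_of_injective (MulEquiv.injective _)]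
  have hCz : Nat.card (O ⊓ Subgroup.centralizer {z} : Subgroup G) = 9 := by
    rw [show O ⊓ Subgroup.centralizer {z} = R.P9 from SetLike.ext hOz, R.card_P9]
  have hE : Nat.card (O ⊓ Subgroup.centralizer {u} ⊓ Subgroup.centralizer {z} : Subgroup G) = 3 := by
    have hmemE : ∀ g, g ∈ O ⊓ Subgroup.centralizer {u} ⊓ Subgroup.centralizer {z} ↔
        ∃ c ∈ [39, 78, 117], R.el c = g := by
      intro g
      rw [Subgroup.mem_inf, Subgroup.mem_inf, ← pu_three]
      constructor
      · rintro ⟨⟨h1, h2⟩, h3⟩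
        obtain ⟨c, hc, rfl⟩ := (hOz g).mp (Subgroup.mem_inf.mpr ⟨h1, h3⟩)
        refine ⟨c, List.mem_filter.mpr ⟨hc, beq_iff_eq.mpr (R.code_of_commute ?_)⟩, rfl⟩
        exact Subgroup.mem_centralizer_singleton_iff.mp h2
      · rintro ⟨c, hc, rfl⟩
        obtain ⟨hc1, hc2⟩ := List.mem_filter.mp hc
        have h := Subgroup.mem_inf.mp ((hOz _).mpr ⟨c, hc1, rfl⟩)
        exact ⟨⟨h.1, Subgroup.mem_centralizer_singleton_iff.mpr (R.commute_of (beq_iff_eq.mp hc2)).eq⟩, h.2⟩
    rw [Nat.card_congr (Equiv.subtypeEquivRight hmemE), R.card_image (by decide) (by decide)]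
    rfl
  have hK' : Nat.card O * 3 ^ 2 = 9 * Nat.card A * Nat.card A := by
    rw [← hA] at hE
    rw [← hu] at hK
    rw [hE, hCz, hrA] at hK
    exact hK
  rcases (Nat.dvd_prime_pow Nat.prime_three).mp (show Nat.card A ∣ 3 ^ 2 from hAdvd) with ⟨i, hi, ei⟩
  interval_cases i
  · exfalso
    rw [ei] at hK'
    simp only [pow_zero, mul_one, show (3 : ℕ) ^ 2 = 9 from rfl] at hK'
    have : Nat.card (O ⊓ Subgroup.centralizer {z} : Subgroup G) ≤ Nat.card O :=
      Nat.card_le_card_of_injective _ (Subgroup.inclusion_injective inf_le_left)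
    rw [hCz] at this
    omega
  · right
    have hO9 : O = R.P9 := by
      refine (Subgroup.eq_of_le_of_card_ge (fun g hg => ((Subgroup.mem_inf.mp ((hOz g).mpr hg)).1)) ?_).symm
      rw [R.card_P9]
      rw [ei] at hK'
      norm_num at hK'
      omega
    intro g gx gy
    rcases hsplit g gx gy with h | h <;> rw [hO9] at h <;> obtain ⟨c, hc, ec⟩ := h
    · rw [← ec]; exact R.el_z_comm (R.pList_spec hc).1
    · have := R.el_z_comm (R.pList_spec hc).1
      rw [ec] at this
      simpa [mul_assoc, R.z_sq] using this.mul_left (Commute.refl z)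
  · left
    have hAD' : A = D := Subgroup.eq_of_le_of_card_ge hAD (by rw [hDc, ei]; norm_num)
    intro c hc
    have : T.k * R.el c * T.k⁻¹ ∈ A := hAD' ▸ ⟨R.el c, ⟨c, hc, rfl⟩, rfl⟩
    obtain ⟨hx, hy, -⟩ := (hmem _).mp (Subgroup.mem_inf.mp this).1
    exact ⟨hx, hy⟩

end Real

end CfsgLib.UFourThree
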