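import Cfsg.Agent.Lib.UFourThree.CosetData

/-!
The checks of the certificate of the coset enumeration, and their consequences in any action.
-/

set_option autoImplicit false
set_option maxRecDepth 100000
set_option Elab.async false

namespace CfsgLib.UFourThree

/-- Field `i` of width `w` of a packed number. -/
def fld (w c i : ℕ) : ℕ := (c >>> (w * i)) &&& (2 ^ w - 1)

/-- The packed fact of a step. -/
def fact (i : ℕ) : ℕ := fld 24 factCode i
/-- The kind of a fact: `0` an edge, `1` an equation. -/
def fK (v : ℕ) : ℕ := v &&& 3
/-- Its source. -/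
def fA (v : ℕ) : ℕ := (v >>> 2) &&& 127
/-- Its letter. -/
def fX (v : ℕ) : ℕ := (v >>> 9) &&& 31
/-- Its target. -/
def fB (v : ℕ) : ℕ := (v >>> 14) &&& 127

/-- The word of a name. -/
def nameW (p : ℕ) : List ℕ := nameWords.getD p []

/-- The opposite letter. -/
def opp (x : ℕ) : ℕ := if x % 2 = 0 then x + 1 else x - 1

/-- The other end of an edge with a given end and letter. -/
def stepE (d p x : ℕ) : Option ℕ :=
  let v := fact d
  if fK v == 0 && fA v == p && fX v == x then some (fB v)
  else if fK v == 0 && fB v == p && fX v == opp x then some (fA v) else none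

/-- Following a word along edges. -/
def trace : List ℕ → List ℕ → ℕ → Option ℕ
  | [], [], p => some p
  | x :: w, d :: ds, p => (stepE d p x).bind fun q => trace w ds q
  | _, _, _ => none

/-- The other member of an equation. -/
def otherEnd (d q : ℕ) : Option ℕ :=
  let v := fact d
  if fK v == 1 && fA v == q then some (fB v)
  else if fK v == 1 && fB v == q then some (fA v) else none

/-- The letters of the subgroup. -/
def subLetters : List ℕ := [0, 4, 6, 8, 10, 12, 14, 16, 18]

/-- The dependencies of a step. -/
def deps (s : ℕ) : List ℕ := (List.range ((s >>> 20) &&& 15)).map fun j => (s >>> (24 + 11 * j)) &&& 2047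

/-- A rotated relator. -/
def rotW (w pos : ℕ) : List ℕ := (relWords.getD w []).drop pos ++ (relWords.getD w []).take pos

/-- One step of the certificate. -/
def stepOK (i s : ℕ) : Bool :=
  let v := fact i
  let t := s &&& 7
  let ds := deps s
  let wi := (s >>> 3) &&& 63
  let pos := (s >>> 16) &&& 15
  ds.all (fun d => Nat.blt d i) &&
  (if t == 0 then fK v == 0 && fA v == 0 && fB v == 0 && subLetters.contains (fX v)
  else if t == 1 then fK v == 0 && nameW (fB v) == fX v :: nameW (fA v)
  else if t == 2 then
    fK v == 0 &&
      match rotW wi pos with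
      | [] => false
      | l :: rest => l == fX v && trace rest ds (fB v) == some (fA v)
  else if t == 3 then fK v == 1 && trace (rotW wi pos) ds (fB v) == some (fA v)
  else if t == 4 then
    fK v == 0 &&
      match ds with
      | [d0, d1] => (otherEnd d0 (fA v)).any fun p => stepE d1 p (fX v) == some (fB v)
      | _ => false
  else
    fK v == 1 &&
      match ds with
      | [d0, d1] => stepE d0 ((s >>> 9) &&& 127) wi == some (fA v) && stepE d1 ((s >>> 9) &&& 127) wi == some (fB v)
      | _ => false)

/-- A chunk of steps. -/
def chunkOK (off : ℕ) : List ℕ → Bool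
  | [] => true
  | s :: l => stepOK off s && chunkOK (off + 1) l

theorem chunk0 : chunkOK 0 stepsPart0 = true := by decide +kernel
theorem chunk1 : chunkOK 100 stepsPart1 = true := by decide +kernel
theorem chunk2 : chunkOK 200 stepsPart2 = true := by decide +kernel
theorem chunk3 : chunkOK 300 stepsPart3 = true := by decide +kernel
theorem chunk4 : chunkOK 400 stepsPart4 = true := by decide +kernel
theorem chunk5 : chunkOK 500 stepsPart5 = true := by decide +kernel
theorem chunk6 : chunkOK 600 stepsPart6 = true := by decide +kernel
theorem chunk7 : chunkOK 700 stepsPart7 = true := by decide +kernel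
theorem chunk8 : chunkOK 800 stepsPart8 = true := by decide +kernel
theorem chunk9 : chunkOK 900 stepsPart9 = true := by decide +kernel
theorem chunk10 : chunkOK 1000 stepsPart10 = true := by decide +kernel
theorem chunk11 : chunkOK 1100 stepsPart11 = true := by decide +kernel

theorem chunk_lengths : [stepsPart0, stepsPart1, stepsPart2, stepsPart3, stepsPart4, stepsPart5, stepsPart6,
    stepsPart7, stepsPart8, stepsPart9, stepsPart10, stepsPart11].map List.length =
    [100, 100, 100, 100, 100, 100, 100, 100, 100, 100, 100, 3] := by decide +kernel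

theorem exists_stepOK {i : ℕ} (hi : i < 1103) : ∃ s, stepOK i s = true := by
  have aux : ∀ (l : List ℕ) (off i : ℕ), chunkOK off l = true → off ≤ i → i < off + l.length →
      ∃ s, stepOK i s = true := by
    intro l
    induction l with
    | nil => intro off i _ h1 h2; simp at h2; omega
    | cons s l ih =>
      intro off i h h1 h2
      simp only [chunkOK, Bool.and_eq_true] at h
      rcases Nat.eq_or_lt_of_le h1 with rfl | hlt
      · exact ⟨s, h.1⟩
      · exact ih (off + 1) i h.2 (by omega) (by simp at h2; omega)
  have hl := chunk_lengths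
  simp only [List.map_cons, List.map_nil, List.cons.injEq, and_true] at hl
  obtain ⟨l0, l1, l2, l3, l4, l5, l6, l7, l8, l9, l10, l11⟩ := hl
  rcases (show (i < 100) ∨ (100 ≤ i ∧ i < 200) ∨ (200 ≤ i ∧ i < 300) ∨ (300 ≤ i ∧ i < 400) ∨ (400 ≤ i ∧ i < 500) ∨
    (500 ≤ i ∧ i < 600) ∨ (600 ≤ i ∧ i < 700) ∨ (700 ≤ i ∧ i < 800) ∨ (800 ≤ i ∧ i < 900) ∨ (900 ≤ i ∧ i < 1000) ∨
    (1000 ≤ i ∧ i < 1100) ∨ (1100 ≤ i) by omega) with h | h | h | h | h | h | h | h | h | h | h | h
  · exact aux _ 0 i chunk0 (Nat.zero_le _) (by omega)
  · exact aux _ 100 i chunk1 h.1 (by omega)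
  · exact aux _ 200 i chunk2 h.1 (by omega)
  · exact aux _ 300 i chunk3 h.1 (by omega)
  · exact aux _ 400 i chunk4 h.1 (by omega)
  · exact aux _ 500 i chunk5 h.1 (by omega)
  · exact aux _ 600 i chunk6 h.1 (by omega)
  · exact aux _ 700 i chunk7 h.1 (by omega)
  · exact aux _ 800 i chunk8 h.1 (by omega)
  · exact aux _ 900 i chunk9 h.1 (by omega)
  · exact aux _ 1000 i chunk10 h.1 (by omega)
  · exact aux _ 1100 i chunk11 h (by omega)

/-- The image in the table of a point under a generator. -/
def tableT (p j : ℕ) : ℕ := fld 8 tableCode (6 * p + j)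

/-- The letter of a generator of the table. -/
def tableLetter (j : ℕ) : ℕ := 2 * j

theorem final_ok : ((List.range 112).all fun p => (List.range 6).all fun j =>
    Nat.blt (fld 11 finalCode (6 * p + j)) 1103 && Nat.blt (tableT p j) 112 &&
      stepE (fld 11 finalCode (6 * p + j)) p (tableLetter j) == some (tableT p j)) = true := by
  decide +kernel

section Sound

variable {α : Type*} (act : ℕ → α → α)

/-- Applying a word, first letter first. -/
def actW : List ℕ → α → α
  | [], c => c
  | x :: w, c => actW w (act x c)

theorem actW_append (v w : List ℕ) (c : α) : actW act (v ++ w) c = actW act w (actW act v c) := by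
  induction v generalizing c with
  | nil => rfl
  | cons x v ih => exact ih _

/-- The point of a name. -/
def pt (base : α) : List ℕ → α
  | [] => base
  | x :: w => act x (pt base w)

/-- The meaning of a fact. -/
def Holds (base : α) (i : ℕ) : Prop :=
  (fK (fact i) = 0 → act (fX (fact i)) (pt act base (nameW (fA (fact i)))) = pt act base (nameW (fB (fact i)))) ∧
  (fK (fact i) = 1 → pt act base (nameW (fA (fact i))) = pt act base (nameW (fB (fact i))))

variable {act} {base : α} (hopp : ∀ x c, act (opp x) (act x c) = c)
  (hrel : ∀ w pos c, actW act (rotW w pos) c = c) (hsub : ∀ x ∈ subLetters, act x base = base)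

theorem opp_opp (x : ℕ) : opp (opp x) = x := by
  unfold opp
  split_ifs <;> omega

include hopp in
theorem act_inj (x : ℕ) : Function.Injective (act x) := fun a b h => by rw [← hopp x a, h, hopp]

include hopp in
theorem stepE_sound {d p x q : ℕ} (hd : Holds act base d) (h : stepE d p x = some q) :
    act x (pt act base (nameW p)) = pt act base (nameW q) := by
  unfold stepE at h
  simp only at h
  split_ifs at h with h1 h2
  · simp only [Bool.and_eq_true, beq_iff_eq] at h1
    obtain ⟨⟨hk, rfl⟩, rfl⟩ := h1
    rw [← Option.some.inj h]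
    exact hd.1 hk
  · simp only [Bool.and_eq_true, beq_iff_eq] at h2
    obtain ⟨⟨hk, rfl⟩, hx⟩ := h2
    rw [← Option.some.inj h, ← hd.1 hk, hx]
    conv_lhs => arg 1; rw [← opp_opp x]
    exact hopp _ _

theorem otherEnd_sound {d p q : ℕ} (hd : Holds act base d) (h : otherEnd d q = some p) :
    pt act base (nameW p) = pt act base (nameW q) := by
  unfold otherEnd at h
  simp only at h
  split_ifs at h with h1 h2
  · simp only [Bool.and_eq_true, beq_iff_eq] at h1
    obtain ⟨hk, rfl⟩ := h1
    rw [← Option.some.inj h]
    exact (hd.2 hk).symm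
  · simp only [Bool.and_eq_true, beq_iff_eq] at h2
    obtain ⟨hk, rfl⟩ := h2
    rw [← Option.some.inj h]
    exact hd.2 hk

include hopp in
theorem trace_sound : ∀ (w ds : List ℕ) (p q : ℕ), (∀ d ∈ ds, Holds act base d) → trace w ds p = some q →
    actW act w (pt act base (nameW p)) = pt act base (nameW q)
  | [], [], p, q, _, h => by rw [← Option.some.inj h]; rfl
  | x :: w, d :: ds, p, q, hd, h => by
    simp only [trace, Option.bind_eq_some_iff] at h
    obtain ⟨r, h1, h2⟩ := h
    rw [actW, stepE_sound hopp (hd d (by simp)) h1]
    exact trace_sound w ds r q (fun e he => hd e (by simp [he])) h2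
  | [], _ :: _, _, _, _, h => by simp [trace] at h
  | _ :: _, [], _, _, _, h => by simp [trace] at h

include hopp hrel hsub in
theorem holds : ∀ i, i < 1103 → Holds act base i := by
  intro i
  induction i using Nat.strong_induction_on with
  | _ i ih =>
    intro hi
    obtain ⟨s, hs⟩ := exists_stepOK hi
    unfold stepOK at hs
    simp only [Bool.and_eq_true, List.all_eq_true, Nat.blt_eq] at hs
    obtain ⟨hd, hs⟩ := hs
    have hdep : ∀ d ∈ deps s, Holds act base d := fun d h => ih d (hd d h) (by have := hd d h; omega)
    split_ifs at hs with h0 h1 h2 h3 h4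
    · simp only [Bool.and_eq_true, beq_iff_eq, List.contains_iff_mem] at hs
      obtain ⟨⟨⟨hk, ha⟩, hb⟩, hx⟩ := hs
      refine ⟨fun _ => ?_, fun h => by omega⟩
      rw [ha, hb, show nameW 0 = [] by decide +kernel]
      exact hsub _ hx
    · simp only [Bool.and_eq_true, beq_iff_eq] at hs
      obtain ⟨hk, hw⟩ := hs
      refine ⟨fun _ => ?_, fun h => by omega⟩
      rw [hw]
      rfl
    · simp only [Bool.and_eq_true, beq_iff_eq] at hs
      obtain ⟨hk, hs⟩ := hs
      refine ⟨fun _ => ?_, fun h => by omega⟩
      split at hs
      · simp at hs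
      · rename_i l rest heq
        simp only [Bool.and_eq_true, beq_iff_eq] at hs
        obtain ⟨rfl, ht⟩ := hs
        have h := trace_sound hopp rest _ _ _ hdep ht
        have h' := hrel ((s >>> 3) &&& 63) ((s >>> 16) &&& 15) (pt act base (nameW (fA (fact i))))
        rw [heq, actW] at h'
        have hinj : ∀ w, Function.Injective (actW act w) := by
          intro w
          induction w with
          | nil => exact fun a b e => e
          | cons x w ihw => exact fun a b e => act_inj hopp x (ihw e)
        exact hinj rest (h'.trans h.symm)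
    · simp only [Bool.and_eq_true, beq_iff_eq] at hs
      obtain ⟨hk, ht⟩ := hs
      refine ⟨fun h => by omega, fun _ => ?_⟩
      rw [← trace_sound hopp _ _ _ _ hdep ht, hrel]
    · simp only [Bool.and_eq_true, beq_iff_eq] at hs
      obtain ⟨hk, hs⟩ := hs
      refine ⟨fun _ => ?_, fun h => by omega⟩
      split at hs
      · rename_i d0 d1 heq
        simp only [Option.any_eq_true, beq_iff_eq] at hs
        obtain ⟨p, hp, he⟩ := hs
        rw [← otherEnd_sound (hdep d0 (by simp [heq])) hp]
        exact stepE_sound hopp (hdep d1 (by simp [heq])) he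
      · simp at hs
    · simp only [Bool.and_eq_true, beq_iff_eq] at hs
      obtain ⟨hk, hs⟩ := hs
      refine ⟨fun h => by omega, fun _ => ?_⟩
      split at hs
      · rename_i d0 d1 heq
        simp only [Bool.and_eq_true, beq_iff_eq] at hs
        rw [← stepE_sound hopp (hdep d0 (by simp [heq])) hs.1]
        exact stepE_sound hopp (hdep d1 (by simp [heq])) hs.2
      · simp at hs

include hopp hrel hsub in
theorem table_sound {p j : ℕ} (hp : p < 112) (hj : j < 6) :
    tableT p j < 112 ∧ act (tableLetter j) (pt act base (nameW p)) = pt act base (nameW (tableT p j)) := by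
  have key := List.all_eq_true.mp (List.all_eq_true.mp final_ok p (List.mem_range.mpr hp)) j
    (List.mem_range.mpr hj)
  simp only [Bool.and_eq_true, Nat.blt_eq, beq_iff_eq] at key
  exact ⟨key.1.2, stepE_sound hopp (holds hopp hrel hsub _ key.1.1) key.2⟩

end Sound

end CfsgLib.UFourThree
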