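import Cfsg.Agent.Lib.UFourThree.Setup

/-!
An element exchanging the involution with a second involution of the normal 2-subgroup of its
centraliser.
-/

set_option autoImplicit false
set_option maxRecDepth 100000
set_option Elab.async false

namespace CfsgLib.UFourThree

/-- Codes of the centraliser of the second involution in the normal 2-subgroup. -/
def cList : List ℕ := qList.filter fun q => kMul q 0 == kMul 0 q

/-- Codes of the four group spanned by the two involutions. -/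
def eList : List ℕ := [39, 183, 0, 144]

theorem zp_conj : (qList.all fun q => !(kMul q q == 39) || q == 39 || q == 183 ||
    (List.range 288).any fun k => kMul (kMul k q) (kInv k) == 0) = true := by decide +kernel

theorem cent_zp : ((List.range 288).all fun n => !(kMul n 0 == kMul 0 n) || cList.contains n) = true := by
  decide +kernel

theorem c_facts : (cList.all fun c => inQ c && kMul c 0 == kMul 0 c) = true ∧
    (eList.all fun e => cList.contains e) = true ∧ kMul 183 0 = 144 ∧ cList.length = 16 ∧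
    cList.Nodup ∧ (cList.all fun c => cList.all fun c' => cList.contains (kMul c c')) = true ∧
    (cList.any fun c => cList.any fun c' => kMul (kMul (kMul c c') (kInv c)) (kInv c') == 183) = true ∧
    (cList.all fun c => eList.contains c || !(eList.any fun e => kMul c e == 39)) = true := by
  decide +kernel

variable {G : Type*} [Group G] {z : G}

namespace Setting

variable (S : Setting z)

theorem mem_cList {c : ℕ} (h : c ∈ cList) : inQ c = true ∧ kMul c 0 = kMul 0 c := by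
  have hh := List.all_eq_true.mp c_facts.1 c h
  simpa using hh

theorem cList_lt {c : ℕ} (h : c ∈ cList) : c < 288 := Pair.inQ_lt (mem_cList h).1

theorem mem_cList_of {c : ℕ} (hc : c < 288) (h : Commute (S.P.kEl c) (S.P.kEl 0)) : c ∈ cList := by
  have e : kMul c 0 = kMul 0 c := S.inj _ _ (Pair.kMul_lt hc (by norm_num))
    (Pair.kMul_lt (by norm_num) hc)
    (by rw [S.P.kEl_mul' hc (by norm_num), S.P.kEl_mul' (by norm_num) hc]; exact h.eq)
  have hh := List.all_eq_true.mp cent_zp c (List.mem_range.mpr hc)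
  simpa [e] using hh

theorem cList_comm {c : ℕ} (h : c ∈ cList) : Commute (S.P.kEl c) (S.P.kEl 0) := by
  have hc := cList_lt h
  have e := (mem_cList h).2
  show S.P.kEl c * S.P.kEl 0 = S.P.kEl 0 * S.P.kEl c
  rw [← S.P.kEl_mul' hc (by norm_num), ← S.P.kEl_mul' (by norm_num) hc, e]

include S in
theorem sq_z : z * z = 1 := S.P.fst.z_sq

theorem kEl_comm_z (n : ℕ) : Commute (S.P.kEl n) z :=
  ((S.P.fst.z_comm _).mul_right (S.P.snd.z_comm _)).symm

include S in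
theorem qSub_normal {h x : G} (hh : Commute h z) (hx : x ∈ S.P.qSub) : h * x * h⁻¹ ∈ S.P.qSub := by
  obtain ⟨n, hn, rfl⟩ := hx
  have hn' := Pair.inQ_lt hn
  obtain ⟨m, hm, e⟩ := S.conjK h hh n hn'
  refine ⟨m, ?_, e.symm⟩
  have hp := List.all_eq_true.mp q_pow m (List.mem_range.mpr hm)
  simp only [Bool.and_eq_true, Bool.or_eq_true, Bool.not_eq_true', beq_eq_false_iff_ne] at hp
  refine hp.2.resolve_left fun hne => hne ?_
  have h2 := Pair.kMul_lt hm hm
  have h4 := Pair.kMul_lt h2 h2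
  have h8 := Pair.kMul_lt h4 h4
  have h16 := Pair.kMul_lt h8 h8
  have hq := List.all_eq_true.mp q_pow n (List.mem_range.mpr hn')
  simp only [Bool.and_eq_true, Bool.or_eq_true, Bool.not_eq_true', beq_iff_eq, hn, Bool.true_eq_false,
    false_or] at hq
  have n2 := Pair.kMul_lt hn' hn'
  have h4n : S.P.kEl n ^ 4 = 1 := by
    have := congrArg S.P.kEl hq.1
    rw [S.P.kEl_mul' n2 n2, S.P.kEl_mul' hn' hn', S.P.kEl_one] at this
    rw [← this]; simp only [pow_succ, pow_zero, one_mul, mul_assoc]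
  refine S.inj _ _ (Pair.kMul_lt h16 h16) (by norm_num) ?_
  rw [S.P.kEl_mul' h16 h16, S.P.kEl_mul' h8 h8, S.P.kEl_mul' h4 h4, S.P.kEl_mul' h2 h2,
    S.P.kEl_mul' hm hm, S.P.kEl_one, ← e]
  have h32 : (h * S.P.kEl n * h⁻¹) ^ 32 = 1 := by
    rw [conj_pow, show (32 : ℕ) = 4 * 8 from rfl, pow_mul, h4n, one_pow, mul_one, mul_inv_cancel]
  rw [← h32]; simp only [pow_succ, pow_zero, one_mul, mul_assoc]

/-- The second involution. -/
def zp : G := S.P.kEl 0

theorem kEl_144 : S.P.kEl 144 = z * S.zp := by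
  rw [← c_facts.2.2.1, S.P.kEl_mul' (by norm_num) (by norm_num), S.P.kEl_z]
  rfl

/-- An element exchanging `z` and the second involution, with what it gives in the centraliser. -/
structure Flip where
  /-- The element. -/
  g : G
  g_z : g * z * g⁻¹ = S.zp
  g_zp : g * S.zp * g⁻¹ = z
  mem_H : ∀ c ∈ cList, Commute (g * S.P.kEl c * g⁻¹) z
  cover : ∀ h, Commute h z → ∃ k, k < 288 ∧ ∃ c ∈ cList, h * S.P.kEl k = g * S.P.kEl c * g⁻¹
  comm_mem : ∀ c ∈ cList, ∀ c' ∈ cList, ∃ e ∈ eList,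
    S.P.kEl c' * (g * S.P.kEl c * g⁻¹) * (S.P.kEl c')⁻¹ * (g * S.P.kEl c * g⁻¹)⁻¹ = S.P.kEl e
  inter_mem : ∀ c ∈ cList, ∀ n, n < 288 → g * S.P.kEl c * g⁻¹ = S.P.kEl n → n ∈ eList

theorem exists_flip [Finite G] : Nonempty S.Flip := by
  classical
  obtain ⟨g₀, n₀, hn₀, hne₀, hg₀⟩ := S.weak
  have hzz := S.sq_z
  have hord := S.ord
  have hz1 : z ≠ 1 := fun h => by rw [h, orderOf_one] at hord; omega
  -- every involution of this kind is conjugate to the chosen one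
  have hkey : ∀ q, inQ q = true → q ≠ 183 → (∃ x, x * z * x⁻¹ = S.P.kEl q) →
      ∃ k, k < 288 ∧ S.P.kEl k * S.P.kEl q * (S.P.kEl k)⁻¹ = S.zp := by
    rintro q hq hne ⟨x, hx⟩
    have hql := Pair.inQ_lt hq
    have hsq : S.P.kEl q * S.P.kEl q = 1 := by
      rw [← hx]
      calc x * z * x⁻¹ * (x * z * x⁻¹) = x * (z * z) * x⁻¹ := by group
        _ = 1 := by rw [hzz, mul_one, mul_inv_cancel]
    have e39 : kMul q q = 39 := S.inj _ _ (Pair.kMul_lt hql hql) (by norm_num)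
      (by rw [S.P.kEl_mul' hql hql, S.P.kEl_one, hsq])
    have hq39 : q ≠ 39 := fun e => by
      rw [e, S.P.kEl_one] at hx
      exact hz1 (conj_eq_one_iff.mp hx)
    have := List.all_eq_true.mp zp_conj q (Pair.mem_qList hq)
    simp only [e39, beq_self_eq_true, Bool.not_true, Bool.false_or, Bool.or_eq_true, beq_iff_eq,
      hq39, hne, false_or, List.any_eq_true, List.mem_range] at this
    obtain ⟨k, hk, ek⟩ := this
    refine ⟨k, hk, ?_⟩
    rw [← S.P.kEl_inv, ← S.P.kEl_mul' hk hql, ← S.P.kEl_mul' (Pair.kMul_lt hk hql) (Pair.kInv_lt hk), ek]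
    rfl
  obtain ⟨k₀, -, hk₀c⟩ := hkey n₀ hn₀ hne₀ ⟨g₀, hg₀⟩
  set g₁ := S.P.kEl k₀ * g₀ with hg₁d
  have hg₁ : g₁ * z * g₁⁻¹ = S.zp := by
    rw [← hk₀c, ← hg₀, hg₁d]; group
  -- the intersection is the four group
  set D := S.P.qSub ⊓ S.P.qSub.map (MulAut.conj g₁).toMonoidHom with hDd
  have h0Q : inQ 0 = true := by decide +kernel
  have hD4 : Nat.card D = 4 := S.inter g₁ 0 h0Q (by norm_num) hg₁
  have hC : ∀ c ∈ cList, Commute (S.P.kEl c) (g₁ * z * g₁⁻¹) := fun c hc => by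
    rw [hg₁]; exact S.cList_comm hc
  have hback : ∀ c ∈ cList, Commute (g₁⁻¹ * S.P.kEl c * g₁) z := by
    intro c hc
    show g₁⁻¹ * S.P.kEl c * g₁ * z = z * (g₁⁻¹ * S.P.kEl c * g₁)
    calc g₁⁻¹ * S.P.kEl c * g₁ * z = g₁⁻¹ * (S.P.kEl c * (g₁ * z * g₁⁻¹)) * g₁ := by group
      _ = g₁⁻¹ * ((g₁ * z * g₁⁻¹) * S.P.kEl c) * g₁ := by rw [(hC c hc).eq]
      _ = _ := by group
  have hmemD : ∀ x, x ∈ D ↔ x ∈ S.P.qSub ∧ g₁⁻¹ * x * g₁ ∈ S.P.qSub := by
    intro x
    constructor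
    · rintro ⟨hx, y, hy, rfl⟩
      exact ⟨hx, by simpa [mul_assoc] using hy⟩
    · rintro ⟨hx, hy⟩
      exact ⟨hx, _, hy, by simp [mul_assoc]⟩
  have hDc : ∀ x ∈ D, ∃ c ∈ cList, S.P.kEl c = x := by
    intro x hx
    obtain ⟨⟨c, hc, rfl⟩, ⟨y, ⟨m, hm, rfl⟩, hy⟩⟩ := hx
    refine ⟨c, S.mem_cList_of (Pair.inQ_lt hc) ?_, rfl⟩
    have hy' : g₁ * S.P.kEl m * g₁⁻¹ = S.P.kEl c := hy
    rw [← hy', show S.P.kEl 0 = g₁ * z * g₁⁻¹ from hg₁.symm]
    show g₁ * S.P.kEl m * g₁⁻¹ * (g₁ * z * g₁⁻¹) = g₁ * z * g₁⁻¹ * (g₁ * S.P.kEl m * g₁⁻¹)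
    calc g₁ * S.P.kEl m * g₁⁻¹ * (g₁ * z * g₁⁻¹) = g₁ * (S.P.kEl m * z) * g₁⁻¹ := by group
      _ = g₁ * (z * S.P.kEl m) * g₁⁻¹ := by rw [(S.kEl_comm_z m).eq]
      _ = _ := by group
  obtain ⟨f1, f2, f3, f4, f5, f6, f7, f8⟩ := c_facts
  let Cg : Subgroup G :=
    { carrier := {x | ∃ c ∈ cList, S.P.kEl c = x}
      one_mem' := ⟨39, by decide +kernel, S.P.kEl_one⟩
      mul_mem' := by
        rintro _ _ ⟨a, ha, rfl⟩ ⟨b, hb, rfl⟩
        refine ⟨kMul a b, ?_, S.P.kEl_mul' (cList_lt ha) (cList_lt hb)⟩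
        simpa using List.all_eq_true.mp (List.all_eq_true.mp f6 a ha) b hb
      inv_mem' := by
        rintro _ ⟨a, ha, rfl⟩
        refine ⟨kInv a, S.mem_cList_of (Pair.kInv_lt (cList_lt ha)) ?_, S.P.kEl_inv a⟩
        rw [S.P.kEl_inv]
        exact (S.cList_comm ha).inv_left }
  have hCg16 : Nat.card Cg = 16 := by
    rw [← f4, ← List.toFinset_card_of_nodup f5]
    have e : (cList.toFinset.image S.P.kEl : Set G) = (Cg : Set G) := by
      ext x
      simp only [Finset.coe_image, List.coe_toFinset, Set.mem_image, Set.mem_setOf_eq, SetLike.mem_coe]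
      exact Iff.rfl
    rw [← SetLike.coe_sort_coe, ← e, Nat.card_coe_set_eq, Set.ncard_coe_finset,
      Finset.card_image_of_injOn]
    intro a ha b hb hab
    exact S.inj a b (cList_lt (List.mem_toFinset.mp ha)) (cList_lt (List.mem_toFinset.mp hb)) hab
  have hDle : D ≤ Cg := fun x hx => hDc x hx
  have hDn : (D.subgroupOf Cg).Normal := by
    refine ⟨fun a ha b => ?_⟩
    obtain ⟨c, hc, hb⟩ := b.2
    rw [Subgroup.mem_subgroupOf] at ha ⊢
    rw [hmemD] at ha ⊢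
    push_cast
    rw [← hb]
    refine ⟨S.qSub_normal (S.kEl_comm_z c) ha.1, ?_⟩
    have := S.qSub_normal (hback c hc) ha.2
    convert this using 1
    group
  have hzD : z ∈ D := by
    have hcomm : IsMulCommutative (Cg ⧸ D.subgroupOf Cg) := by
      haveI : Fact (Nat.Prime 2) := ⟨Nat.prime_two⟩
      have hcard : Nat.card (Cg ⧸ D.subgroupOf Cg) = 2 ^ 2 := by
        have h := (D.subgroupOf Cg).index_mul_card
        rw [Nat.card_congr (Subgroup.subgroupOfEquivOfLe hDle).toEquiv, hD4, hCg16] at h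
        rw [← Subgroup.index_eq_card]
        omega
      exact IsPGroup.isMulCommutative_of_card_eq_prime_sq hcard
    simp only [List.any_eq_true, beq_iff_eq] at f7
    obtain ⟨a, ha, b, hb, hab⟩ := f7
    have la := cList_lt ha
    have lb := cList_lt hb
    set u : Cg := ⟨S.P.kEl a, a, ha, rfl⟩
    set v : Cg := ⟨S.P.kEl b, b, hb, rfl⟩
    have hq : ((u * v * u⁻¹ * v⁻¹ : Cg) : Cg ⧸ D.subgroupOf Cg) = 1 := by
      rw [QuotientGroup.mk_mul, QuotientGroup.mk_mul, QuotientGroup.mk_mul, mul_comm' (u : Cg ⧸ D.subgroupOf Cg)]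
      simp
    rw [QuotientGroup.eq_one_iff, Subgroup.mem_subgroupOf] at hq
    have e : ((u * v * u⁻¹ * v⁻¹ : Cg) : G) = z := by
      rw [← S.P.kEl_z, ← hab, S.P.kEl_mul' (Pair.kMul_lt (Pair.kMul_lt la lb) (Pair.kInv_lt la)) (Pair.kInv_lt lb),
        S.P.kEl_mul' (Pair.kMul_lt la lb) (Pair.kInv_lt la), S.P.kEl_mul' la lb, S.P.kEl_inv, S.P.kEl_inv]
      rfl
    rwa [e] at hq
  -- normalise the element
  obtain ⟨-, n₁, hn₁, hn₁e⟩ : z ∈ S.P.qSub ∧ g₁⁻¹ * z * g₁ ∈ S.P.qSub := (hmemD z).mp hzD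
  have hn₁ne : n₁ ≠ 183 := by
    intro e
    rw [e, S.P.kEl_z] at hn₁e
    have hc : g₁ * z * g₁⁻¹ = z := by
      calc g₁ * z * g₁⁻¹ = g₁ * (g₁⁻¹ * z * g₁) * g₁⁻¹ := by rw [← hn₁e]
        _ = z := by group
    rw [hg₁] at hc
    exact absurd (S.inj 0 183 (by norm_num) (by norm_num) (hc.trans S.P.kEl_z.symm)) (by norm_num)
  obtain ⟨k₁, -, hk₁c⟩ := hkey n₁ hn₁ hn₁ne ⟨g₁⁻¹, by rw [hn₁e, inv_inv]⟩
  have hkz : S.P.kEl k₁ * z * (S.P.kEl k₁)⁻¹ = z := by rw [(S.kEl_comm_z k₁).eq, mul_inv_cancel_right]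
  set g := g₁ * (S.P.kEl k₁)⁻¹ with hgd
  have hg : g * z * g⁻¹ = S.zp := by
    rw [← hg₁]
    calc g * z * g⁻¹ = g₁ * ((S.P.kEl k₁)⁻¹ * z * S.P.kEl k₁) * g₁⁻¹ := by rw [hgd]; group
      _ = _ := by
        rw [show (S.P.kEl k₁)⁻¹ * z * S.P.kEl k₁ = z from by
          rw [(S.kEl_comm_z k₁).inv_left.eq, inv_mul_cancel_right]]
  have hg' : g * S.zp * g⁻¹ = z := by
    rw [← hk₁c, hn₁e, hgd]; group
  have hmemH : ∀ c ∈ cList, Commute (g * S.P.kEl c * g⁻¹) z := by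
    intro c hc
    have h := (S.cList_comm hc).eq
    suffices key : Commute (g * S.P.kEl c * g⁻¹) (g * S.zp * g⁻¹) by rwa [hg'] at key
    show g * S.P.kEl c * g⁻¹ * (g * S.zp * g⁻¹) = g * S.zp * g⁻¹ * (g * S.P.kEl c * g⁻¹)
    calc g * S.P.kEl c * g⁻¹ * (g * S.zp * g⁻¹) = g * (S.P.kEl c * S.P.kEl 0) * g⁻¹ := by
          simp only [Setting.zp]; group
      _ = g * (S.P.kEl 0 * S.P.kEl c) * g⁻¹ := by rw [h]
      _ = _ := by simp only [Setting.zp]; group
  -- the four group again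
  set D' := S.P.qSub ⊓ S.P.qSub.map (MulAut.conj g).toMonoidHom with hD'd
  have hD'4 : Nat.card D' = 4 := S.inter g 0 h0Q (by norm_num) hg
  have hmemD' : ∀ x, x ∈ D' ↔ x ∈ S.P.qSub ∧ g⁻¹ * x * g ∈ S.P.qSub := by
    intro x
    constructor
    · rintro ⟨hx, y, hy, rfl⟩
      exact ⟨hx, by simpa [mul_assoc] using hy⟩
    · rintro ⟨hx, hy⟩
      exact ⟨hx, _, hy, by simp [mul_assoc]⟩
  have hzp' : g⁻¹ * S.zp * g = z := by
    rw [← hg]; group
  have hz' : g⁻¹ * z * g = S.zp := by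
    conv_lhs => rw [← hg']
    group
  have hzq : z ∈ S.P.qSub := ⟨183, by decide +kernel, S.P.kEl_z⟩
  have hpq : S.zp ∈ S.P.qSub := ⟨0, h0Q, rfl⟩
  have hE : ∀ x ∈ D', ∃ e ∈ eList, S.P.kEl e = x := by
    have hs : (eList.toFinset.image S.P.kEl : Set G) ⊆ (D' : Set G) := by
      intro x hx
      simp only [Finset.coe_image, List.coe_toFinset, Set.mem_image, Set.mem_setOf_eq] at hx
      obtain ⟨e, he, rfl⟩ := hx
      have hin : z ∈ D' ∧ S.zp ∈ D' := by
        rw [hmemD', hmemD', hz', hzp']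
        exact ⟨⟨hzq, hpq⟩, hpq, hzq⟩
      simp only [eList, List.mem_cons, List.not_mem_nil, or_false] at he
      rcases he with rfl | rfl | rfl | rfl
      · show S.P.kEl 39 ∈ D'
        rw [S.P.kEl_one]; exact D'.one_mem
      · show S.P.kEl 183 ∈ D'
        simp only [S.P.kEl_z]; exact hin.1
      · exact hin.2
      · show S.P.kEl 144 ∈ D'
        simp only [S.kEl_144]; exact D'.mul_mem hin.1 hin.2
    have h4 : (eList.toFinset.image S.P.kEl : Set G).ncard = 4 := by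
      rw [Set.ncard_coe_finset, Finset.card_image_of_injOn]
      · rfl
      · intro a ha b hb hab
        have hl : ∀ e ∈ eList, e < 288 := by decide
        exact S.inj a b (hl a (List.mem_toFinset.mp ha)) (hl b (List.mem_toFinset.mp hb)) hab
    have heq := Set.eq_of_subset_of_ncard_le hs (by rw [h4, ← Nat.card_coe_set_eq]; exact hD'4.le)
    intro x hx
    rw [← SetLike.mem_coe, ← heq] at hx
    simpa using hx
  -- commutators
  have hcm : ∀ c ∈ cList, ∀ c' ∈ cList, ∃ e ∈ eList,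
      S.P.kEl c' * (g * S.P.kEl c * g⁻¹) * (S.P.kEl c')⁻¹ * (g * S.P.kEl c * g⁻¹)⁻¹ = S.P.kEl e := by
    intro c hc c' hc'
    have hq' : S.P.kEl c' ∈ S.P.qSub := ⟨c', (mem_cList hc').1, rfl⟩
    have hq : S.P.kEl c ∈ S.P.qSub := ⟨c, (mem_cList hc).1, rfl⟩
    have hconj : Commute (g⁻¹ * S.P.kEl c' * g) z := by
      have h := (S.cList_comm hc').eq
      suffices key : Commute (g⁻¹ * S.P.kEl c' * g) (g⁻¹ * S.zp * g) by rwa [hzp'] at key
      show g⁻¹ * S.P.kEl c' * g * (g⁻¹ * S.zp * g) = g⁻¹ * S.zp * g * (g⁻¹ * S.P.kEl c' * g)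
      calc g⁻¹ * S.P.kEl c' * g * (g⁻¹ * S.zp * g) = g⁻¹ * (S.P.kEl c' * S.P.kEl 0) * g := by
            simp only [Setting.zp]; group
        _ = g⁻¹ * (S.P.kEl 0 * S.P.kEl c') * g := by rw [h]
        _ = _ := by simp only [Setting.zp]; group
    have hin : S.P.kEl c' * (g * S.P.kEl c * g⁻¹) * (S.P.kEl c')⁻¹ * (g * S.P.kEl c * g⁻¹)⁻¹ ∈ D' := by
      rw [hmemD']
      constructor
      · have h1 := S.qSub_normal (hmemH c hc) (S.P.qSub.inv_mem hq')
        have e : S.P.kEl c' * (g * S.P.kEl c * g⁻¹) * (S.P.kEl c')⁻¹ * (g * S.P.kEl c * g⁻¹)⁻¹ =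
            S.P.kEl c' * ((g * S.P.kEl c * g⁻¹) * (S.P.kEl c')⁻¹ * (g * S.P.kEl c * g⁻¹)⁻¹) := by group
        rw [e]
        exact S.P.qSub.mul_mem hq' h1
      · have h1 := S.qSub_normal hconj hq
        have e : g⁻¹ * (S.P.kEl c' * (g * S.P.kEl c * g⁻¹) * (S.P.kEl c')⁻¹ * (g * S.P.kEl c * g⁻¹)⁻¹) * g =
            ((g⁻¹ * S.P.kEl c' * g) * S.P.kEl c * (g⁻¹ * S.P.kEl c' * g)⁻¹) * (S.P.kEl c)⁻¹ := by group
        rw [e]
        exact S.P.qSub.mul_mem h1 (S.P.qSub.inv_mem hq)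
    obtain ⟨e, he, he'⟩ := hE _ hin
    exact ⟨e, he, he'.symm⟩
  have hint : ∀ c ∈ cList, ∀ n, n < 288 → g * S.P.kEl c * g⁻¹ = S.P.kEl n → n ∈ eList := by
    intro c hc n hn e
    have hin : g * S.P.kEl c * g⁻¹ ∈ D' := by
      rw [hmemD']
      refine ⟨⟨n, (mem_cList (S.mem_cList_of hn ?_)).1, e.symm⟩, c, (mem_cList hc).1, by group⟩
      rw [← e, show S.P.kEl 0 = g * z * g⁻¹ from hg.symm]
      exact (S.kEl_comm_z c).conj g
    obtain ⟨i, hi, ei⟩ := hE _ hin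
    rw [e] at ei
    have hl : ∀ x ∈ eList, x < 288 := by decide
    rw [← S.inj i n (hl i hi) hn ei]; exact hi
  refine ⟨⟨g, hg, hg', hmemH, ?_, hcm, hint⟩⟩
  -- covering
  intro h hh
  set H := Subgroup.centralizer ({z} : Set G) with hHd
  set K := S.P.kSub with hKd
  have hKH : K ≤ H := by
    rintro _ ⟨n, -, rfl⟩
    exact Subgroup.mem_centralizer_singleton_iff.mpr (S.kEl_comm_z n).eq
  haveI : (K.subgroupOf H).Normal := ⟨fun a ha b => by
    obtain ⟨n, hn, en⟩ := ha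
    obtain ⟨m, hm, em⟩ := S.conjK b (Subgroup.mem_centralizer_singleton_iff.mp b.2) n hn
    exact ⟨m, hm, by rw [← em, en]; rfl⟩⟩
  have hidx : Nat.card (H ⧸ K.subgroupOf H) = 4 := by
    have h1 := (K.subgroupOf H).index_mul_card
    have h2 : Nat.card K = 288 := by
      rw [← Nat.card_fin 288]
      refine (Nat.card_congr (Equiv.ofBijective
        (fun i : Fin 288 => (⟨S.P.kEl i, i, i.2, rfl⟩ : K)) ⟨?_, ?_⟩)).symm
      · intro a b hab; exact Fin.ext (S.inj a b a.2 b.2 (congrArg Subtype.val hab))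
      · rintro ⟨v, m, hm, rfl⟩; exact ⟨⟨m, hm⟩, rfl⟩
    rw [Nat.card_congr (Subgroup.subgroupOfEquivOfLe hKH).toEquiv, h2, S.card_cent] at h1
    rw [← Subgroup.index_eq_card]
    omega
  let ψ : Cg →* H ⧸ K.subgroupOf H := (QuotientGroup.mk' _).comp
    { toFun := fun x => ⟨g * (x : G) * g⁻¹, Subgroup.mem_centralizer_singleton_iff.mpr (by
        obtain ⟨c, hc, e⟩ := x.2
        rw [← e]; exact (hmemH c hc).eq)⟩
      map_one' := Subtype.ext (by simp)
      map_mul' := fun x y => Subtype.ext (by simp [mul_assoc]) }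
  have hker : Nat.card ψ.ker ≤ 4 := by
    rw [← hD'4]
    refine Nat.card_le_card_of_injective
      (fun x : ψ.ker => (⟨g * ((x : Cg) : G) * g⁻¹, ?_⟩ : D')) ?_
    · obtain ⟨x, hx⟩ := x
      rw [MonoidHom.mem_ker] at hx
      obtain ⟨n, hn, en⟩ : g * (x : G) * g⁻¹ ∈ K :=
        Subgroup.mem_subgroupOf.mp ((QuotientGroup.eq_one_iff _).mp hx)
      obtain ⟨c, hc, ec⟩ := x.2
      rw [hmemD']
      refine ⟨⟨n, (mem_cList (S.mem_cList_of hn ?_)).1, en⟩, ?_⟩
      · rw [en, ← ec, show S.P.kEl 0 = g * z * g⁻¹ from hg.symm]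
        show g * S.P.kEl c * g⁻¹ * (g * z * g⁻¹) = g * z * g⁻¹ * (g * S.P.kEl c * g⁻¹)
        calc g * S.P.kEl c * g⁻¹ * (g * z * g⁻¹) = g * (S.P.kEl c * z) * g⁻¹ := by group
          _ = g * (z * S.P.kEl c) * g⁻¹ := by rw [(S.kEl_comm_z c).eq]
          _ = _ := by group
      · have : g⁻¹ * (g * (x : G) * g⁻¹) * g = S.P.kEl c := by rw [← ec]; group
        rw [this]
        exact ⟨c, (mem_cList hc).1, rfl⟩
    · intro a b hab
      have := congrArg (fun v : D' => g⁻¹ * (v : G) * g) hab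
      simpa [mul_assoc] using this
  have hsurj : Function.Surjective ψ := by
    rw [← MonoidHom.range_eq_top]
    refine Subgroup.eq_top_of_le_card _ ?_
    rw [hidx]
    have h1 := ψ.ker.index_mul_card
    rw [Subgroup.index_ker, hCg16] at h1
    nlinarith
  obtain ⟨⟨x, c, hc, rfl⟩, hx⟩ := hsurj
    (QuotientGroup.mk ⟨h, Subgroup.mem_centralizer_singleton_iff.mpr hh.eq⟩)
  have h3 := QuotientGroup.eq.mp hx.symm
  rw [Subgroup.mem_subgroupOf] at h3
  obtain ⟨k, hk, ek⟩ := h3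
  refine ⟨k, hk, c, hc, ?_⟩
  rw [ek]
  show h * (h⁻¹ * (g * S.P.kEl c * g⁻¹)) = _
  group

end Setting

end CfsgLib.UFourThree
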