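import Cfsg.Agent.Lib.UFourThree.Model

/-!
Two commuting copies of `SL(2,3)` in a group, with or without an exchanging and a diagonal element,
and the translation of model computations into the group.
-/

set_option autoImplicit false

namespace CfsgLib.UFourThree

variable {G : Type*} [Group G]

theorem sMul_three_left (a : ℕ) : sMul 3 a = a % 24 := by
  have h := (table_ops ⟨a % 24, Nat.mod_lt _ (by norm_num)⟩).1
  simpa [sMul, Nat.mod_mod] using h

theorem sDc_mul (a b : ℕ) : sDc (sMul a b) = sMul (sDc a) (sDc b) := by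
  have h := dc_mul ⟨a % 24, Nat.mod_lt _ (by norm_num)⟩ ⟨b % 24, Nat.mod_lt _ (by norm_num)⟩
  simpa [sMul, sDc, Nat.mod_mod] using h

theorem sNeg_eq (a : ℕ) : sMul 15 a = sNeg a := by
  have h := (table_ops ⟨a % 24, Nat.mod_lt _ (by norm_num)⟩).2.2.2.2.1
  simpa [sMul, sNeg, Nat.mod_mod] using h

/-- A homomorphism on the codes of `SL(2,3)` sending `-1` to `z`. -/
structure SCopy (z : G) where
  /-- The map. -/
  toFun : ℕ → G
  map_mul : ∀ a b, toFun (sMul a b) = toFun a * toFun b
  map_minus : toFun 15 = z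

namespace SCopy

variable {z : G} (e : SCopy z)

theorem mul_congr {a b c : ℕ} (h : sMul a b = c) : e.toFun a * e.toFun b = e.toFun c := by
  rw [← h, e.map_mul]

theorem map_one : e.toFun 3 = 1 := by
  have h := e.mul_congr (show sMul 3 3 = 3 by decide +kernel)
  exact mul_left_cancel (h.trans (mul_one _).symm)

theorem map_mod (a : ℕ) : e.toFun (a % 24) = e.toFun a := by
  rw [← sMul_three_left, e.map_mul, e.map_one, one_mul]

theorem map_neg (a : ℕ) : e.toFun (sNeg a) = z * e.toFun a := by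
  rw [← sNeg_eq, e.map_mul, e.map_minus]

include e in
theorem z_sq : z * z = 1 := by
  have h := e.mul_congr (show sMul 15 15 = 3 by decide +kernel)
  rwa [e.map_minus, e.map_one] at h

include e in
theorem z_inv : z⁻¹ = z := inv_eq_of_mul_eq_one_right e.z_sq

theorem z_comm (a : ℕ) : Commute z (e.toFun a) := by
  have h := (table_ops ⟨a % 24, Nat.mod_lt _ (by norm_num)⟩).2.2.2.2
  have h1 : sMul 15 a = sMul a 15 := by
    have h15 := h.1.trans h.2.1.symm
    simpa [sMul, Nat.mod_mod] using h15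
  calc z * e.toFun a = e.toFun (sMul 15 a) := by rw [e.map_mul, e.map_minus]
    _ = e.toFun (sMul a 15) := by rw [h1]
    _ = _ := by rw [e.map_mul, e.map_minus]

theorem map_inv (a : ℕ) : e.toFun (sInv a) = (e.toFun a)⁻¹ := by
  have h := (table_ops ⟨a % 24, Nat.mod_lt _ (by norm_num)⟩).2.2.1
  have h1 : sMul (sInv a) a = 3 := by simpa [sMul, sInv, Nat.mod_mod] using h
  refine eq_inv_of_mul_eq_one_left ?_
  rw [e.mul_congr h1, e.map_one]

/-- Conjugate copy by an element centralising `z`. -/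
def conj (g : G) (hg : Commute g z) : SCopy z where
  toFun a := g * e.toFun a * g⁻¹
  map_mul a b := by rw [e.map_mul]; group
  map_minus := by rw [e.map_minus, hg.eq, mul_inv_cancel_right]

end SCopy

theorem cA_enc (a b s t : ℕ) :
    cA (enc a b s t) = if b % 24 < 12 then a % 24 else sNeg a := by
  unfold enc cA
  split_ifs with h
  · omega
  · unfold sNeg; omega

theorem cB_enc (a b s t : ℕ) : cB (enc a b s t) = if b % 24 < 12 then b % 24 else sNeg b := by
  unfold enc cB
  split_ifs with h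
  · omega
  · unfold sNeg; omega

theorem cS_enc (a b s t : ℕ) : cS (enc a b s t) = s % 2 := by
  unfold enc cS
  split_ifs with h
  · omega
  · unfold sNeg; omega

theorem cT_enc (a b s t : ℕ) : cT (enc a b s t) = t % 2 := by
  unfold enc cT
  split_ifs with h
  · omega
  · unfold sNeg; omega

theorem enc_lt (a b s t : ℕ) : enc a b s t < 1152 := by
  unfold enc
  split_ifs with h
  · omega
  · unfold sNeg; omega

theorem mulP_lt (m p c g h : ℕ) : mulP m p c g h < 1152 := enc_lt _ _ _ _

/-- Two commuting copies. -/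
structure Pair (z : G) where
  /-- The first copy. -/
  fst : SCopy z
  /-- The second copy. -/
  snd : SCopy z
  comm : ∀ a b, Commute (fst.toFun a) (snd.toFun b)

namespace Pair

variable {z : G} (F : Pair z)

/-- The element of the central product with a code below 288. -/
def kEl (n : ℕ) : G := F.fst.toFun (cA n) * F.snd.toFun (cB n)

theorem kEl_enc (a b s t : ℕ) : F.kEl (enc a b s t) = F.fst.toFun a * F.snd.toFun b := by
  unfold kEl
  rw [cA_enc, cB_enc]
  split_ifs with h
  · rw [F.fst.map_mod, F.snd.map_mod]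
  · rw [F.fst.map_neg, F.snd.map_neg]
    calc z * F.fst.toFun a * (z * F.snd.toFun b)
        = z * (F.fst.toFun a * z) * F.snd.toFun b := by group
      _ = z * z * F.fst.toFun a * F.snd.toFun b := by rw [← (F.fst.z_comm a).eq, ← mul_assoc z]
      _ = _ := by rw [F.fst.z_sq, one_mul]

theorem enc_lt_of_zero (a b : ℕ) : enc a b 0 0 < 288 := by
  unfold enc
  split_ifs with h
  · omega
  · unfold sNeg; omega

theorem kEl_mul {n m : ℕ} (hn : n < 288) (hm : m < 288) :
    F.kEl (mulP 0 0 0 n m) = F.kEl n * F.kEl m := by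
  have h1 : cS n = 0 := by unfold cS; omega
  have h2 : cT n = 0 := by unfold cT; omega
  simp only [mulP, h1, h2, sTw, if_true, Nat.zero_mul, Nat.mul_zero, Nat.add_zero, Nat.zero_mod]
  rw [kEl_enc, F.fst.map_mul, F.snd.map_mul, F.fst.map_mod, F.snd.map_mod]
  unfold kEl
  calc F.fst.toFun (cA n) * F.fst.toFun (cA m) * (F.snd.toFun (cB n) * F.snd.toFun (cB m))
      = F.fst.toFun (cA n) * (F.fst.toFun (cA m) * F.snd.toFun (cB n)) * F.snd.toFun (cB m) := by group
    _ = _ := by rw [(F.comm _ _).eq]; group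

theorem kEl_one : F.kEl 39 = 1 := by
  show F.fst.toFun 3 * F.snd.toFun 3 = 1
  rw [F.fst.map_one, F.snd.map_one, one_mul]

theorem kEl_z : F.kEl 183 = z := by
  show F.fst.toFun 15 * F.snd.toFun 3 = z
  rw [F.fst.map_minus, F.snd.map_one, mul_one]

end Pair

/-- The copies with an exchanging element and a diagonal element. -/
structure GFrame (z : G) where
  /-- The first copy. -/
  base : SCopy z
  /-- The exchanging element. -/
  w : G
  /-- The diagonal element. -/
  r : G
  /-- The parameter of `w²`. -/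
  m : ℕ
  /-- The parameter of `r²`. -/
  p : ℕ
  /-- The parameter of the commutator. -/
  c : ℕ
  w_z : Commute w z
  r_z : Commute r z
  comm : ∀ a b, Commute (base.toFun a) (w * base.toFun b * w⁻¹)
  w_sq : w * w = z ^ m
  r_sq : r * r = z ^ p
  r_base : ∀ a, r * base.toFun a * r⁻¹ = base.toFun (sDc a)
  r_w : r * w = w * r * z ^ c

namespace GFrame

variable {z : G} (F : GFrame z)

/-- The pair of copies. -/
def pair : Pair z where
  fst := F.base
  snd := F.base.conj F.w F.w_z
  comm := F.comm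

/-- The element with a code. -/
def el (n : ℕ) : G :=
  F.base.toFun (cA n) * (F.w * F.base.toFun (cB n) * F.w⁻¹) * F.w ^ cS n * F.r ^ cT n

theorem el_enc (a b s t : ℕ) : F.el (enc a b s t) =
    F.base.toFun a * (F.w * F.base.toFun b * F.w⁻¹) * F.w ^ (s % 2) * F.r ^ (t % 2) := by
  have h := F.pair.kEl_enc a b s t
  simp only [Pair.kEl, pair, SCopy.conj] at h
  rw [el, cS_enc, cT_enc, h]

theorem el_eq_kEl {n : ℕ} (hn : n < 288) : F.el n = F.pair.kEl n := by
  have h1 : cS n = 0 := by unfold cS; omega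
  have h2 : cT n = 0 := by unfold cT; omega
  simp [el, Pair.kEl, pair, SCopy.conj, h1, h2]

theorem w_base (a : ℕ) : F.w * F.base.toFun a = (F.w * F.base.toFun a * F.w⁻¹) * F.w := by group

theorem w_snd (a : ℕ) : F.w * (F.w * F.base.toFun a * F.w⁻¹) = F.base.toFun a * F.w := by
  calc F.w * (F.w * F.base.toFun a * F.w⁻¹) = (F.w * F.w) * F.base.toFun a * F.w⁻¹ := by group
    _ = F.base.toFun a * (F.w * F.w) * F.w⁻¹ := by
        rw [F.w_sq, ((F.base.z_comm a).pow_left F.m).eq]
    _ = _ := by group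

theorem r_fst (a : ℕ) : F.r * F.base.toFun a = F.base.toFun (sDc a) * F.r := by
  rw [← F.r_base]; group

theorem r_snd (a : ℕ) : F.r * (F.w * F.base.toFun a * F.w⁻¹) =
    (F.w * F.base.toFun (sDc a) * F.w⁻¹) * F.r := by
  have hc : Commute (z ^ F.c) F.w⁻¹ := (F.w_z.symm.pow_left F.c).inv_right
  have h : F.w⁻¹ * F.r = F.r * z ^ F.c * F.w⁻¹ := by
    calc F.w⁻¹ * F.r = F.w⁻¹ * (F.r * F.w) * F.w⁻¹ := by group
      _ = F.r * z ^ F.c * F.w⁻¹ := by rw [F.r_w]; group
  calc F.r * (F.w * F.base.toFun a * F.w⁻¹)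
      = F.r * F.w * F.base.toFun a * F.w⁻¹ := by group
    _ = F.w * F.r * (z ^ F.c * F.base.toFun a) * F.w⁻¹ := by rw [F.r_w]; group
    _ = F.w * (F.r * F.base.toFun a) * z ^ F.c * F.w⁻¹ := by
        rw [((F.base.z_comm a).pow_left F.c).eq]; group
    _ = F.w * F.base.toFun (sDc a) * (F.r * z ^ F.c * F.w⁻¹) := by rw [F.r_fst]; group
    _ = _ := by rw [← h]; group

theorem tail_fst (s t a : ℕ) (hs : s < 2) (ht : t < 2) :
    F.w ^ s * F.r ^ t * F.base.toFun a =
      (if s = 0 then F.base.toFun (sTw t a) else F.w * F.base.toFun (sTw t a) * F.w⁻¹) * (F.w ^ s * F.r ^ t) := by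
  interval_cases s <;> interval_cases t <;>
    simp only [pow_zero, pow_one, one_mul, mul_one, sTw, if_true, if_false, Nat.one_ne_zero,
      F.base.map_mod]
  · exact F.r_fst a
  · exact F.w_base a
  · rw [mul_assoc F.w F.r, F.r_fst, ← mul_assoc, F.w_base]; group

theorem tail_snd (s t a : ℕ) (hs : s < 2) (ht : t < 2) :
    F.w ^ s * F.r ^ t * (F.w * F.base.toFun a * F.w⁻¹) =
      (if s = 0 then F.w * F.base.toFun (sTw t a) * F.w⁻¹ else F.base.toFun (sTw t a)) * (F.w ^ s * F.r ^ t) := by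
  interval_cases s <;> interval_cases t <;>
    simp only [pow_zero, pow_one, one_mul, mul_one, sTw, if_true, if_false, Nat.one_ne_zero,
      F.base.map_mod]
  · exact F.r_snd a
  · exact F.w_snd a
  · rw [mul_assoc F.w F.r, F.r_snd, ← mul_assoc, F.w_snd]; group

theorem tail_mul (s t s' t' : ℕ) (hs : s < 2) (ht : t < 2) (hs' : s' < 2) (ht' : t' < 2) :
    F.w ^ s * F.r ^ t * (F.w ^ s' * F.r ^ t') =
      z ^ (F.m * (s * s') + F.p * (t * t') + F.c * (t * s')) * (F.w ^ ((s + s') % 2) * F.r ^ ((t + t') % 2)) := by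
  have hw : ∀ k : ℕ, Commute (z ^ k) F.w := fun k => F.w_z.symm.pow_left k
  have hr : ∀ k : ℕ, Commute (z ^ k) F.r := fun k => F.r_z.symm.pow_left k
  have c1 : ∀ (k : ℕ) (x : G), F.w * (z ^ k * x) = z ^ k * (F.w * x) := fun k x => by
    rw [← mul_assoc, ← (hw k).eq, mul_assoc]
  have c2 : ∀ (k : ℕ) (x : G), F.r * (z ^ k * x) = z ^ k * (F.r * x) := fun k x => by
    rw [← mul_assoc, ← (hr k).eq, mul_assoc]
  have r0 : F.r * F.w = z ^ F.c * (F.w * F.r) := by
    rw [F.r_w, mul_assoc, ← (hr F.c).eq, c1]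
  have r1 : ∀ x, F.r * (F.w * x) = z ^ F.c * (F.w * (F.r * x)) := fun x => by
    rw [← mul_assoc, r0]; simp only [mul_assoc]
  have r2 : ∀ x, F.r * (F.r * x) = z ^ F.p * x := fun x => by rw [← mul_assoc, F.r_sq]
  have r3 : ∀ x, F.w * (F.w * x) = z ^ F.m * x := fun x => by rw [← mul_assoc, F.w_sq]
  have d1 : ∀ k : ℕ, F.w * z ^ k = z ^ k * F.w := fun k => (hw k).eq.symm
  have d2 : ∀ k : ℕ, F.r * z ^ k = z ^ k * F.r := fun k => (hr k).eq.symm
  have hz : ∀ (i j : ℕ) (x : G), z ^ i * (z ^ j * x) = z ^ (i + j) * x := fun i j x => by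
    rw [← mul_assoc, ← pow_add]
  interval_cases s <;> interval_cases t <;> interval_cases s' <;> interval_cases t' <;>
    simp only [pow_zero, pow_one, one_mul, mul_one, mul_zero, add_zero, zero_add,
      show (1 + 1) % 2 = 0 from rfl, Nat.zero_mod, show 1 % 2 = 1 from rfl, mul_assoc, r0, r1, r2, r3,
      c1, c2, d1, d2, F.r_sq, F.w_sq, hz, ← pow_add, add_comm, add_left_comm]

theorem z_pow_mod (F : GFrame z) (k : ℕ) : z ^ k = if k % 2 = 0 then 1 else z := by
  conv_lhs => rw [← Nat.div_add_mod k 2, pow_add, pow_mul, sq, F.base.z_sq, one_pow, one_mul]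
  rcases Nat.mod_two_eq_zero_or_one k with h | h <;> simp [h]

theorem psi_mul (s t s' t' i j i' j' : ℕ) (hs : s < 2) (ht : t < 2) (hs' : s' < 2) (ht' : t' < 2) :
    F.base.toFun i * (F.w * F.base.toFun j * F.w⁻¹) * F.w ^ s * F.r ^ t *
        (F.base.toFun i' * (F.w * F.base.toFun j' * F.w⁻¹) * F.w ^ s' * F.r ^ t') =
      z ^ (F.m * (s * s') + F.p * (t * t') + F.c * (t * s')) *
        F.base.toFun (sMul i (if s = 0 then sTw t i' else sTw t j')) *
        (F.w * F.base.toFun (sMul j (if s = 0 then sTw t j' else sTw t i')) * F.w⁻¹) *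
        F.w ^ ((s + s') % 2) * F.r ^ ((t + t') % 2) := by
  generalize hk : F.m * (s * s') + F.p * (t * t') + F.c * (t * s') = k
  generalize hp : (if s = 0 then sTw t i' else sTw t j') = p
  generalize hq : (if s = 0 then sTw t j' else sTw t i') = q
  have hT : F.w ^ s * F.r ^ t * (F.base.toFun i' * (F.w * F.base.toFun j' * F.w⁻¹)) =
      F.base.toFun p * (F.w * F.base.toFun q * F.w⁻¹) * (F.w ^ s * F.r ^ t) := by
    rw [← mul_assoc, F.tail_fst s t i' hs ht, mul_assoc, F.tail_snd s t j' hs ht, ← mul_assoc, ← hp, ← hq]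
    congr 1
    split_ifs
    · rfl
    · exact (F.comm _ _).symm.eq
  have hm : F.w ^ s * F.r ^ t * (F.w ^ s' * F.r ^ t') =
      z ^ k * (F.w ^ ((s + s') % 2) * F.r ^ ((t + t') % 2)) := hk ▸ F.tail_mul s t s' t' hs ht hs' ht'
  have h1 : Commute (z ^ k) (F.base.toFun i * F.base.toFun p) :=
    ((F.base.z_comm i).mul_right (F.base.z_comm p)).pow_left k
  have h2 : Commute (z ^ k) (F.w * F.base.toFun j * F.w⁻¹ * (F.w * F.base.toFun q * F.w⁻¹)) :=
    (((F.base.conj F.w F.w_z).z_comm j).mul_right ((F.base.conj F.w F.w_z).z_comm q)).pow_left k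
  have h3 : Commute (F.base.toFun p) (F.w * F.base.toFun j * F.w⁻¹) := F.comm p j
  have hjq : F.w * F.base.toFun (sMul j q) * F.w⁻¹ =
      F.w * F.base.toFun j * F.w⁻¹ * (F.w * F.base.toFun q * F.w⁻¹) := by rw [F.base.map_mul]; group
  rw [F.base.map_mul, hjq]
  generalize F.w * F.base.toFun j * F.w⁻¹ = B at *
  generalize F.w * F.base.toFun q * F.w⁻¹ = B' at *
  generalize F.base.toFun i = A at *
  generalize F.base.toFun p = A' at *
  generalize F.w * F.base.toFun j' * F.w⁻¹ = D at *
  generalize F.base.toFun i' = C at *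
  generalize F.w ^ ((s + s') % 2) = W' at *
  generalize F.r ^ ((t + t') % 2) = R' at *
  generalize F.w ^ s' = W₁ at *
  generalize F.r ^ t' = R₁ at *
  generalize F.w ^ s = W at *
  generalize F.r ^ t = R at *
  generalize z ^ k = Z at *
  calc A * B * W * R * (C * D * W₁ * R₁) = A * B * (W * R * (C * D)) * (W₁ * R₁) := by group
    _ = A * (B * A') * B' * (W * R * (W₁ * R₁)) := by rw [hT]; group
    _ = A * A' * (B * B' * Z) * (W' * R') := by rw [hm, ← h3.eq]; group
    _ = (A * A' * Z) * (B * B') * (W' * R') := by rw [← h2.eq]; group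
    _ = Z * (A * A') * (B * B') * W' * R' := by rw [← h1.eq]; group

theorem el_mul (g h : ℕ) : F.el (mulP F.m F.p F.c g h) = F.el g * F.el h := by
  have hs : cS g < 2 := by unfold cS; omega
  have ht : cT g < 2 := by unfold cT; omega
  have hs' : cS h < 2 := by unfold cS; omega
  have ht' : cT h < 2 := by unfold cT; omega
  unfold el
  rw [F.psi_mul _ _ _ _ _ _ _ _ hs ht hs' ht', F.z_pow_mod]
  simp only [mulP, cA_enc, cB_enc, cS_enc, cT_enc]
  have henc := F.el_enc
  simp only [el, cA_enc, cB_enc, cS_enc, cT_enc] at henc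
  rw [henc]
  by_cases hk : (F.m * (cS g * cS h) + F.p * (cT g * cT h) + F.c * (cT g * cS h)) % 2 = 0
  · simp only [hk, if_true, one_mul]
  · simp only [hk, if_false, F.base.map_neg]

theorem el_one : F.el 39 = 1 := by
  rw [F.el_eq_kEl (by norm_num)]; exact F.pair.kEl_one

theorem el_z : F.el 183 = z := by
  rw [F.el_eq_kEl (by norm_num)]; exact F.pair.kEl_z

end GFrame

end CfsgLib.UFourThree
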