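import Cfsg.Agent.Lib.UFourThree.FusionTables

/-!
An element of order three cycling the involutions of the four group and centralising a subgroup of
order three of the centraliser.
-/

set_option autoImplicit false
set_option maxRecDepth 100000
set_option Elab.async false

namespace CfsgLib.UFourThree

variable {G : Type*} [Group G] {z : G}

/-- An element of order three cycling `z ↦ u ↦ uz` with the standard relations. -/
structure Tri (R : Real z) where
  /-- The element. -/
  k : G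
  cube : k * k * k = 1
  k_z : k * z * k⁻¹ = R.el 615
  k_u : k * R.el 615 * k⁻¹ = R.el 615 * z
  k_X : Commute k (R.el 78)
  k_w : Commute k (R.el 0)
  r_k : R.el 327 * k * (R.el 327)⁻¹ = k⁻¹ * z

theorem commute_of_conj {k a : G} (h : k * a * k⁻¹ = a) : Commute k a := mul_inv_eq_iff_eq_mul.mp h

theorem conj_of_commute {k a : G} (h : Commute k a) : k * a * k⁻¹ = a := mul_inv_eq_iff_eq_mul.mpr h

theorem comm_conj {n a b c : G} (hb : n * b * n⁻¹ = c) (h : Commute a b) :
    Commute (n * a * n⁻¹) c := by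
  show _ = _
  rw [← hb]
  calc n * a * n⁻¹ * (n * b * n⁻¹) = n * (a * b) * n⁻¹ := by group
    _ = n * (b * a) * n⁻¹ := by rw [h.eq]
    _ = _ := by group

theorem inv_conj {n a b : G} (h : n * a * n⁻¹ = b) : n⁻¹ * b * n = a := by rw [← h]; group

theorem conj_pow_of_commute {g a : G} (n : ℕ) (h : Commute g a) : g ^ n * a * (g ^ n)⁻¹ = a :=
  conj_of_commute (h.pow_left n)

namespace Real

variable (R : Real z)

theorem z_comm_el {n : ℕ} (hn : n < 1152) : Commute z (R.el n) := (R.el_z_comm hn).symm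

theorem el_uz : R.el 759 = R.el 615 * z := by
  rw [← four_facts.2.2.2.1, R.map_mul, R.map_z]

theorem u_sq : R.el 615 * R.el 615 = 1 := by rw [R.mul_congr four_facts.2.1, R.el_one]

include R in
theorem z_sq : z * z = 1 := by
  rw [← R.map_z, R.mul_congr four_facts.2.2.1, R.el_one]

include R in
theorem z_inv : z⁻¹ = z := inv_eq_of_mul_eq_one_right R.z_sq

theorem u_inv : (R.el 615)⁻¹ = R.el 615 := inv_eq_of_mul_eq_one_right R.u_sq

theorem z_u : Commute z (R.el 615) := R.z_comm_el (by norm_num)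

theorem r_u : R.el 327 * R.el 615 * (R.el 327)⁻¹ = R.el 615 * z := by
  rw [← R.el_conj (by norm_num), four_facts.2.2.2.2.2.2.1, R.map_mul, R.map_z]
  exact R.z_u

theorem r_v : R.el 327 * R.el 903 * (R.el 327)⁻¹ = z * R.el 903 := by
  rw [← R.el_conj (by norm_num), four_facts.2.2.2.2.2.2.2.1, R.map_mul, R.map_z]

theorem r_X : R.el 327 * R.el 78 * (R.el 327)⁻¹ = (R.el 78)⁻¹ := by
  rw [← R.el_conj (by norm_num), four_facts.2.2.2.2.2.2.2.2.1, R.el_inv (by norm_num)]

theorem X_u : Commute (R.el 78) (R.el 615) := R.commute_of four_facts.2.2.2.2.1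

theorem r_sq : R.el 327 * R.el 327 = z := by
  rw [R.mul_congr four_facts.2.2.2.2.2.2.2.2.2.2.1, R.map_z]

theorem r_z : R.el 327 * z * (R.el 327)⁻¹ = z := conj_of_commute (R.el_z_comm (by norm_num))

/-- The codes commuting with `615`. -/
theorem cu_mem {c : ℕ} (hc : c < 1152) (h : Commute (R.el c) (R.el 615)) : c ∈ cuList := by
  have key := List.all_eq_true.mp cuList_complete c (List.mem_range.mpr hc)
  simpa [R.code_of_commute h] using key

theorem cu_spec {c : ℕ} (hc : c ∈ cuList) : c < 1152 ∧ Commute (R.el c) (R.el 615) := by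
  have key := List.all_eq_true.mp cuList_comm c hc
  simp only [Bool.and_eq_true, decide_eq_true_eq, beq_iff_eq] at key
  exact ⟨key.1, R.commute_of key.2⟩

/-- The centraliser of the four group, by codes. -/
theorem cu_surj {g : G} (hz : Commute g z) (hu : Commute g (R.el 615)) : ∃ c ∈ cuList, R.el c = g := by
  obtain ⟨c, hc, e⟩ := R.surj g hz
  exact ⟨c, R.cu_mem hc (e ▸ hu), e⟩

theorem ord_code {c : ℕ} (hc : c < 1152) : R.el c ^ 24 = 1 ∧ (R.el c ^ 9 = 1 → R.el c ^ 3 = 1) := by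
  have key := List.all_eq_true.mp ord_all c (List.mem_range.mpr hc)
  simp only [ordB, Bool.and_eq_true, Bool.or_eq_true, Bool.not_eq_true', beq_iff_eq, beq_eq_false_iff_ne] at key
  have e3 : R.el (hMul (hMul c c) c) = R.el c ^ 3 := by rw [R.map_mul, R.map_mul]; simp [pow_succ]
  refine ⟨?_, fun h9 => ?_⟩
  · have h := congrArg R.el key.1
    simp only [R.map_mul, R.el_one] at h
    rw [← h]; simp [pow_succ, mul_assoc]
  · rcases key.2 with h | h
    · refine absurd (R.inj _ _ (hMul_lt _ _) (by norm_num) ?_) h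
      rw [R.map_mul, R.map_mul, e3, R.el_one, ← h9]; group
    · rw [← e3, h, R.el_one]

/-- An element conjugating `z` to an element of the class of `615` or of `903`, with its partner. -/
theorem exists_swap [Finite G] : (∃ n, n * z * n⁻¹ = R.el 615 ∧ n * R.el 615 * n⁻¹ = z) ∨
    (∃ n, n * R.el 615 * n⁻¹ = z ∧ n * z * n⁻¹ = R.el 903) := by
  obtain ⟨m, hm⟩ := isConj_iff.mp (R.one_class 615 (by norm_num) four_facts.2.1 (by norm_num))
  have htz : Commute (m⁻¹ * z * m) z := by
    show m⁻¹ * z * m * z = z * (m⁻¹ * z * m)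
    calc m⁻¹ * z * m * z = m⁻¹ * (z * (m * z * m⁻¹)) * m := by group
      _ = m⁻¹ * ((m * z * m⁻¹) * z) * m := by rw [hm, R.z_u.eq]
      _ = _ := by group
  obtain ⟨t, ht, et⟩ := R.surj _ htz
  have tt : hMul t t = 39 := by
    refine R.inj _ _ (hMul_lt _ _) (by norm_num) ?_
    rw [R.map_mul, et, R.el_one]
    calc m⁻¹ * z * m * (m⁻¹ * z * m) = m⁻¹ * (z * z) * m := by group
      _ = 1 := by rw [R.z_sq]; group
  have t39 : t ≠ 39 := by
    rintro rfl
    rw [R.el_one] at et
    have : z = 1 := by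
      calc z = m * (m⁻¹ * z * m) * m⁻¹ := by group
        _ = 1 := by rw [← et]; group
    exact R.el_ne_one (show 183 < 1152 by norm_num) (by norm_num) (R.map_z.trans this)
  have t183 : t ≠ 183 := by
    rintro rfl
    rw [R.map_z] at et
    have e : R.el 615 = z := by
      calc R.el 615 = m * (m⁻¹ * z * m) * m⁻¹ := by rw [← et, hm]
        _ = z := by group
    exact absurd (R.inj _ _ (by norm_num) (by norm_num) (e.trans R.map_z.symm)) (by norm_num)
  have hcount : centCount t = 48 := by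
    rw [← cent_u]
    have hset : ∀ n, centCount n = ((Finset.range 1152).filter fun g => hMul g n = hMul n g).card := by
      intro n
      unfold centCount
      rw [List.countP_eq_length_filter]
      simp only [Finset.card_def, Finset.filter_val, Finset.range_val, Multiset.range, Multiset.filter_coe,
        Multiset.coe_card]
      congr 1
    rw [hset, hset]
    have hmem : ∀ g, g ∈ (Finset.range 1152).filter (fun g => hMul g t = hMul t g) ↔
        g < 1152 ∧ Commute (R.el g) (m⁻¹ * z * m) := fun g => by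
      rw [Finset.mem_filter, Finset.mem_range, ← et]
      exact ⟨fun h => ⟨h.1, R.commute_of h.2⟩, fun h => ⟨h.1, R.code_of_commute h.2⟩⟩
    have hmove : ∀ g, g < 1152 → Commute (R.el g) (m⁻¹ * z * m) → Commute (m * R.el g * m⁻¹) z := by
      intro g _ hc
      show m * R.el g * m⁻¹ * z = z * (m * R.el g * m⁻¹)
      calc m * R.el g * m⁻¹ * z = m * (R.el g * (m⁻¹ * z * m)) * m⁻¹ := by group
        _ = m * ((m⁻¹ * z * m) * R.el g) * m⁻¹ := by rw [hc.eq]
        _ = _ := by group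
    have hex : ∀ g ∈ (Finset.range 1152).filter (fun g => hMul g t = hMul t g),
        ∃ c, c < 1152 ∧ R.el c = m * R.el g * m⁻¹ := fun g hg =>
      R.surj _ (hmove g ((hmem g).mp hg).1 ((hmem g).mp hg).2)
    refine Finset.card_bij (fun g hg => (hex g hg).choose) ?_ ?_ ?_
    · intro g hg
      obtain ⟨h1, h2⟩ := (hex g hg).choose_spec
      rw [Finset.mem_filter, Finset.mem_range]
      refine ⟨h1, R.code_of_commute ?_⟩
      rw [h2, ← hm]
      show m * R.el g * m⁻¹ * (m * z * m⁻¹) = m * z * m⁻¹ * (m * R.el g * m⁻¹)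
      calc m * R.el g * m⁻¹ * (m * z * m⁻¹) = m * (R.el g * z) * m⁻¹ := by group
        _ = m * (z * R.el g) * m⁻¹ := by rw [(R.el_z_comm ((hmem g).mp hg).1).eq]
        _ = _ := by group
    · intro a ha b hb hab
      have e1 := (hex a ha).choose_spec.2
      have e2 := (hex b hb).choose_spec.2
      rw [hab, e2] at e1
      exact (R.inj _ _ ((hmem b).mp hb).1 ((hmem a).mp ha).1 (mul_left_cancel (mul_right_cancel e1))).symm
    · intro c hc
      rw [Finset.mem_filter, Finset.mem_range] at hc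
      have hcu := R.commute_of (a := c) (b := 615) hc.2
      have hcz : Commute (m⁻¹ * R.el c * m) z := by
        show m⁻¹ * R.el c * m * z = z * (m⁻¹ * R.el c * m)
        calc m⁻¹ * R.el c * m * z = m⁻¹ * (R.el c * (m * z * m⁻¹)) * m := by group
          _ = m⁻¹ * ((m * z * m⁻¹) * R.el c) * m := by rw [hm, hcu.eq]
          _ = _ := by group
      obtain ⟨g, hg, eg⟩ := R.surj _ hcz
      have hgm : g ∈ (Finset.range 1152).filter (fun g => hMul g t = hMul t g) := by
        refine (hmem g).mpr ⟨hg, ?_⟩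
        rw [eg]
        show m⁻¹ * R.el c * m * (m⁻¹ * z * m) = m⁻¹ * z * m * (m⁻¹ * R.el c * m)
        calc m⁻¹ * R.el c * m * (m⁻¹ * z * m) = m⁻¹ * (R.el c * z) * m := by group
          _ = m⁻¹ * (z * R.el c) * m := by rw [(R.el_z_comm hc.1).eq]
          _ = _ := by group
      refine ⟨g, hgm, R.inj _ _ (hex g hgm).choose_spec.1 hc.1 ?_⟩
      rw [(hex g hgm).choose_spec.2, eg]
      group
  have key := w48 ht
  simp only [w48B, tt, beq_self_eq_true, Bool.not_true, Bool.false_or, Bool.or_eq_true, beq_iff_eq, t39, t183,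
    false_or, hcount, or_false, Bool.false_eq_true, List.any_eq_true, List.mem_range] at key
  obtain ⟨k, hk, h⟩ := key
  have hkl : k < 1152 := by omega
  have hkz := conj_of_commute (R.el_z_comm hkl)
  rcases h with h | h
  · left
    have e : R.el k * R.el t = R.el 615 * R.el k := by rw [← R.map_mul, ← R.map_mul, h]
    refine ⟨m * (R.el k)⁻¹, ?_, ?_⟩
    · calc m * (R.el k)⁻¹ * z * (m * (R.el k)⁻¹)⁻¹ = m * ((R.el k)⁻¹ * (R.el k * z * (R.el k)⁻¹) * R.el k) * m⁻¹ := by
            rw [hkz]; group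
        _ = R.el 615 := by rw [← hm]; group
    · calc m * (R.el k)⁻¹ * R.el 615 * (m * (R.el k)⁻¹)⁻¹ = m * ((R.el k)⁻¹ * (R.el 615 * R.el k)) * m⁻¹ := by group
        _ = z := by rw [← e, et]; group
  · right
    have e : R.el k * R.el t = R.el 903 * R.el k := by rw [← R.map_mul, ← R.map_mul, h]
    refine ⟨R.el k * m⁻¹, ?_, ?_⟩
    · calc R.el k * m⁻¹ * R.el 615 * (R.el k * m⁻¹)⁻¹ = R.el k * z * (R.el k)⁻¹ := by rw [← hm]; group
        _ = z := hkz
    · calc R.el k * m⁻¹ * z * (R.el k * m⁻¹)⁻¹ = R.el k * (m⁻¹ * z * m) * (R.el k)⁻¹ := by group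
        _ = R.el 903 := by rw [← et, e, mul_inv_cancel_right]

/-- An element normalising the four group can be adjusted to normalise `⟨78⟩`. -/
theorem exists_adjust {n : G} (h1 : Commute (n * R.el 78 * n⁻¹) z)
    (h2 : Commute (n * R.el 78 * n⁻¹) (R.el 615)) :
    ∃ h : G, Commute h z ∧ Commute h (R.el 615) ∧
      (h * n * R.el 78 * (h * n)⁻¹ = R.el 78 ∨ h * n * R.el 78 * (h * n)⁻¹ = (R.el 78)⁻¹) := by
  obtain ⟨c, hc, ec⟩ := R.cu_surj h1 h2
  have c39 : c ≠ 39 := by
    rintro rfl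
    rw [R.el_one] at ec
    refine R.el_ne_one (show 78 < 1152 by norm_num) (by norm_num) ?_
    calc R.el 78 = n⁻¹ * (n * R.el 78 * n⁻¹) * n := by group
      _ = 1 := by rw [← ec]; group
  have c3 : hMul (hMul c c) c = 39 := by
    refine R.inj _ _ (hMul_lt _ _) (by norm_num) ?_
    rw [R.map_mul, R.map_mul, ec, R.el_one]
    calc n * R.el 78 * n⁻¹ * (n * R.el 78 * n⁻¹) * (n * R.el 78 * n⁻¹)
        = n * (R.el 78 * R.el 78 * R.el 78) * n⁻¹ := by group
      _ = 1 := by
          rw [← R.map_mul, ← R.map_mul, four_facts.2.2.2.2.2.2.2.2.2.2.2.2.1, R.el_one]; group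
  have key := List.all_eq_true.mp three_conj c hc
  simp only [c3, beq_self_eq_true, Bool.not_true, Bool.false_or, Bool.or_eq_true, beq_iff_eq, c39,
    false_or, List.any_eq_true] at key
  obtain ⟨h, hh, hc'⟩ := key
  have hcu : h ∈ cuList := by
    simp only [List.mem_cons, List.not_mem_nil, or_false] at hh
    rcases hh with rfl | rfl | rfl | rfl <;> decide
  obtain ⟨hl, hu⟩ := R.cu_spec hcu
  refine ⟨R.el h, R.el_z_comm hl, hu, ?_⟩
  have e : ∀ d, hMul h c = hMul d h → R.el h * n * R.el 78 * (R.el h * n)⁻¹ = R.el d := fun d hd => by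
    calc R.el h * n * R.el 78 * (R.el h * n)⁻¹ = R.el h * (n * R.el 78 * n⁻¹) * (R.el h)⁻¹ := by group
      _ = R.el d := by rw [← ec, ← R.map_mul, hd, R.map_mul, mul_inv_cancel_right]
  rcases hc' with h' | h'
  · exact Or.inl (e _ h')
  · refine Or.inr ((e _ h').trans ?_)
    rw [four_facts.2.2.2.2.2.1, R.el_inv (by norm_num)]

theorem conj_inv_of {g a b : G} (h : g * a * g⁻¹ = b) : g * a⁻¹ * g⁻¹ = b⁻¹ := by rw [← h]; group

/-- An element cycling the four group which centralises `78`. -/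
theorem exists_cycle [Finite G] :
    ∃ k, k * z * k⁻¹ = R.el 615 ∧ k * R.el 615 * k⁻¹ = R.el 615 * z ∧ Commute k (R.el 78) := by
  have hXz : Commute (R.el 78) z := R.el_z_comm (by norm_num)
  rcases R.exists_swap with ⟨n, nz, nu⟩ | ⟨n, nu, nz⟩
  · -- the class of `615`
    have c1 : Commute (n * R.el 78 * n⁻¹) z := comm_conj nu R.X_u
    have c2 : Commute (n * R.el 78 * n⁻¹) (R.el 615) := comm_conj nz hXz
    obtain ⟨h, hz, hu, hX⟩ := R.exists_adjust c1 c2
    set g := h * n * R.el 327 with hg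
    have gz : g * z * g⁻¹ = R.el 615 := by
      calc g * z * g⁻¹ = h * (n * (R.el 327 * z * (R.el 327)⁻¹) * n⁻¹) * h⁻¹ := by rw [hg]; group
        _ = R.el 615 := by rw [R.r_z, nz, conj_of_commute hu]
    have gu : g * R.el 615 * g⁻¹ = R.el 615 * z := by
      calc g * R.el 615 * g⁻¹ = h * (n * (R.el 327 * R.el 615 * (R.el 327)⁻¹) * n⁻¹) * h⁻¹ := by rw [hg]; group
        _ = h * ((n * R.el 615 * n⁻¹) * (n * z * n⁻¹)) * h⁻¹ := by rw [R.r_u]; group
        _ = _ := by
            rw [nu, nz, conj_of_commute (hz.mul_right hu), R.z_u.eq]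
    have g2 : Commute (g * g) (R.el 78) := by
      refine commute_of_conj ?_
      have gX : g * R.el 78 * g⁻¹ = R.el 78 ∨ g * R.el 78 * g⁻¹ = (R.el 78)⁻¹ := by
        have e : g * R.el 78 * g⁻¹ = (h * n * R.el 78 * (h * n)⁻¹)⁻¹ := by
          calc g * R.el 78 * g⁻¹ = h * n * (R.el 327 * R.el 78 * (R.el 327)⁻¹) * (h * n)⁻¹ := by rw [hg]; group
            _ = _ := by rw [R.r_X]; group
        rcases hX with h' | h' <;> rw [e, h']
        · exact Or.inr rfl
        · exact Or.inl (inv_inv _)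
      rcases gX with h' | h'
      · calc g * g * R.el 78 * (g * g)⁻¹ = g * (g * R.el 78 * g⁻¹) * g⁻¹ := by group
          _ = _ := by rw [h', h']
      · calc g * g * R.el 78 * (g * g)⁻¹ = g * (g * R.el 78 * g⁻¹) * g⁻¹ := by group
          _ = _ := by rw [h', conj_inv_of h', inv_inv]
    have guz : g * (R.el 615 * z) * g⁻¹ = z := by
      calc g * (R.el 615 * z) * g⁻¹ = (g * R.el 615 * g⁻¹) * (g * z * g⁻¹) := by group
        _ = R.el 615 * (z * R.el 615) := by rw [gu, gz, mul_assoc]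
        _ = z := by rw [R.z_u.eq, ← mul_assoc, R.u_sq, one_mul]
    refine ⟨(g * g) * (g * g), ?_, ?_, g2.mul_left g2⟩
    · calc g * g * (g * g) * z * (g * g * (g * g))⁻¹ = g * (g * (g * (g * z * g⁻¹) * g⁻¹) * g⁻¹) * g⁻¹ := by group
        _ = _ := by rw [gz, gu, guz, gz]
    · calc g * g * (g * g) * R.el 615 * (g * g * (g * g))⁻¹ = g * (g * (g * (g * R.el 615 * g⁻¹) * g⁻¹) * g⁻¹) * g⁻¹ := by group
        _ = _ := by rw [gu, guz, gz, gu]
  · -- the class of `903`
    set m := n⁻¹ * R.el 327 * n with hm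
    have mu : m * R.el 615 * m⁻¹ = R.el 615 := by
      calc m * R.el 615 * m⁻¹ = n⁻¹ * (R.el 327 * (n * R.el 615 * n⁻¹) * (R.el 327)⁻¹) * n := by rw [hm]; group
        _ = _ := by rw [nu, R.r_z, inv_conj nu]
    have mz : m * z * m⁻¹ = R.el 615 * z := by
      calc m * z * m⁻¹ = n⁻¹ * (R.el 327 * (n * z * n⁻¹) * (R.el 327)⁻¹) * n := by rw [hm]; group
        _ = n⁻¹ * (z * R.el 903) * n := by rw [nz, R.r_v]
        _ = (n⁻¹ * z * n) * (n⁻¹ * R.el 903 * n) := by group
        _ = _ := by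
            rw [inv_conj nu, inv_conj nz]
    have c2 : Commute (m * R.el 78 * m⁻¹) (R.el 615) := comm_conj mu R.X_u
    have c1 : Commute (m * R.el 78 * m⁻¹) z := by
      have h : Commute (m * R.el 78 * m⁻¹) (R.el 615 * z) := comm_conj mz hXz
      have h' := c2.mul_right h
      rwa [← mul_assoc, R.u_sq, one_mul] at h'
    obtain ⟨h, hz, hu, hX⟩ := R.exists_adjust c1 c2
    set g := h * m * R.el 327 with hg
    have gz : g * z * g⁻¹ = R.el 615 * z := by
      calc g * z * g⁻¹ = h * (m * (R.el 327 * z * (R.el 327)⁻¹) * m⁻¹) * h⁻¹ := by rw [hg]; group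
        _ = _ := by rw [R.r_z, mz, conj_of_commute (hu.mul_right hz)]
    have gu : g * R.el 615 * g⁻¹ = z := by
      calc g * R.el 615 * g⁻¹ = h * (m * (R.el 327 * R.el 615 * (R.el 327)⁻¹) * m⁻¹) * h⁻¹ := by rw [hg]; group
        _ = h * ((m * R.el 615 * m⁻¹) * (m * z * m⁻¹)) * h⁻¹ := by rw [R.r_u]; group
        _ = z := by rw [mu, mz, ← mul_assoc (R.el 615) (R.el 615), R.u_sq, one_mul, conj_of_commute hz]
    have guz : g * (R.el 615 * z) * g⁻¹ = R.el 615 := by
      calc g * (R.el 615 * z) * g⁻¹ = (g * R.el 615 * g⁻¹) * (g * z * g⁻¹) := by group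
        _ = z * (z * R.el 615) := by rw [gu, gz, R.z_u.eq]
        _ = _ := by rw [← mul_assoc, R.z_sq, one_mul]
    have gX : g * R.el 78 * g⁻¹ = R.el 78 ∨ g * R.el 78 * g⁻¹ = (R.el 78)⁻¹ := by
      have e : g * R.el 78 * g⁻¹ = (h * m * R.el 78 * (h * m)⁻¹)⁻¹ := by
        calc g * R.el 78 * g⁻¹ = h * m * (R.el 327 * R.el 78 * (R.el 327)⁻¹) * (h * m)⁻¹ := by rw [hg]; group
          _ = _ := by rw [R.r_X]; group
      rcases hX with h' | h' <;> rw [e, h']
      · exact Or.inr rfl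
      · exact Or.inl (inv_inv _)
    refine ⟨g * g, ?_, ?_, commute_of_conj ?_⟩
    · calc g * g * z * (g * g)⁻¹ = g * (g * z * g⁻¹) * g⁻¹ := by group
        _ = _ := by rw [gz, guz]
    · calc g * g * R.el 615 * (g * g)⁻¹ = g * (g * R.el 615 * g⁻¹) * g⁻¹ := by group
        _ = _ := by rw [gu, gz]
    · rcases gX with h' | h'
      · calc g * g * R.el 78 * (g * g)⁻¹ = g * (g * R.el 78 * g⁻¹) * g⁻¹ := by group
          _ = _ := by rw [h', h']
      · calc g * g * R.el 78 * (g * g)⁻¹ = g * (g * R.el 78 * g⁻¹) * g⁻¹ := by group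
          _ = _ := by rw [h', conj_inv_of h', inv_inv]

/-- The element can be chosen to centralise the code `0` too. -/
theorem exists_cycle_fix [Finite G] : ∃ k, k * z * k⁻¹ = R.el 615 ∧
    k * R.el 615 * k⁻¹ = R.el 615 * z ∧ Commute k (R.el 78) ∧ Commute k (R.el 0) := by
  obtain ⟨k, kz, ku, kX⟩ := R.exists_cycle
  obtain ⟨c, hc, hc0⟩ : ∃ c ∈ cuList, hCom c 78 = 0 := by
    have := w_mem
    simpa [List.any_eq_true] using this
  obtain ⟨hcl, hcu⟩ := R.cu_spec hc
  have hcz : Commute (R.el c) z := R.el_z_comm hcl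
  have c1 : Commute (k * R.el c * k⁻¹) (R.el 615) := comm_conj kz hcz
  have c2 : Commute (k * R.el c * k⁻¹) z := by
    have h : Commute (k * R.el c * k⁻¹) (R.el 615 * z) := comm_conj ku hcu
    have h' := c1.mul_right h
    rwa [← mul_assoc, R.u_sq, one_mul] at h'
  obtain ⟨c', hc', ec⟩ := R.cu_surj c2 c1
  have hw : k * R.el 0 * k⁻¹ = R.el (hCom c' 78) := by
    rw [← hc0, R.el_com (R.cu_spec hc).1 (by norm_num), R.el_com (R.cu_spec hc').1 (by norm_num), ec]
    conv_rhs => rw [← conj_of_commute kX]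
    group
  have key := List.all_eq_true.mp w_cycle c' hc'
  simp only [Bool.or_eq_true, beq_iff_eq, List.any_eq_true] at key
  rcases key with h | ⟨i, hi, hi'⟩
  · exfalso
    rw [h, R.el_one] at hw
    exact R.el_ne_one (show 0 < 1152 by norm_num) (by norm_num) (conj_eq_one_iff.mp hw)
  · have hic : i ∈ cuList ∧ hMul i 78 = hMul 78 i := by
      simp only [List.mem_cons, List.not_mem_nil, or_false] at hi
      rcases hi with rfl | rfl | rfl <;> decide +kernel
    obtain ⟨hil, hiu⟩ := R.cu_spec hic.1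
    have hiz : Commute (R.el i) z := R.el_z_comm hil
    refine ⟨R.el i * k, ?_, ?_, (R.commute_of hic.2).mul_left kX, commute_of_conj ?_⟩
    · calc R.el i * k * z * (R.el i * k)⁻¹ = R.el i * (k * z * k⁻¹) * (R.el i)⁻¹ := by group
        _ = _ := by rw [kz, conj_of_commute hiu]
    · calc R.el i * k * R.el 615 * (R.el i * k)⁻¹ = R.el i * (k * R.el 615 * k⁻¹) * (R.el i)⁻¹ := by group
        _ = _ := by rw [ku, conj_of_commute (hiu.mul_right hiz)]
    · calc R.el i * k * R.el 0 * (R.el i * k)⁻¹ = R.el i * (k * R.el 0 * k⁻¹) * (R.el i)⁻¹ := by group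
        _ = R.el 0 := by rw [hw, ← R.map_mul, hi', R.map_mul, mul_inv_cancel_right]

/-- An element of order three of that kind. -/
theorem exists_cycle_cube [Finite G] : ∃ k, k * k * k = 1 ∧ k * z * k⁻¹ = R.el 615 ∧
    k * R.el 615 * k⁻¹ = R.el 615 * z ∧ Commute k (R.el 78) ∧ Commute k (R.el 0) := by
  obtain ⟨k, kz, ku, kX, kw⟩ := R.exists_cycle_fix
  have kuz : k * (R.el 615 * z) * k⁻¹ = z := by
    calc k * (R.el 615 * z) * k⁻¹ = (k * R.el 615 * k⁻¹) * (k * z * k⁻¹) := by group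
      _ = R.el 615 * (z * R.el 615) := by rw [ku, kz, mul_assoc]
      _ = z := by rw [R.z_u.eq, ← mul_assoc, R.u_sq, one_mul]
  have k3z : Commute (k ^ 3) z := by
    refine commute_of_conj ?_
    calc k ^ 3 * z * (k ^ 3)⁻¹ = k * (k * (k * z * k⁻¹) * k⁻¹) * k⁻¹ := by simp [pow_succ]; group
      _ = z := by rw [kz, ku, kuz]
  have k3u : Commute (k ^ 3) (R.el 615) := by
    refine commute_of_conj ?_
    calc k ^ 3 * R.el 615 * (k ^ 3)⁻¹ = k * (k * (k * R.el 615 * k⁻¹) * k⁻¹) * k⁻¹ := by simp [pow_succ]; group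
      _ = _ := by rw [ku, kuz, kz]
  obtain ⟨c, hc, ec⟩ := R.surj _ k3z
  have h72 : k ^ 72 = 1 := by
    rw [show 72 = 3 * 24 from rfl, pow_mul, ← ec]
    exact (R.ord_code hc).1
  set k' := k ^ 64 with hk'
  have h64 : k' = (k ^ 3) ^ 21 * k := by rw [hk', ← pow_mul, ← pow_succ]
  have e1 : k' * z * k'⁻¹ = R.el 615 := by
    rw [h64]
    calc (k ^ 3) ^ 21 * k * z * ((k ^ 3) ^ 21 * k)⁻¹ = (k ^ 3) ^ 21 * (k * z * k⁻¹) * ((k ^ 3) ^ 21)⁻¹ := by group
      _ = _ := by rw [kz, conj_pow_of_commute _ k3u]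
  have e2 : k' * R.el 615 * k'⁻¹ = R.el 615 * z := by
    rw [h64]
    calc (k ^ 3) ^ 21 * k * R.el 615 * ((k ^ 3) ^ 21 * k)⁻¹
        = (k ^ 3) ^ 21 * (k * R.el 615 * k⁻¹) * ((k ^ 3) ^ 21)⁻¹ := by group
      _ = _ := by rw [ku, conj_pow_of_commute _ (k3u.mul_right k3z)]
  have w' : Commute k' (R.el 0) := kw.pow_left _
  have h9 : k' ^ 9 = 1 := by
    rw [hk', ← pow_mul, show 64 * 9 = 72 * 8 from rfl, pow_mul, h72, one_pow]
  obtain ⟨g, hg⟩ := isConj_iff.mp (R.one_class 0 (by norm_num) (by decide +kernel) (by norm_num))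
  have hcz : Commute (g⁻¹ * k' * g) z := by
    simpa using comm_conj (n := g⁻¹) (by rw [inv_inv]; exact inv_conj hg) w'
  obtain ⟨d, hd, ed⟩ := R.surj _ hcz
  have hd3 := (R.ord_code hd).2
  have hconj : ∀ n : ℕ, (g⁻¹ * k' * g) ^ n = g⁻¹ * k' ^ n * g := fun n => by
    induction n with
    | zero => simp
    | succ n ih => rw [pow_succ, pow_succ, ih]; group
  rw [ed, hconj, h9, hconj] at hd3
  have h3 : k' ^ 3 = 1 := by
    have e : g⁻¹ * k' ^ 3 * g = 1 := hd3 (by group)
    calc k' ^ 3 = g * (g⁻¹ * k' ^ 3 * g) * g⁻¹ := by group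
      _ = 1 := by rw [e]; group
  exact ⟨k', by rw [← h3]; simp [pow_succ, mul_assoc], e1, e2, kX.pow_left _, w'⟩

/-- The element of order three with the standard relations. -/
theorem exists_tri [Finite G] : Nonempty (Tri R) := by
  obtain ⟨k, k3, kz, ku, kX, kw⟩ := R.exists_cycle_cube
  set r := R.el 327 with hr
  have kuz : k * (R.el 615 * z) * k⁻¹ = z := by
    calc k * (R.el 615 * z) * k⁻¹ = (k * R.el 615 * k⁻¹) * (k * z * k⁻¹) := by group
      _ = R.el 615 * (z * R.el 615) := by rw [ku, kz, mul_assoc]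
      _ = z := by rw [R.z_u.eq, ← mul_assoc, R.u_sq, one_mul]
  have ruz : r * (R.el 615 * z) * r⁻¹ = R.el 615 := by
    calc r * (R.el 615 * z) * r⁻¹ = (r * R.el 615 * r⁻¹) * (r * z * r⁻¹) := by group
      _ = _ := by rw [hr, R.r_u, R.r_z, mul_assoc, R.z_sq, mul_one]
  have rinv : ∀ a b : G, r * a * r⁻¹ = b → r⁻¹ * b * r = a := fun a b h => by rw [← h]; group
  set e := k * (r * k * r⁻¹) with he
  have ez : Commute e z := by
    refine commute_of_conj ?_
    calc e * z * e⁻¹ = k * (r * (k * (r⁻¹ * z * r) * k⁻¹) * r⁻¹) * k⁻¹ := by rw [he]; group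
      _ = z := by rw [rinv z z R.r_z, kz, hr, R.r_u, kuz]
  have eu : Commute e (R.el 615) := by
    refine commute_of_conj ?_
    calc e * R.el 615 * e⁻¹ = k * (r * (k * (r⁻¹ * R.el 615 * r) * k⁻¹) * r⁻¹) * k⁻¹ := by rw [he]; group
      _ = R.el 615 := by rw [rinv _ _ ruz, kuz, hr, R.r_z, kz]
  have eX : Commute e (R.el 78) := by
    refine kX.mul_left (commute_of_conj ?_)
    calc r * k * r⁻¹ * R.el 78 * (r * k * r⁻¹)⁻¹ = r * (k * (r⁻¹ * R.el 78 * r) * k⁻¹) * r⁻¹ := by group
      _ = R.el 78 := by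
          rw [rinv (R.el 78)⁻¹ (R.el 78) (by rw [hr, conj_inv_of R.r_X, inv_inv]),
            conj_of_commute kX.inv_right]
          rw [hr, conj_inv_of R.r_X, inv_inv]
  have r0 : Commute r (R.el 0) := R.commute_of four_facts.2.2.2.2.2.2.2.2.2.1
  have ew : Commute e (R.el 0) := kw.mul_left ((r0.mul_left kw).mul_left r0.inv_left)
  obtain ⟨d, hd, ed⟩ := R.cu_surj ez eu
  have key := List.all_eq_true.mp cent_four d hd
  rw [← ed] at eX ew
  simp only [R.code_of_commute eX, R.code_of_commute ew, beq_self_eq_true, Bool.not_true, Bool.false_or,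
    List.contains_iff_mem, List.mem_cons, List.not_mem_nil, or_false] at key
  have rk : r * k * r⁻¹ = k⁻¹ * e := by rw [he]; group
  -- `z k z = k u`
  have zkz : z * k * z = k * R.el 615 := by
    calc z * k * z = k * ((k⁻¹ * z * k) * z) := by group
      _ = _ := by rw [inv_conj kuz, mul_assoc (R.el 615), R.z_sq, mul_one]
  have main : z * k * z = e⁻¹ * k * (r * e * r⁻¹) := by
    calc z * k * z = (r * r) * k * (r * r)⁻¹ := by rw [hr, R.r_sq, R.z_inv]
      _ = r * (r * k * r⁻¹) * r⁻¹ := by group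
      _ = r * (k⁻¹ * e) * r⁻¹ := by rw [rk]
      _ = (r * k * r⁻¹)⁻¹ * (r * e * r⁻¹) := by group
      _ = _ := by rw [rk]; group
  rcases key with rfl | rfl | rfl | rfl
  · exfalso
    rw [R.el_one] at ed
    rw [← ed, zkz] at main
    refine R.el_ne_one (show 615 < 1152 by norm_num) (by norm_num) (mul_left_cancel (a := k) ?_)
    rw [main]; group
  · rw [R.map_z] at ed
    exact ⟨⟨k, k3, kz, ku, kX, kw, by rw [← hr, rk, ← ed]⟩⟩
  · refine ⟨⟨k * z, ?_, ?_, ?_, kX.mul_left (R.z_comm_el (by norm_num)), kw.mul_left (R.z_comm_el (by norm_num)), ?_⟩⟩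
    · calc k * z * (k * z) * (k * z) = (k * z * k⁻¹) * (k * (k * z * k⁻¹) * k⁻¹) * (k * k * k) * z := by group
        _ = 1 := by rw [kz, ku, k3, mul_one, ← mul_assoc, R.u_sq, one_mul, R.z_sq]
    · calc k * z * z * (k * z)⁻¹ = k * z * k⁻¹ := by group
        _ = _ := kz
    · calc k * z * R.el 615 * (k * z)⁻¹ = k * (z * R.el 615 * z⁻¹) * k⁻¹ := by group
        _ = _ := by rw [conj_of_commute R.z_u, ku]
    · calc r * (k * z) * r⁻¹ = r * k * r⁻¹ * (r * z * r⁻¹) := by group
        _ = k⁻¹ * (R.el 615 * z) := by rw [rk, hr, R.r_z, ed, mul_assoc]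
        _ = _ := by
            rw [mul_inv_rev, R.z_inv]
            calc k⁻¹ * (R.el 615 * z) = k⁻¹ * (k * z * k⁻¹) * z := by rw [kz, mul_assoc]
              _ = z * k⁻¹ * z := by group
  · exfalso
    rw [R.el_uz] at ed
    rw [← ed, zkz, ruz, mul_inv_rev, R.z_inv, R.u_inv, R.z_u.eq] at main
    have h1 : k * R.el 615 = R.el 615 * z * (k * R.el 615) := by rw [← mul_assoc]; exact main
    have h2 : R.el 615 * z = 1 := mul_eq_right.mp h1.symm
    exact R.el_ne_one (show 759 < 1152 by norm_num) (by norm_num) (R.el_uz.trans h2)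

end Real

end CfsgLib.UFourThree
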