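import Cfsg.Agent.Lib.UFourThree.RealBasic

/-!
Finite facts about the model used to build the element fusing the involutions of the four group.
-/

set_option autoImplicit false
set_option maxRecDepth 100000
set_option Elab.async false

namespace CfsgLib.UFourThree

/-- The number of codes commuting with a code. -/
def centCount (n : ℕ) : ℕ := (List.range 1152).countP fun g => hMul g n == hMul n g

theorem cent_u : centCount 615 = 48 := by decide +kernel

/-- The codes commuting with `615`. -/
def cuList : List ℕ :=
  [0, 13, 26, 39, 52, 65, 78, 91, 104, 117, 130, 143, 144, 157, 170, 183, 196, 209, 222, 235, 248, 261, 274, 287, 576, 589, 602, 615, 628, 641, 654, 667, 680, 693, 706, 719, 720, 733, 746, 759, 772, 785, 798, 811, 824, 837, 850, 863]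

theorem cuList_complete : ((List.range 1152).all fun g =>
    !(hMul g 615 == hMul 615 g) || cuList.contains g) = true := by decide +kernel

theorem cuList_comm : (cuList.all fun g => g < 1152 && hMul g 615 == hMul 615 g) = true := by decide +kernel

/-- An involution with centraliser of order 48 is conjugate to `615` or to `903`. -/
def w48B (n : ℕ) : Bool :=
  !(hMul n n == 39) || n == 39 || n == 183 ||
    ((List.range 300).any fun k => hMul k n == hMul 615 k || hMul k n == hMul 903 k) ||
    !(centCount n == 48)

theorem w48_a : ((List.range' 0 96).all w48B) = true := by decide +kernel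
theorem w48_a' : ((List.range' 96 96).all w48B) = true := by decide +kernel
theorem w48_a'' : ((List.range' 192 96).all w48B) = true := by decide +kernel
theorem w48_b : ((List.range' 288 864).all w48B) = true := by decide +kernel

theorem w48 {n : ℕ} (hn : n < 1152) : w48B n = true := by
  by_cases h : n < 288
  · rcases (show n < 96 ∨ 96 ≤ n ∧ n < 192 ∨ 192 ≤ n by omega) with h1 | h1 | h1
    · exact List.all_eq_true.mp w48_a n (List.mem_range'_1.mpr ⟨by omega, by omega⟩)
    · exact List.all_eq_true.mp w48_a' n (List.mem_range'_1.mpr ⟨by omega, by omega⟩)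
    · exact List.all_eq_true.mp w48_a'' n (List.mem_range'_1.mpr ⟨by omega, by omega⟩)
  · exact List.all_eq_true.mp w48_b n (List.mem_range'_1.mpr ⟨by omega, by omega⟩)

/-- Subgroups of order three in the centraliser of the four group are conjugate to `⟨78⟩`. -/
theorem three_conj : (cuList.all fun c => !(hMul (hMul c c) c == 39) || c == 39 ||
    [0, 13, 26, 39].any fun h => hMul h c == hMul 78 h || hMul h c == hMul (hMul 78 78) h) = true := by
  decide +kernel

theorem w_cycle : (cuList.all fun c => hCom c 78 == 39 ||
    [39, 78, hMul 78 78].any fun i => hMul i (hCom c 78) == hMul 0 i) = true := by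
  decide +kernel

theorem w_mem : (cuList.any fun c => hCom c 78 == 0) = true := by decide +kernel

theorem cent_four : (cuList.all fun c => !(hMul c 78 == hMul 78 c) || !(hMul c 0 == hMul 0 c) ||
    [39, 183, 615, 759].contains c) = true := by
  decide +kernel

/-- The orders of the elements divide 24, and none is nine. -/
def ordB (c : ℕ) : Bool :=
  let c3 := hMul (hMul c c) c
  let c6 := hMul c3 c3
  let c12 := hMul c6 c6
  hMul c12 c12 == 39 && (!(hMul (hMul c3 c3) c3 == 39) || c3 == 39)

theorem ord_all : ((List.range 1152).all ordB) = true := by decide +kernel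

theorem four_facts : hMul 615 183 = hMul 183 615 ∧ hMul 615 615 = 39 ∧ hMul 183 183 = 39 ∧
    hMul 615 183 = 759 ∧ hMul 78 615 = hMul 615 78 ∧ hMul 78 78 = hInv 78 ∧
    hConj 327 615 = hMul 183 615 ∧ hConj 327 903 = hMul 183 903 ∧ hConj 327 78 = hInv 78 ∧
    hMul 327 0 = hMul 0 327 ∧ hMul 327 327 = 183 ∧ hMul 78 78 ≠ 39 ∧ hMul (hMul 78 78) 78 = 39 ∧
    hMul (hMul 78 78) 615 = hMul 615 (hMul 78 78) ∧ hMul 78 183 = hMul 183 78 := by
  decide +kernel

end CfsgLib.UFourThree
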