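import Cfsg.Agent.Lib.UFourThree.Abelian
import Cfsg.Agent.Lib.UFourThree.CosetData

/-!
The relators of the coset enumeration hold for the standard generators.
-/

set_option autoImplicit false
set_option maxRecDepth 100000
set_option Elab.async false

namespace CfsgLib.UFourThree

/-- The code of a letter of the centraliser. -/
def hLetter (l : ℕ) : ℕ :=
  let c := if l / 2 = 0 then 75 else if l / 2 = 1 then 3 else if l / 2 = 2 then 615
    else if l / 2 = 3 then 327 else if l / 2 = 6 then 42 else 183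
  if l % 2 = 0 then c else hInv c

/-- The letters of the centraliser. -/
def isH (l : ℕ) : Bool := [0, 1, 2, 3, 6, 7].contains (l / 2) && l < 16

/-- The product of the codes of a word. -/
def hWord : List ℕ → ℕ
  | [] => 39
  | l :: w => hMul (hLetter l) (hWord w)

theorem h_rels : (relWords.all fun w => !(w.all isH) || hWord w == 39) = true := by decide +kernel

variable {G : Type*} [Group G] {z : G}

/-- Two words rotate. -/
theorem mul_eq_one_swap {p q : G} (h : p * q = 1) : q * p = 1 := by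
  rw [eq_inv_of_mul_eq_one_left h, mul_inv_cancel]

theorem com_eq_one {p q : G} (h : Commute p q) : p * q * p⁻¹ * q⁻¹ = 1 := by
  rw [h.eq]; group

theorem conj_eq_one {p q q' : G} (h : p * q * p⁻¹ = q') : p * q * p⁻¹ * q'⁻¹ = 1 := by
  rw [h, mul_inv_cancel]

namespace Gens

variable {R : Real z} (Γ : Gens R)

/-- The generator of a letter index: `x, J, u, r, k, l, y, z, a, b, c`. -/
def gen (i : ℕ) : G :=
  if i = 0 then R.el 75 else if i = 1 then R.el 3 else if i = 2 then R.el 615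
  else if i = 3 then R.el 327 else if i = 4 then Γ.k else if i = 5 then Γ.l
  else if i = 6 then R.el 42 else if i = 7 then z else if i = 8 then Γ.a
  else if i = 9 then Γ.b else R.el 3 * Γ.a * (R.el 3)⁻¹

/-- The value of a letter. -/
def val (l : ℕ) : G := if l % 2 = 0 then Γ.gen (l / 2) else (Γ.gen (l / 2))⁻¹

/-- The value of a word. -/
def valW : List ℕ → G
  | [] => 1
  | l :: w => Γ.val l * valW w

theorem valW_append (v w : List ℕ) : Γ.valW (v ++ w) = Γ.valW v * Γ.valW w := by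
  induction v with
  | nil => simp [valW]
  | cons l v ih => simp [valW, ih, mul_assoc]

theorem val_h {l : ℕ} (h : isH l = true) : R.el (hLetter l) = Γ.val l := by
  have hl : l < 16 := by simp [isH] at h; exact h.2
  have hz : R.el 183 = z := R.map_z
  interval_cases l <;> simp [isH] at h <;>
    simp [hLetter, val, gen, hz, R.z_inv, R.el_inv (show 75 < 1152 by norm_num), R.el_inv (show 3 < 1152 by norm_num),
      R.el_inv (show 615 < 1152 by norm_num), R.el_inv (show 327 < 1152 by norm_num),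
      R.el_inv (show 42 < 1152 by norm_num), R.el_inv (show 183 < 1152 by norm_num)]

theorem valW_h {w : List ℕ} (h : ∀ l ∈ w, isH l = true) : R.el (hWord w) = Γ.valW w := by
  induction w with
  | nil => exact R.el_one
  | cons l w ih =>
    rw [hWord, R.map_mul, Γ.val_h (h l (by simp)), ih fun x hx => h x (by simp [hx]), valW]

theorem w0_eq : R.el 3 * R.el 615 * R.el 3 * R.el 615 = R.el 0 := by
  rw [← R.map_mul, ← R.map_mul, ← R.map_mul,
    show hMul (hMul (hMul 3 615) 3) 615 = 0 by decide +kernel]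

theorem w1_eq : R.el 3 * R.el 615 * R.el 327 * R.el 3 * R.el 615 * R.el 327 = R.el 144 := by
  rw [← R.map_mul, ← R.map_mul, ← R.map_mul, ← R.map_mul, ← R.map_mul,
    show hMul (hMul (hMul (hMul (hMul 3 615) 327) 3) 615) 327 = 144 by decide +kernel]

theorem v_eq : R.el 615 * R.el 327 = R.el 903 := R.mul_congr misc_facts.2.2.2.2.2.2.2.2.2.2.2.2.2.2.2.2.2.2.2

theorem Y_eq : R.el 75 * (R.el 42)⁻¹ = R.el 81 := by
  rw [← R.el_inv (by norm_num), ← R.map_mul, show hMul 75 (hInv 42) = 81 by decide +kernel]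

theorem c_facts :
    R.el 3 * Γ.a * (R.el 3)⁻¹ * R.el 42 = R.el 42 * (R.el 3 * Γ.a * (R.el 3)⁻¹) ∧
    z * (R.el 3 * Γ.a * (R.el 3)⁻¹) * z⁻¹ = (R.el 3 * Γ.a * (R.el 3)⁻¹)⁻¹ := by
  have hJy : Commute (R.el 3) (R.el 42) := R.commute_of (by decide +kernel)
  have hJz : Commute (R.el 3) z := R.el_z_comm (by norm_num)
  refine ⟨((hJy.mul_left Γ.y_a.symm).mul_left hJy.inv_left).eq, ?_⟩
  calc z * (R.el 3 * Γ.a * (R.el 3)⁻¹) * z⁻¹ = (z * R.el 3) * Γ.a * (z * R.el 3)⁻¹ := by group
    _ = R.el 3 * (z * Γ.a * z⁻¹) * (R.el 3)⁻¹ := by rw [← hJz.eq]; group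
    _ = _ := by rw [Γ.z_a]; group

theorem valW_cons2 (l : ℕ) (w : List ℕ) : Γ.valW (l :: w) = Γ.val l * Γ.valW w := rfl

/-- All relators hold. -/
theorem rel_ok : ∀ w ∈ relWords, Γ.valW w = 1 := by
  intro w hw
  by_cases h : w.all isH = true
  · have key := List.all_eq_true.mp h_rels w hw
    simp only [h, Bool.not_true, Bool.false_or, beq_iff_eq] at key
    rw [← Γ.valW_h (List.all_eq_true.mp h), key, R.el_one]
  obtain ⟨c1, c2⟩ := Γ.c_facts
  have hv : R.el 903 = R.el 615 * R.el 327 := (Gens.v_eq).symm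
  have hY : R.el 81 = R.el 75 * (R.el 42)⁻¹ := (Gens.Y_eq).symm
  have hX : R.el 78 = R.el 75 * R.el 42 := R.x_mul_y.symm
  have kX' := Γ.k_X
  have lX' := Γ.l_X
  have lab' := Γ.l_a'b
  rw [hX] at kX' lX' lab'
  have kb' := Γ.k_b
  have lY' := Γ.l_Y
  rw [hY] at kb' lY'
  have lz' := Γ.l_z
  have lv' := Γ.l_v
  rw [hv] at lz' lv'
  have kw' := Γ.k_w
  rw [← Gens.w0_eq (R := R)] at kw'
  have lw' := Γ.l_w
  rw [← Gens.w1_eq (R := R)] at lw'
  have c1' : Commute (R.el 3 * Γ.a * (R.el 3)⁻¹) (R.el 42) := c1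
  simp only [relWords, List.mem_cons, List.not_mem_nil, or_false] at hw
  rcases hw with rfl | rfl | rfl | rfl | rfl | rfl | rfl | rfl | rfl | rfl | rfl | rfl | rfl | rfl | rfl |
    rfl | rfl | rfl | rfl | rfl | rfl | rfl | rfl | rfl | rfl | rfl | rfl | rfl | rfl | rfl | rfl | rfl |
    rfl | rfl | rfl | rfl | rfl | rfl | rfl | rfl | rfl | rfl | rfl | rfl | rfl | rfl | rfl | rfl | rfl |
    rfl | rfl | rfl | rfl | rfl | rfl | rfl | rfl | rfl <;>
    first
    | (exfalso; exact h (by decide))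
    | skip
  all_goals simp only [valW, val, gen, show (2 : ℕ) ≠ 0 by norm_num, Nat.reduceDiv, Nat.reduceMod, Nat.reduceEqDiff,
    if_true, if_false, mul_one, ← mul_assoc, inv_inv]
  · exact Γ.k_cube
  · rw [← com_eq_one kX']; group
  · rw [← com_eq_one kw']; group
  · exact conj_eq_one Γ.k_z
  · rw [← conj_eq_one Γ.k_u]; group
  · rw [Γ.r_k]; group
  · rw [← Γ.k_Y, hY]; group
  · rw [← Γ.k_a]; group
  · rw [← conj_eq_one kb']; group
  · exact Γ.l_cube
  · rw [← com_eq_one lY']; group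
  · rw [← com_eq_one lw']; group
  · rw [← conj_eq_one lz']; group
  · rw [← conj_eq_one lv']; group
  · rw [Γ.r_l]; group
  · rw [← conj_eq_one lX']; group
  · rw [← conj_eq_one Γ.l_ab]; group
  · rw [← conj_eq_one lab']; group
  · exact Γ.a_cube
  · exact Γ.b_cube
  · exact com_eq_one Γ.x_a
  · exact com_eq_one Γ.x_b
  · exact com_eq_one Γ.y_a
  · exact com_eq_one Γ.y_b
  · exact com_eq_one Γ.a_b
  · rw [← conj_eq_one Γ.z_a, R.z_inv]; group
  · rw [← conj_eq_one Γ.z_b, R.z_inv]; group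
  · exact conj_eq_one Γ.u_a
  · rw [← conj_eq_one Γ.u_b]; group
  · rw [← conj_eq_one Γ.r_a]; group
  · exact conj_eq_one Γ.r_b
  · group
  · exact com_eq_one c1'
  · rw [← conj_eq_one c2, R.z_inv]; group

end Gens

end CfsgLib.UFourThree
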