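import Mathlib
import Cfsg.Agent.Lib.H82.UFourThreeNorm
import Cfsg.Agent.S1225

/-!
A group containing a subgroup isomorphic to the projective four-dimensional unitary group over the field
with nine elements which covers the centralizer of an involution and controls its fusion there is equal
to that subgroup: otherwise it would be strongly embedded, and a subgroup of odd order would be
transitive on its 2835 involutions.
-/

set_option autoImplicit false
set_option linter.style.longLine false
set_option maxHeartbeats 1000000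

namespace CfsgLib.UFourThree

open Subgroup

variable {G : Type*} [Group G] [Finite G]

omit [Finite G] in
/-- The conjugates of `z` under a subgroup are counted by the index of the centralizer. -/
theorem card_conjugates (z : G) (H : Subgroup G) (S : Set G) (hS : ∀ t, t ∈ S ↔ ∃ h ∈ H, h * z * h⁻¹ = t) :
    Nat.card S = (centralizer ({z} : Set G)).relIndex H := by
  have hconst : ∀ x y : ↥H, QuotientGroup.leftRel ((centralizer ({z} : Set G)).subgroupOf H) x y ↔
      (x : G) * z * (x : G)⁻¹ = y * z * (y : G)⁻¹ := by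
    intro x y
    rw [QuotientGroup.leftRel_apply, mem_subgroupOf, mem_centralizer_singleton_iff, Subgroup.coe_mul,
      Subgroup.coe_inv]
    constructor
    · intro h
      calc (x : G) * z * (x : G)⁻¹ = x * (z * ((x : G)⁻¹ * y)) * (y : G)⁻¹ := by group
        _ = (y : G) * z * (y : G)⁻¹ := by rw [← h]; group
    · intro h
      calc (x : G)⁻¹ * y * z = (x : G)⁻¹ * ((y : G) * z * (y : G)⁻¹) * y := by group
        _ = z * ((x : G)⁻¹ * y) := by rw [← h]; group
  let f : ↥H ⧸ (centralizer ({z} : Set G)).subgroupOf H → S :=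
    Quotient.lift (fun x : ↥H => (⟨(x : G) * z * (x : G)⁻¹, (hS _).2 ⟨x, x.2, rfl⟩⟩ : S))
      fun x y h => Subtype.ext ((hconst x y).1 h)
  have hf : Function.Bijective f := by
    refine ⟨?_, fun t => ?_⟩
    · intro a b h
      induction a using Quotient.inductionOn with | _ x => ?_
      induction b using Quotient.inductionOn with | _ y => ?_
      exact Quotient.sound ((hconst x y).2 (congrArg Subtype.val h))
    · obtain ⟨h, hh, e⟩ := (hS _).1 t.2
      exact ⟨QuotientGroup.mk (⟨h, hh⟩ : ↥H), Subtype.ext e⟩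
  exact (Nat.card_eq_of_bijective f hf).symm

/-- The conclusion: the subgroup is everything, the order and the single class of involutions. -/
theorem eq_top_of_isoPSU (z : G) (hz : orderOf z = 2)
    (hc : Nat.card (centralizer ({z} : Set G)) = 1152) (G0 : Subgroup G) (hle : centralizer ({z} : Set G) ≤ G0)
    (hconj : ∀ t : G, orderOf t = 2 → Commute t z → ∃ g ∈ G0, g * z * g⁻¹ = t) (K : Type) [Field K] [Fintype K]
    (hK : Fintype.card K = 9) (e : Nonempty (↥G0 ≃* Cfsg.PSU 4 K 3)) :
    G0 = ⊤ ∧ Nat.card G = 2 ^ 7 * 3 ^ 6 * 5 * 7 ∧ ∀ x y : G, orderOf x = 2 → orderOf y = 2 → IsConj x y := by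
  classical
  obtain ⟨e⟩ := e
  have hK' : Fintype.card K = 3 ^ 2 := by rw [hK]; rfl
  have h3f : Fact (Nat.Prime 3) := ⟨Nat.prime_three⟩
  have : CharP K 3 := charP_of_card_eq_prime_pow (f := 2) hK'
  have h0 : Nat.card ↥G0 = 3265920 := by rw [Nat.card_congr e.toEquiv, CfsgLib.UFourThree82.card_psu hK]
  have h2f : Fact (Nat.Prime 2) := ⟨Nat.prime_two⟩
  have h7f : Fact (Nat.Prime 7) := ⟨by norm_num⟩
  have hzc : z ∈ centralizer ({z} : Set G) := mem_centralizer_singleton_iff.2 rfl
  have ord_conj : ∀ g : G, orderOf (g * z * g⁻¹) = 2 := fun g => ((MulAut.conj g).orderOf_eq z).trans hz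
  -- every involution of the subgroup is conjugate to `z` in it
  have fused : ∀ t : G, orderOf t = 2 → t ∈ G0 → ∃ g ∈ G0, g * z * g⁻¹ = t := by
    intro t ht htG
    obtain ⟨S⟩ : Nonempty (Sylow 2 ↥(centralizer ({z} : Set G))) := inferInstance
    have hScard : Nat.card (S : Subgroup ↥(centralizer ({z} : Set G))) = 128 := by
      rw [S.card_eq_multiplicity, hc, show (1152 : ℕ) = 2 ^ 7 * 9 from rfl,
        Nat.factorization_mul (by norm_num) (by norm_num), Nat.Prime.factorization_pow Nat.prime_two,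
        Finsupp.add_apply, Finsupp.single_eq_same, Nat.factorization_eq_zero_of_not_dvd (by norm_num)]
      norm_num
    let S0 : Subgroup ↥G0 := (S : Subgroup ↥(centralizer ({z} : Set G))).map (Subgroup.inclusion hle)
    have hS0 : Nat.card S0 = 128 := by
      rw [card_map_of_injective (Subgroup.inclusion_injective hle), hScard]
    let PS : Sylow 2 ↥G0 := (IsPGroup.of_card (n := 7) (by rw [hS0]; norm_num)).toSylow (fun h => by
      have := S0.card_mul_index
      rw [hS0, h0] at this
      omega)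
    have htp : IsPGroup 2 (zpowers (⟨t, htG⟩ : ↥G0)) :=
      IsPGroup.of_card (n := 1) (by rw [Nat.card_zpowers, orderOf_mk, ht, pow_one])
    obtain ⟨T, hT⟩ := htp.exists_le_sylow
    obtain ⟨g, hg⟩ := MulAction.exists_smul_eq ↥G0 T PS
    have hm : g * ⟨t, htG⟩ * g⁻¹ ∈ (g • T : Sylow 2 ↥G0) := ⟨_, hT (mem_zpowers _), rfl⟩
    rw [hg] at hm
    obtain ⟨⟨c, hcc⟩, -, hce⟩ := hm
    have hval : c = (g : G) * t * (g : G)⁻¹ := congrArg Subtype.val hce
    obtain ⟨k, hk, hk'⟩ := hconj c (by rw [hval]; exact ((MulAut.conj (g : G)).orderOf_eq t).trans ht)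
      (mem_centralizer_singleton_iff.1 hcc)
    refine ⟨(g : G)⁻¹ * k, mul_mem (inv_mem g.2) hk, ?_⟩
    rw [show (g : G)⁻¹ * k * z * ((g : G)⁻¹ * k)⁻¹ = (g : G)⁻¹ * (k * z * k⁻¹) * g by group, hk', hval]
    group
  have htop : G0 = ⊤ := by
    by_contra hne
    -- an involution outside
    obtain ⟨g0, hg0⟩ : ∃ g : G, g ∉ G0 := by
      by_contra h
      push Not at h
      exact hne (eq_top_iff.2 fun g _ => h g)
    have hu : g0 * z * g0⁻¹ ∉ G0 := by
      intro h
      obtain ⟨k, hk, e'⟩ := fused _ (ord_conj g0) h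
      refine hg0 ?_
      have : k⁻¹ * g0 ∈ G0 := hle (mem_centralizer_singleton_iff.2 (by
        calc k⁻¹ * g0 * z = k⁻¹ * (g0 * z * g0⁻¹) * g0 := by group
          _ = z * (k⁻¹ * g0) := by rw [← e']; group))
      simpa using mul_mem hk this
    have hSE : Cfsg.IsStronglyEmbedded G0 := by
      refine ⟨hne, by rw [h0]; decide, fun g hg => ?_⟩
      rw [Nat.odd_iff, ← Nat.two_dvd_ne_zero]
      intro h2
      obtain ⟨⟨t, ht0, ht1⟩, ht⟩ := exists_prime_orderOf_dvd_card' 2 h2
      rw [← orderOf_coe] at ht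
      change orderOf t = 2 at ht
      obtain ⟨s, hs, hst⟩ := ht1
      have hst' : g * s * g⁻¹ = t := hst
      have hs2 : orderOf s = 2 := by rw [← (MulAut.conj g).orderOf_eq s]; exact (by rw [← ht]; exact congrArg orderOf hst)
      obtain ⟨k1, hk1, e1⟩ := fused t ht ht0
      obtain ⟨k2, hk2, e2⟩ := fused s hs2 hs
      refine hg ?_
      have : k1⁻¹ * g * k2 ∈ G0 := hle (mem_centralizer_singleton_iff.2 (by
        calc k1⁻¹ * g * k2 * z = k1⁻¹ * (g * (k2 * z * k2⁻¹) * g⁻¹) * g * k2 := by group
          _ = k1⁻¹ * (k1 * z * k1⁻¹) * g * k2 := by rw [e2, hst', e1]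
          _ = z * (k1⁻¹ * g * k2) := by group))
      have := mul_mem (mul_mem hk1 this) (inv_mem hk2)
      simpa [mul_assoc] using this
    set u := g0 * z * g0⁻¹ with hudef
    set D := G0 ⊓ G0.map (MulAut.conj u).toMonoidHom with hD
    let S : Set G := {t | orderOf t = 2 ∧ t ∈ G0}
    have hSG : ∀ t, t ∈ S ↔ ∃ h ∈ G0, h * z * h⁻¹ = t := fun t =>
      ⟨fun h => fused t h.1 h.2, fun ⟨h, hh, e'⟩ => ⟨e' ▸ ord_conj h,
        e' ▸ mul_mem (mul_mem hh (hle hzc)) (inv_mem hh)⟩⟩
    have hSD : ∀ t, t ∈ S ↔ ∃ h ∈ D, h * z * h⁻¹ = t := fun t =>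
      ⟨fun h => (Cfsg.Agent.S1225.result G0 hSE u (ord_conj g0) hu z t hz (hle hzc) h.1 h.2).1,
        fun ⟨h, hh, e'⟩ => (hSG t).2 ⟨h, hh.1, e'⟩⟩
    have h2835 : 2835 ∣ Nat.card D := by
      have e1 := card_conjugates z G0 S hSG
      have e2 := card_conjugates z D S hSD
      have e3 := ((centralizer ({z} : Set G)).subgroupOf G0).card_mul_index
      rw [Nat.card_congr (subgroupOfEquivOfLe hle).toEquiv, hc, h0] at e3
      have h := index_dvd_card ((centralizer ({z} : Set G)).subgroupOf D)
      change (centralizer ({z} : Set G)).relIndex D ∣ Nat.card D at h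
      change 1152 * (centralizer ({z} : Set G)).relIndex G0 = 3265920 at e3
      rw [← e2, e1] at h
      rwa [show (centralizer ({z} : Set G)).relIndex G0 = 2835 by omega] at h
    have hodd : Odd (Nat.card D) := hSE.2.2 u hu
    have hdvd : Nat.card D ∣ 3265920 := h0 ▸ card_dvd_of_le (inf_le_left : D ≤ G0)
    -- the Sylow subgroups of order seven of the intersection
    obtain ⟨P⟩ : Nonempty (Sylow 7 ↥D) := inferInstance
    have hD0 : Nat.card ↥D ≠ 0 := Nat.card_pos.ne'
    have hP : Nat.card (P : Subgroup ↥D) = 7 := by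
      rw [P.card_eq_multiplicity]
      have h1 : 1 ≤ (Nat.card ↥D).factorization 7 :=
        (Nat.Prime.pow_dvd_iff_le_factorization h7f.out hD0).1 (by rw [pow_one]; exact dvd_trans (by norm_num) h2835)
      have h2 : (Nat.card ↥D).factorization 7 ≤ 1 := by
        by_contra h
        push Not at h
        have := dvd_trans ((Nat.Prime.pow_dvd_iff_le_factorization h7f.out hD0).2 h) hdvd
        norm_num at this
      rw [show (Nat.card ↥D).factorization 7 = 1 by omega, pow_one]
    let j : ↥D →* Cfsg.PSU 4 K 3 := e.toMonoidHom.comp (Subgroup.inclusion (inf_le_left : D ≤ G0))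
    have hj : Function.Injective j := e.injective.comp (Subgroup.inclusion_injective _)
    have h21 : Nat.card (normalizer ((P : Subgroup ↥D) : Set ↥D)) ∣ 21 := by
      rw [← (CfsgLib.UFourThree82.normalizer_seven hK ((P : Subgroup ↥D).map j)
        (by rw [card_map_of_injective hj, hP])).1, ← card_map_of_injective hj]
      exact card_dvd_of_le (le_normalizer_map j)
    have h7N : 7 ∣ Nat.card (normalizer ((P : Subgroup ↥D) : Set ↥D)) := by
      have := card_dvd_of_le (le_normalizer (H := (P : Subgroup ↥D)))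
      rwa [hP] at this
    have hmod := card_sylow_modEq_one 7 ↥D
    rw [P.card_eq_index_normalizer] at hmod
    have hmul := (normalizer ((P : Subgroup ↥D) : Set ↥D)).card_mul_index
    obtain ⟨q, hq⟩ := h2835
    have hq' : q ∣ 1152 := by
      rw [hq] at hdvd
      exact Nat.dvd_of_mul_dvd_mul_left (by norm_num : 0 < 2835) hdvd
    have hqodd : Odd q := (Nat.odd_mul.1 (hq ▸ hodd)).2
    have hq9 : q ∣ 9 := by
      rw [show (1152 : ℕ) = 2 ^ 7 * 9 from rfl] at hq'
      exact (Nat.Coprime.pow_right 7 (Nat.coprime_two_right.2 hqodd)).dvd_of_dvd_mul_left hq'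
    set N := Nat.card (normalizer ((P : Subgroup ↥D) : Set ↥D))
    set n := (normalizer ((P : Subgroup ↥D) : Set ↥D)).index
    rw [hq] at hmul
    have hN : N = 7 ∨ N = 21 := by
      have := Nat.le_of_dvd (by norm_num) h21
      interval_cases N <;> omega
    have hq3 : q = 1 ∨ q = 3 ∨ q = 9 := by
      have := Nat.le_of_dvd (by norm_num) hq9
      interval_cases q <;> omega
    change n % 7 = 1 % 7 at hmod
    rcases hN with hN | hN <;> rcases hq3 with h | h | h <;> rw [hN, h] at hmul <;> omega
  refine ⟨htop, ?_, fun x y hx hy => ?_⟩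
  · rw [← card_top (G := G), ← htop, h0]; norm_num
  · obtain ⟨a, -, rfl⟩ := fused x hx (htop ▸ mem_top _)
    obtain ⟨b, -, rfl⟩ := fused y hy (htop ▸ mem_top _)
    exact isConj_iff.2 ⟨b * a⁻¹, by group⟩

end CfsgLib.UFourThree
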