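import Mathlib

/-!
Codes for `SL(2,3)` and for the centraliser of an involution in the group `U₄(3)`: an element is
`(a, b) w^s r^t` with `a, b` in `SL(2,3)` modulo the diagonal sign.
-/

set_option autoImplicit false
set_option maxRecDepth 100000
set_option Elab.async false

namespace CfsgLib.UFourThree

/-- Entries of the 24 elements. -/
def slEnt : List (ℕ × ℕ × ℕ × ℕ) := [(0, 1, 2, 0), (0, 1, 2, 1), (0, 1, 2, 2), (1, 0, 0, 1), (1, 0, 1, 1), (1, 0, 2, 1), (1, 1, 0, 1), (1, 1, 1, 2), (1, 1, 2, 0), (1, 2, 0, 1), (1, 2, 1, 0), (1, 2, 2, 2), (0, 2, 1, 0), (0, 2, 1, 2), (0, 2, 1, 1), (2, 0, 0, 2), (2, 0, 2, 2), (2, 0, 1, 2), (2, 2, 0, 2), (2, 2, 2, 1), (2, 2, 1, 0), (2, 1, 0, 2), (2, 1, 2, 0), (2, 1, 1, 1)]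

/-- Byte `i` of a packed table. -/
def tab (c i : ℕ) : ℕ := (c >>> (8 * i)) &&& 255

/-- Packed multiplication table. -/
def muCode : ℕ := 0xf0e08150c05120d0b0a0407030214090011060117161013110d07170e04140c0a0903060501130b0210080016150f12100c06160d03130e090b05080400120a010f07021517111401130502100b0016080f12150d07110e04170c0a14030609001204010f0a0215071114170c06100d03160e091305080b0214030011090117061013160e080f0c05150d0b1204070a0a090b070608040305010002161517131214100f110d0c0e090b0a0608070305040002011517161214130f11100c0e0d0b0a0908070605040302010017161514131211100f0e0d0c1204000f0a0115070214171106100c03160d09130e080b05140302110900170601131610080f0e05150c0b120d070a04130501100b0216080012150f07110d04170e0a140c0609030302140900110601171610130f0e08150c05120d0b0a04070501130b0210080016150f12110d07170e04140c0a0903060400120a010f070215171114100c06160d03130e090b05080d07110e04170c0a1403060901130502100b0016080f12150c06100d03160e091305080b001204010f0a0215071114170e080f0c05150d0b1204070a021403001109011706101316161517131214100f110d0c0e0a090b0706080403050100021517161214130f11100c0e0d090b0a06080703050400020117161514131211100f0e0d0c0b0a0908070605040302010006100c03160d09130e080b051204000f0a01150702141711080f0e05150c0b120d070a0414030211090017060113161007110d04170e0a140c060903130501100b0216080012150f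

/-- Product. -/
def sMul (a b : ℕ) : ℕ := tab muCode (24 * (a % 24) + b % 24)

/-- Inverse. -/
def sInv (a : ℕ) : ℕ := tab 0xb0d1202071510110f0816001701060e1309040503140a0c (a % 24)

/-- Conjugation by the diagonal matrix with entries `1, -1`. -/
def sDc (a : ℕ) : ℕ := tab 0x13141216171510110f0102000708060a0b090405030d0e0c (a % 24)

/-- Negation. -/
def sNeg (a : ℕ) : ℕ := (a % 24 + 12) % 24

/-- The matrix of a code. -/
def slMat (a : ℕ) : Matrix (Fin 2) (Fin 2) (ZMod 3) :=
  let e := slEnt.getD (a % 24) (0, 0, 0, 0)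
  !![(e.1 : ZMod 3), (e.2.1 : ZMod 3); (e.2.2.1 : ZMod 3), (e.2.2.2 : ZMod 3)]

/-- The code of an element of the model: the fields. -/
def enc (a b s t : ℕ) : ℕ :=
  if b % 24 < 12 then ((2 * (s % 2) + t % 2) * 24 + a % 24) * 12 + b % 24
  else ((2 * (s % 2) + t % 2) * 24 + sNeg a) * 12 + sNeg b

/-- First coordinate. -/
def cA (n : ℕ) : ℕ := n / 12 % 24
/-- Second coordinate. -/
def cB (n : ℕ) : ℕ := n % 12
/-- Exponent of the exchanging element. -/
def cS (n : ℕ) : ℕ := n / 576 % 2
/-- Exponent of the diagonal element. -/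
def cT (n : ℕ) : ℕ := n / 288 % 2

/-- Conjugation on a coordinate. -/
def sTw (t a : ℕ) : ℕ := if t = 0 then a % 24 else sDc a

/-- Product with parameters `m = w²`, `p = r²`, `c = [w, r]`, as powers of the central involution. -/
def mulP (m p c : ℕ) (g h : ℕ) : ℕ :=
  let a := sTw (cT g) (cA h)
  let b := sTw (cT g) (cB h)
  let a' := if cS g = 0 then a else b
  let b' := if cS g = 0 then b else a
  let k := m * (cS g * cS h) + p * (cT g * cT h) + c * (cT g * cS h)
  let u := sMul (cA g) a'
  enc (if k % 2 = 0 then u else sNeg u) (sMul (cB g) b') (cS g + cS h) (cT g + cT h)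

/-- Inverse with parameters. -/
def invP (m p c : ℕ) (g : ℕ) : ℕ :=
  let g2 := mulP m p c g g
  let g4 := mulP m p c g2 g2
  let g8 := mulP m p c g4 g4
  let g16 := mulP m p c g8 g8
  let g24 := mulP m p c g16 g8
  let g23 := mulP m p c (mulP m p c g16 g4) (mulP m p c g2 g)
  if g24 = 39 then g23 else 0

/-- The model product. -/
def hMul (g h : ℕ) : ℕ := mulP 0 1 1 g h
/-- The model inverse. -/
def hInv (g : ℕ) : ℕ := invP 0 1 1 g
/-- Conjugate. -/
def hConj (g h : ℕ) : ℕ := hMul (hMul g h) (hInv g)
/-- Commutator. -/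
def hCom (g h : ℕ) : ℕ := hMul (hConj g h) (hInv h)

theorem slMat_mul : ∀ a : Fin 24, ∀ b : Fin 24, slMat (sMul a b) = slMat a * slMat b := by
  decide +kernel

theorem slMat_det : ∀ a : Fin 24, (slMat a).det = 1 := by decide +kernel

theorem slMat_injective : ∀ a : Fin 24, ∀ b : Fin 24, slMat a = slMat b → a = b := by decide +kernel

theorem slMat_surjective : ∀ a b c d : ZMod 3, a * d - b * c = 1 → ∃ i : Fin 24, slMat i = !![a, b; c, d] := by
  decide +kernel

theorem table_lt : ∀ a : Fin 24, ∀ b : Fin 24, sMul a b < 24 ∧ sInv a < 24 ∧ sDc a < 24 := by decide +kernel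

theorem table_ops : ∀ a : Fin 24, sMul 3 a = a ∧ sMul a 3 = a ∧ sMul (sInv a) a = 3 ∧
    sMul a (sInv a) = 3 ∧ sMul 15 a = sNeg a ∧ sMul a 15 = sNeg a ∧ sDc (sDc a) = a := by decide +kernel

theorem dc_mul : ∀ a : Fin 24, ∀ b : Fin 24, sDc (sMul a b) = sMul (sDc a) (sDc b) := by decide +kernel

theorem slMat_dc : ∀ a : Fin 24, slMat (sDc a) = !![1, 0; 0, -1] * slMat a * !![1, 0; 0, -1] := by
  decide +kernel

theorem code_lt : ((List.range 1152).all fun g => hInv g < 1152 && hMul g (hInv g) == 39) = true := by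
  decide +kernel

end CfsgLib.UFourThree
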