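import Cfsg.Agent.Lib.UFourThree.Core

/-!
The centraliser of the subgroup of order nine is not inside the centraliser of the involution.
-/

set_option autoImplicit false
set_option maxRecDepth 100000
set_option Elab.async false

namespace CfsgLib.UFourThree

variable {G : Type*} [Group G] {z : G}

namespace Real

variable (R : Real z)

theorem aList_lt {t : ℕ} (ht : t ∈ aList) : t < 1152 := by
  have h : aList.all (· < 1152) = true := by decide +kernel
  simpa using List.all_eq_true.mp h t ht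

theorem k_fix_w (T : Tri R) : ∀ w ∈ [39, 0, 91, 143], T.k * R.el w * T.k⁻¹ = R.el w := by
  have h0 : Commute T.k (R.el 0) := T.k_w
  have h91 : Commute T.k (R.el 91) := by
    rw [← misc_facts.1, R.el_conj (by norm_num)]
    exact (T.k_X.mul_right h0).mul_right T.k_X.inv_right
  intro w hw
  simp only [List.mem_cons, List.not_mem_nil, or_false] at hw
  rcases hw with rfl | rfl | rfl | rfl <;> refine conj_of_commute ?_
  · rw [R.el_one]; exact Commute.one_right _
  · exact h0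
  · exact h91
  · rw [← misc_facts.2.1, R.map_mul]; exact h91.mul_right h0

theorem k_eCyc (T : Tri R) : ∀ e ∈ [39, 183, 615, 759], T.k * R.el e * T.k⁻¹ = R.el (eCyc e) := by
  intro e he
  simp only [List.mem_cons, List.not_mem_nil, or_false] at he
  rcases he with rfl | rfl | rfl | rfl <;>
    simp only [eCyc, show (39 : ℕ) ≠ 183 by norm_num, show (39 : ℕ) ≠ 615 by norm_num,
      show (39 : ℕ) ≠ 759 by norm_num, show (615 : ℕ) ≠ 183 by norm_num, show (759 : ℕ) ≠ 183 by norm_num,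
      show (759 : ℕ) ≠ 615 by norm_num, if_true, if_false]
  · rw [R.el_one]; group
  · rw [R.map_z, T.k_z]
  · rw [T.k_u, R.el_uz]
  · rw [R.el_uz, R.k_uz T, R.map_z]

theorem k_kA (T : Tri R) {t : ℕ} (ht : t ∈ aList) : kA t ∈ aList ∧ T.k * R.el t * T.k⁻¹ = R.el (kA t) := by
  have key := List.all_eq_true.mp a_facts t ht
  simp only [Bool.and_eq_true, beq_iff_eq, List.contains_iff_mem, List.all_eq_true] at key
  obtain ⟨⟨⟨⟨h1, h2⟩, h3⟩, h4⟩, -⟩ := key
  refine ⟨h4 _ (by simp), ?_⟩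
  calc T.k * R.el t * T.k⁻¹ = T.k * (R.el (eOf t) * R.el (hMul (eOf t) t)) * T.k⁻¹ := by
        rw [← R.map_mul (eOf t) (hMul (eOf t) t), h3]
    _ = (T.k * R.el (eOf t) * T.k⁻¹) * (T.k * R.el (hMul (eOf t) t) * T.k⁻¹) := by group
    _ = _ := by rw [R.k_eCyc T _ h1, R.k_fix_w T _ h2, kA, ← R.map_mul]

theorem kInv_kA (T : Tri R) {t : ℕ} (ht : t ∈ aList) :
    kA (kA t) ∈ aList ∧ T.k⁻¹ * R.el t * T.k = R.el (kA (kA t)) := by
  obtain ⟨h1, e1⟩ := R.k_kA T ht
  obtain ⟨h2, e2⟩ := R.k_kA T h1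
  refine ⟨h2, ?_⟩
  rw [← e2, ← e1, R.k_sq T]
  calc T.k * T.k * R.el t * T.k = T.k * (T.k * R.el t * T.k⁻¹) * T.k⁻¹ * (T.k * T.k * T.k) := by group
    _ = _ := by rw [T.cube, mul_one, R.k_sq T]

theorem q_conj {q t : ℕ} (hq : q = 3 ∨ q = hInv 3 ∨ q = 7 ∨ q = 78) (ht : t ∈ aList) :
    hConj q t ∈ aList ∧ R.el q * R.el t * (R.el q)⁻¹ = R.el (hConj q t) := by
  have key := List.all_eq_true.mp a_facts t ht
  simp only [Bool.and_eq_true, beq_iff_eq, List.contains_iff_mem, List.all_eq_true] at key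
  obtain ⟨⟨-, h4⟩, -⟩ := key
  have hl : hInv 3 < 1152 := by decide +kernel
  refine ⟨?_, (R.el_conj (by rcases hq with rfl | rfl | rfl | rfl <;> omega) t).symm⟩
  rcases hq with rfl | rfl | rfl | rfl <;> exact h4 _ (by simp)

/-- The element of order three is conjugate to the inverse of `78`. -/
theorem k_conj_X (T : Tri R) : ∃ g : G, g * T.k * g⁻¹ = (R.el 78)⁻¹ := by
  set n := R.el 3 * T.k * R.el 7 * T.k * R.el 3 with hn
  have hq7 : (R.el 7)⁻¹ = R.el 7 :=
    inv_eq_of_mul_eq_one_right (by rw [R.mul_congr misc_facts.2.2.1, R.el_one])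
  have hnA : ∀ t ∈ aList, n * R.el t * n⁻¹ = R.el (nA t) ∧ n⁻¹ * R.el t * n = R.el (nI t) ∧
      nI t ∈ aList := by
    intro t ht
    obtain ⟨a1, b1⟩ := R.q_conj (q := 3) (Or.inl rfl) ht
    obtain ⟨a2, b2⟩ := R.k_kA T a1
    obtain ⟨a3, b3⟩ := R.q_conj (q := 7) (Or.inr (Or.inr (Or.inl rfl))) a2
    obtain ⟨a4, b4⟩ := R.k_kA T a3
    obtain ⟨a5, b5⟩ := R.q_conj (q := 3) (Or.inl rfl) a4
    obtain ⟨c1, d1⟩ := R.q_conj (q := hInv 3) (Or.inr (Or.inl rfl)) ht
    obtain ⟨c2, d2⟩ := R.kInv_kA T c1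
    obtain ⟨c3, d3⟩ := R.q_conj (q := 7) (Or.inr (Or.inr (Or.inl rfl))) c2
    obtain ⟨c4, d4⟩ := R.kInv_kA T c3
    obtain ⟨c5, d5⟩ := R.q_conj (q := hInv 3) (Or.inr (Or.inl rfl)) c4
    refine ⟨?_, ?_, c5⟩
    · rw [nA, ← b5, ← b4, ← b3, ← b2, ← b1, hn]; group
    · rw [nI, ← d5, ← d4, ← d3, ← d2, ← d1, hn, R.el_inv (show 3 < 1152 by norm_num), hq7]
      simp only [mul_inv_rev, inv_inv, hq7]
      group
  set M := n * R.el 78 * n⁻¹ with hM
  have hMk : ∀ t ∈ [183, 615, 0, 91], Commute (M * T.k) (R.el t) := by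
    intro t ht
    have hta : t ∈ aList := by
      simp only [List.mem_cons, List.not_mem_nil, or_false] at ht
      rcases ht with rfl | rfl | rfl | rfl <;> decide
    obtain ⟨h1, e1⟩ := R.k_kA T hta
    obtain ⟨-, e2, h2⟩ := hnA _ h1
    obtain ⟨h3, e3⟩ := R.q_conj (q := 78) (Or.inr (Or.inr (Or.inr rfl))) h2
    obtain ⟨e4, -, -⟩ := hnA _ h3
    have key := List.all_eq_true.mp m_facts t ht
    rw [beq_iff_eq] at key
    refine commute_of_conj ?_
    calc M * T.k * R.el t * (M * T.k)⁻¹ = M * (T.k * R.el t * T.k⁻¹) * M⁻¹ := by group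
      _ = n * (R.el 78 * (n⁻¹ * R.el (kA t) * n) * (R.el 78)⁻¹) * n⁻¹ := by rw [e1, hM]; group
      _ = R.el t := by rw [e2, e3, e4, key]
  obtain ⟨a, ha, ea⟩ := R.surj (M * T.k) (by have := hMk 183 (by simp); rwa [R.map_z] at this)
  have haA : a ∈ aList := by
    have key := List.all_eq_true.mp a_cent a (List.mem_range.mpr ha)
    have h : ∀ t ∈ [183, 615, 0, 91], hMul a t = hMul t a := fun t ht =>
      R.code_of_commute (ea ▸ hMk t ht)
    simpa [h 615 (by simp), h 0 (by simp), h 91 (by simp)] using key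
  have key := List.all_eq_true.mp a_facts a haA
  simp only [Bool.and_eq_true, beq_iff_eq, List.contains_iff_mem, List.all_eq_true] at key
  obtain ⟨⟨⟨⟨h1, h2⟩, h3⟩, -⟩, -⟩ := key
  set e := R.el (eOf a) with he
  set w := R.el (hMul (eOf a) a) with hw
  have hM' : M = e * w * T.k⁻¹ := by rw [he, hw, ← R.map_mul, h3, ea]; group
  have M3 : M * M * M = 1 := by
    calc M * M * M = n * (R.el 78 * R.el 78 * R.el 78) * n⁻¹ := by rw [hM]; group
      _ = 1 := by
          rw [← R.map_mul, ← R.map_mul, four_facts.2.2.2.2.2.2.2.2.2.2.2.2.1, R.el_one]; group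
  -- the component in `⟨0, 91⟩` is trivial
  have wk : Commute w T.k⁻¹ := ((commute_of_conj (R.k_fix_w T _ h2)).inv_left).symm
  have we : Commute w e := by
    refine R.commute_of ?_
    have hc : ([39, 183, 615, 759].all fun e => [39, 0, 91, 143].all fun w => hMul e w == hMul w e) = true := by
      decide +kernel
    exact (beq_iff_eq.mp (List.all_eq_true.mp (List.all_eq_true.mp hc _ h1) _ h2)).symm
  obtain ⟨e', he'⟩ : ∃ e' : G, e' * (T.k⁻¹ * e'⁻¹ * T.k) = e := by
    simp only [List.mem_cons, List.not_mem_nil, or_false] at h1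
    have kz' : T.k⁻¹ * z * T.k = R.el 615 * z := inv_conj (R.k_uz T)
    have ku' : T.k⁻¹ * R.el 615 * T.k = z := inv_conj T.k_z
    have kuz' : T.k⁻¹ * (R.el 615 * z) * T.k = R.el 615 := inv_conj T.k_u
    rcases h1 with h | h | h | h <;> rw [he, h]
    · exact ⟨1, by rw [R.el_one]; group⟩
    · refine ⟨R.el 615 * z, ?_⟩
      rw [mul_inv_rev, R.z_inv, R.u_inv, R.z_u.eq, kuz', R.map_z, mul_assoc, R.z_u.eq, ← mul_assoc, R.u_sq,
        one_mul]
    · refine ⟨z, ?_⟩
      rw [R.z_inv, kz', R.z_u.symm.eq, ← mul_assoc, R.z_sq, one_mul]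
    · refine ⟨R.el 615, ?_⟩
      rw [R.u_inv, ku', R.el_uz]
  have hconj : e * T.k⁻¹ = e' * T.k⁻¹ * e'⁻¹ := by rw [← he']; group
  have hw1 : w = 1 := by
    have e3 : (e * T.k⁻¹) * (e * T.k⁻¹) * (e * T.k⁻¹) = 1 := by
      rw [hconj]
      calc e' * T.k⁻¹ * e'⁻¹ * (e' * T.k⁻¹ * e'⁻¹) * (e' * T.k⁻¹ * e'⁻¹)
          = e' * (T.k * T.k * T.k)⁻¹ * e'⁻¹ := by group
        _ = 1 := by rw [T.cube]; group
    have hwp : Commute w (e * T.k⁻¹) := we.mul_right wk
    have hM'' : M = e * T.k⁻¹ * w := by rw [hM', mul_assoc, wk.eq, ← mul_assoc]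
    have h : M * M * M = (e * T.k⁻¹) * (e * T.k⁻¹) * (e * T.k⁻¹) * (w * w * w) := by
      rw [hM'']
      generalize e * T.k⁻¹ = p at hwp ⊢
      simpa [pow_succ, mul_assoc] using hwp.symm.mul_pow 3
    rw [M3, e3, one_mul, hw, ← R.map_mul, ← R.map_mul] at h
    have hc : ([39, 0, 91, 143].all fun w => w == 39 || !(hMul (hMul w w) w == 39)) = true := by decide +kernel
    have := List.all_eq_true.mp hc _ h2
    simp only [Bool.or_eq_true, beq_iff_eq, Bool.not_eq_true', beq_eq_false_iff_ne] at this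
    rcases this with h' | h'
    · rw [hw, h', R.el_one]
    · exact absurd (R.inj _ _ (hMul_lt _ _) (by norm_num) (h.symm.trans R.el_one.symm)) h'
  rw [hw1, mul_one, hconj, hM] at hM'
  refine ⟨n⁻¹ * e', ?_⟩
  calc n⁻¹ * e' * T.k * (n⁻¹ * e')⁻¹ = n⁻¹ * (e' * T.k⁻¹ * e'⁻¹)⁻¹ * n := by group
    _ = _ := by rw [← hM']; group

theorem z_mem_of_normalizes [Finite G] (hsm : ∀ g, Commute g (R.el 75) → Commute g (R.el 42) → Commute g z)
    {h : G} (hh : ∀ p ∈ R.P9, h * p * h⁻¹ ∈ R.P9) : Commute h z := by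
  let f : R.P9 → R.P9 := fun p => ⟨h * p * h⁻¹, hh p p.2⟩
  have hf : Function.Surjective f := Finite.injective_iff_surjective.mp fun a b e =>
    Subtype.ext (mul_left_cancel (mul_right_cancel (congrArg Subtype.val e)))
  have hback : ∀ q ∈ R.P9, Commute (h * z * h⁻¹) q := fun q hq => by
    obtain ⟨⟨p, hp⟩, e⟩ := hf ⟨q, hq⟩
    obtain ⟨c, hc, rfl⟩ := hp
    rw [← show h * R.el c * h⁻¹ = q from congrArg Subtype.val e]
    exact comm_conj rfl (R.z_comm_el (R.pList_spec hc).1)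
  have hx := hback _ R.x_mem_P9
  have hy := hback _ R.y_mem_P9
  obtain ⟨c, hc, -, h2⟩ := R.cp_code (hsm _ hx hy) hx hy
  rcases h2 (by rw [show h * z * h⁻¹ * (h * z * h⁻¹) = h * (z * z) * h⁻¹ by group, R.z_sq]; group) with e | e
  · exfalso
    exact R.el_ne_one (show 183 < 1152 by norm_num) (by norm_num) (R.map_z.trans (conj_eq_one_iff.mp e))
  · exact commute_of_conj e

theorem not_small [Finite G] (T : Tri R)
    (hsm : ∀ g, Commute g (R.el 75) → Commute g (R.el 42) → Commute g z) : False := by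
  have : Fact (Nat.Prime 3) := ⟨Nat.prime_three⟩
  have hP3 : IsPGroup 3 R.P9 := IsPGroup.of_card (n := 2) (by rw [R.card_P9]; norm_num)
  -- the subgroup is Sylow
  have hmax : ∀ {Q : Subgroup G}, IsPGroup 3 Q → R.P9 ≤ Q → Q = R.P9 := by
    intro Q hQ hle
    by_contra hne
    have hlt : R.P9.subgroupOf Q < ⊤ := by
      rw [lt_top_iff_ne_top, Ne, Subgroup.subgroupOf_eq_top]
      exact fun h => hne (le_antisymm h hle)
    haveI := hQ.isNilpotent
    have hnc := normalizerCondition_of_isNilpotent (G := Q) (R.P9.subgroupOf Q) hlt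
    obtain ⟨g, hgN, hgP⟩ := SetLike.exists_of_lt hnc
    have hnorm : ∀ p ∈ R.P9, (g : G) * p * (g : G)⁻¹ ∈ R.P9 := fun p hp =>
      (Subgroup.mem_normalizer_iff.mp hgN ⟨p, hle hp⟩).mp hp
    obtain ⟨c, hc, ec⟩ := R.surj _ (R.z_mem_of_normalizes hsm hnorm)
    obtain ⟨k, hk⟩ := hQ g
    have hk' : (g : G) ^ 3 ^ k = 1 := congrArg Subtype.val hk
    have h24 := orderOf_dvd_of_pow_eq_one (R.ord_code hc).1
    rw [ec] at h24
    have h3 : orderOf (g : G) ∣ 3 := by
      rw [show 24 = 2 ^ 3 * 3 from rfl] at h24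
      refine Nat.Coprime.dvd_of_dvd_mul_left (Nat.Coprime.pow_right 3 ?_) h24
      exact Nat.Coprime.coprime_dvd_left (orderOf_dvd_of_pow_eq_one hk')
        (Nat.Coprime.pow_left k (by norm_num))
    have hn : normPB c = true := by
      have h : ∀ q ∈ [75, 42], pList.contains (hConj c q) = true := fun q hq => by
        have hq' : R.el q ∈ R.P9 := by
          simp only [List.mem_cons, List.not_mem_nil, or_false] at hq
          rcases hq with rfl | rfl
          exacts [R.x_mem_P9, R.y_mem_P9]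
        obtain ⟨d, hd, ed⟩ := hnorm _ hq'
        rw [← ec, ← R.el_conj hc] at ed
        rw [R.inj _ _ (hConj_lt c q) (R.pList_spec hd).1 ed.symm]
        simpa using hd
      rw [normPB, h 75 (by simp), h 42 (by simp)]; rfl
    have key := List.all_eq_true.mp normP c (List.mem_range.mpr hc)
    have hc3 : hMul (hMul c c) c = 39 := by
      refine R.inj _ _ (hMul_lt _ _) (by norm_num) ?_
      rw [R.map_mul, R.map_mul, ec, R.el_one, show (g : G) * g * g = (g : G) ^ 3 by simp [pow_succ],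
        orderOf_dvd_iff_pow_eq_one.mp h3]
    simp [hn, hc3] at key
    exact hgP ⟨c, key.1, ec⟩
  let S : Sylow 3 G := ⟨R.P9, hP3, hmax⟩
  have hS : (S : Subgroup G) = R.P9 := rfl
  -- the element of order three
  set L := Subgroup.centralizer ({R.el 78} : Set G) with hL
  have memL : ∀ g, g ∈ L ↔ Commute g (R.el 78) := fun g => Subgroup.mem_centralizer_singleton_iff
  have hPL : R.P9 ≤ L := by
    rintro g ⟨c, hc, rfl⟩
    rw [memL, ← R.x_mul_y]
    exact (R.pList_spec hc).2.1.mul_right (R.pList_spec hc).2.2.1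
  let SL : Sylow 3 L := S.subtype (hS ▸ hPL)
  let kL : L := ⟨T.k, (memL _).mpr T.k_X⟩
  have hkL : IsPGroup 3 (Subgroup.zpowers kL) := by
    intro a
    refine ⟨1, ?_⟩
    obtain ⟨j, hj⟩ := a.2
    refine Subtype.ext ?_
    show (a : L) ^ (3 ^ 1) = 1
    simp only at hj
    rw [← hj, ← zpow_natCast, ← zpow_mul, mul_comm, zpow_mul, zpow_natCast]
    have : kL ^ (3 ^ 1) = 1 := Subtype.ext (by
      show T.k ^ (3 ^ 1) = 1
      rw [pow_one, ← T.cube]; simp [pow_succ])
    rw [this, one_zpow]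
  obtain ⟨S', hS'⟩ := hkL.exists_le_sylow
  obtain ⟨g, hg⟩ := MulAction.exists_smul_eq L S' SL
  have hp : (g : G) * T.k * (g : G)⁻¹ ∈ R.P9 := by
    have h : g * kL * g⁻¹ ∈ (SL : Subgroup L) := by
      rw [← hg, Sylow.coe_subgroup_smul]
      exact ⟨kL, hS' (Subgroup.mem_zpowers kL), rfl⟩
    exact h
  set p := (g : G) * T.k * (g : G)⁻¹ with hpd
  obtain ⟨g₀, hg₀⟩ := R.k_conj_X T
  have hcp : ∀ q ∈ R.P9, q ∈ Subgroup.centralizer ((S : Subgroup G) : Set G) := by
    rintro q ⟨c, hc, rfl⟩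
    rw [Subgroup.mem_centralizer_iff]
    rintro _ ⟨d, hd, rfl⟩
    have hc' : (pList.all fun c => pList.all fun d => hMul d c == hMul c d) = true := by decide +kernel
    exact (R.commute_of (beq_iff_eq.mp (List.all_eq_true.mp (List.all_eq_true.mp hc' c hc) d hd))).eq
  have hXinv : (R.el 78)⁻¹ ∈ R.P9 := R.P9.inv_mem ⟨78, by decide, rfl⟩
  have hg1 : (g * g₀⁻¹ : G)⁻¹ * p * ((g : G) * g₀⁻¹) = (R.el 78)⁻¹ := by rw [← hg₀, hpd]; group
  obtain ⟨n, hn, en⟩ := Sylow.conj_eq_normalizer_conj_of_mem_centralizer S p ((g : G) * g₀⁻¹)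
    (hcp p hp) (by rw [hg1]; exact hcp _ hXinv)
  rw [hg1] at en
  have hn' : ∀ q ∈ R.P9, n * q * n⁻¹ ∈ R.P9 := fun q hq => (Subgroup.mem_normalizer_iff.mp hn q).mp hq
  obtain ⟨c, hc, ec⟩ := R.surj _ (R.z_mem_of_normalizes hsm hn')
  have hnp : normPB c = true := by
    have h : ∀ q ∈ [75, 42], pList.contains (hConj c q) = true := fun q hq => by
      have hq' : R.el q ∈ R.P9 := by
        simp only [List.mem_cons, List.not_mem_nil, or_false] at hq
        rcases hq with rfl | rfl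
        exacts [R.x_mem_P9, R.y_mem_P9]
      obtain ⟨d, hd, ed⟩ := hn' _ hq'
      rw [← ec, ← R.el_conj hc] at ed
      rw [R.inj _ _ (hConj_lt c q) (R.pList_spec hd).1 ed.symm]
      simpa using hd
    rw [normPB, h 75 (by simp), h 42 (by simp)]; rfl
  have key := List.all_eq_true.mp normP c (List.mem_range.mpr hc)
  simp [hnp] at key
  have hp2 : p = R.el 78 ∨ p = (R.el 78)⁻¹ := by
    have e : p = n * (R.el 78)⁻¹ * n⁻¹ := by rw [en]; group
    have h := R.el_conj hc 78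
    rw [ec] at h
    rw [e, conj_inv_of h.symm]
    rcases key.2 with k | k <;> rw [k]
    · exact Or.inr rfl
    · left
      rw [← misc_facts.2.2.2.2.2.2.2.2.2.2.2.2.1, R.el_inv (by norm_num), inv_inv]
  have hkz : Commute T.k z := by
    have e : T.k = (g : G)⁻¹ * p * g := by rw [hpd]; group
    have hgX : Commute (g : G) (R.el 78) := (memL _).mp g.2
    rcases hp2 with h | h <;> rw [e, h]
    · rw [mul_assoc, hgX.symm.eq, inv_mul_cancel_left]; exact R.el_z_comm (by norm_num)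
    · rw [mul_assoc, hgX.inv_right.symm.eq, inv_mul_cancel_left]; exact (R.el_z_comm (by norm_num)).inv_left
  have := T.k_z
  rw [conj_of_commute hkz] at this
  exact absurd (R.inj 183 615 (by norm_num) (by norm_num) (R.map_z.trans this)) (by norm_num)

/-- The conjugates of the subgroup of order nine commute with it. -/
theorem conj_comm [Finite G] (T : Tri R) : ∀ c ∈ pList,
    Commute (T.k * R.el c * T.k⁻¹) (R.el 75) ∧ Commute (T.k * R.el c * T.k⁻¹) (R.el 42) :=
  (R.conj_comm_or_small T).resolve_right fun h => R.not_small T h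

end Real

end CfsgLib.UFourThree
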