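import Cfsg.Agent.Lib.UFourThree.Frame

/-!
Facts about the central product of two copies of `SL(2,3)`.
-/

set_option autoImplicit false
set_option maxRecDepth 100000
set_option Elab.async false

namespace CfsgLib.UFourThree

/-- Product in the central product. -/
def kMul (n m : ℕ) : ℕ := mulP 0 0 0 n m

/-- Inverse in the central product. -/
def kInv (n : ℕ) : ℕ := enc (sInv (cA n)) (sInv (cB n)) 0 0

/-- Membership in the normal 2-subgroup. -/
def inQ (n : ℕ) : Bool :=
  decide (n < 288) && [0, 3, 7, 11, 12, 15, 19, 23].contains (cA n) && [0, 3, 7, 11].contains (cB n)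

/-- The codes of the normal 2-subgroup. -/
def qList : List ℕ :=
  ([0, 3, 7, 11, 12, 15, 19, 23].flatMap fun a => [0, 3, 7, 11].map fun b => 12 * a + b)

theorem qList_spec : ((List.range 288).all fun n => !inQ n || qList.contains n) = true := by
  decide +kernel

theorem q_closed : (qList.all fun n =>
    inQ (kInv n) && qList.all fun m => inQ (kMul n m)) = true := by decide +kernel

/-- The test that conjugation by a code keeps the normal 2-subgroup. -/
def qNormB (m : ℕ) : Bool := qList.all fun n => inQ (kMul (kMul m n) (kInv m))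

theorem q_normal_1 : ((List.range' 0 72).all qNormB) = true := by decide +kernel

theorem q_normal_2 : ((List.range' 72 72).all qNormB) = true := by decide +kernel

theorem q_normal_3 : ((List.range' 144 72).all qNormB) = true := by decide +kernel

theorem q_normal_4 : ((List.range' 216 72).all qNormB) = true := by decide +kernel

theorem q_pow : ((List.range 288).all fun n =>
    let n2 := kMul n n
    let n4 := kMul n2 n2
    let n8 := kMul n4 n4
    let n16 := kMul n8 n8
    (!inQ n || n4 == 39) && (!(kMul n16 n16 == 39) || inQ n)) = true := by decide +kernel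

/-- Automorphisms of `SL(2,3)` on two generators. -/
theorem aut_pairs : ∀ p q : Fin 24, (p : ℕ) ≠ 3 → sMul p (sMul p p) = 3 → sMul q q = 15 →
    sMul (sMul p q) (sMul (sMul p q) (sMul p q)) = 3 → ∃ a : Fin 24, ∃ t : Fin 2,
      sMul (sMul a (sTw t 6)) (sInv a) = p ∧ sMul (sMul a (sTw t 0)) (sInv a) = q := by
  decide +kernel

theorem sl_words : ∀ a : Fin 24, ∃ i : Fin 3, ∃ j : Fin 4, ∃ l : Fin 2,
    sMul ([3, 6, sMul 6 6].getD i.val 0) (sMul ([3, 0, 15, sMul 15 0].getD j.val 0)
      ([3, sMul (sMul 6 0) (sInv 6)].getD l.val 0)) = a := by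
  decide +kernel

theorem q_mixed : ((List.range 288).all fun n =>
    !(kMul n (kMul n n) == 39) || n == 39 || ((cA n == 3 || cA n == 15) || cB n == 3) ||
      !(qList.any fun q => kMul q q == 183 && kMul n q == kMul q n)) = true := by
  decide +kernel

theorem sl_facts : sMul 6 22 ≠ sMul 22 6 ∧ sMul 6 (sMul 6 6) = 3 ∧ sMul 22 (sMul 22 22) = 3 ∧
    sMul 6 0 = 22 ∧ sMul 0 0 = 15 ∧ sMul (sInv 6) 22 = 0 := by
  decide +kernel

variable {G : Type*} [Group G] {z : G}

namespace SCopy

/-- Injectivity on the codes. -/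
def Inj (e : SCopy z) : Prop := ∀ a b, a < 24 → b < 24 → e.toFun a = e.toFun b → a = b

theorem ext_gens {e f : SCopy z} (hX : e.toFun 6 = f.toFun 6) (hJ : e.toFun 0 = f.toFun 0) (a : ℕ) :
    e.toFun a = f.toFun a := by
  have h1 : ∀ i : Fin 3, e.toFun ([3, 6, sMul 6 6].getD i.val 0) = f.toFun ([3, 6, sMul 6 6].getD i.val 0) := by
    intro i
    fin_cases i <;> simp [e.map_one, f.map_one, e.map_mul, f.map_mul, hX]
  have h2 : ∀ j : Fin 4, e.toFun ([3, 0, 15, sMul 15 0].getD j.val 0) =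
      f.toFun ([3, 0, 15, sMul 15 0].getD j.val 0) := by
    intro j
    fin_cases j <;> simp [e.map_one, f.map_one, e.map_mul, f.map_mul, e.map_minus, f.map_minus, hJ]
  have h3 : ∀ l : Fin 2, e.toFun ([3, sMul (sMul 6 0) (sInv 6)].getD l.val 0) =
      f.toFun ([3, sMul (sMul 6 0) (sInv 6)].getD l.val 0) := by
    intro l
    fin_cases l <;> simp [e.map_one, f.map_one, e.map_mul, f.map_mul, e.map_inv, f.map_inv, hX, hJ]
  obtain ⟨i, j, l, h⟩ := sl_words ⟨a % 24, Nat.mod_lt _ (by norm_num)⟩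
  rw [← e.map_mod, ← f.map_mod]
  simp only at h
  rw [← h, e.map_mul, e.map_mul, f.map_mul, f.map_mul, h1, h2, h3]

/-- Composition with a standard automorphism. -/
def twist (e : SCopy z) (a t : ℕ) : SCopy z where
  toFun i := e.toFun a * e.toFun (sTw t i) * (e.toFun a)⁻¹
  map_mul i j := by
    have h : e.toFun (sTw t (sMul i j)) = e.toFun (sTw t i) * e.toFun (sTw t j) := by
      unfold sTw
      split_ifs
      · rw [e.map_mod, e.map_mod, e.map_mod, e.map_mul]
      · rw [sDc_mul, e.map_mul]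
    rw [h]; group
  map_minus := by
    have h : sTw t 15 = 15 := by
      unfold sTw
      split_ifs <;> decide +kernel
    rw [h, e.map_minus, ← (e.z_comm a).eq, mul_inv_cancel_right]

/-- A copy inside the image of another one differs from it by a standard automorphism. -/
theorem exists_twist (e f : SCopy z) (he : e.Inj) (hf : f.Inj) (hX : ∃ p, f.toFun 6 = e.toFun p)
    (hJ : ∃ q, f.toFun 0 = e.toFun q) :
    ∃ a t, a < 24 ∧ t < 2 ∧ ∀ i, f.toFun i = (e.twist a t).toFun i := by
  obtain ⟨p, hp⟩ := hX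
  obtain ⟨q, hq⟩ := hJ
  rw [← e.map_mod] at hp hq
  obtain ⟨-, h6, -, h60, h00, -⟩ := sl_facts
  have key : ∀ {i k : ℕ}, i < 24 → k < 24 → e.toFun i = f.toFun k → ∀ {w : ℕ}, w < 24 →
      f.toFun k = e.toFun w → i = w := fun hi _ h1 _ hw h2 => he _ _ hi hw (h1.trans h2)
  have hp' := Nat.mod_lt p (show 24 > 0 by norm_num)
  have hq' := Nat.mod_lt q (show 24 > 0 by norm_num)
  have hlt : ∀ i j : ℕ, sMul i j < 24 := fun i j => by
    have := (table_lt ⟨i % 24, Nat.mod_lt _ (by norm_num)⟩ ⟨j % 24, Nat.mod_lt _ (by norm_num)⟩).1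
    simpa [sMul, Nat.mod_mod] using this
  have c1 : p % 24 ≠ 3 := fun h => by
    rw [h, e.map_one, ← f.map_one] at hp
    exact absurd (hf 6 3 (by norm_num) (by norm_num) hp) (by norm_num)
  have c2 : sMul (p % 24) (sMul (p % 24) (p % 24)) = 3 :=
    he _ _ (hlt _ _) (by norm_num) (by rw [e.map_mul, e.map_mul, ← hp, ← f.map_mul, ← f.map_mul, h6, e.map_one, f.map_one])
  have c3 : sMul (q % 24) (q % 24) = 15 :=
    he _ _ (hlt _ _) (by norm_num) (by rw [e.map_mul, ← hq, ← f.map_mul, h00, e.map_minus, f.map_minus])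
  have c4 : sMul (sMul (p % 24) (q % 24)) (sMul (sMul (p % 24) (q % 24)) (sMul (p % 24) (q % 24))) = 3 :=
    he _ _ (hlt _ _) (by norm_num) (by
      simp only [e.map_mul, ← hp, ← hq, ← f.map_mul]
      rw [show sMul (sMul 6 0) (sMul (sMul 6 0) (sMul 6 0)) = 3 by decide +kernel, e.map_one, f.map_one])
  obtain ⟨a, t, ha, ht⟩ := aut_pairs ⟨p % 24, hp'⟩ ⟨q % 24, hq'⟩ c1 c2 c3 c4
  refine ⟨a, t, a.2, t.2, fun i => ext_gens (e := f) (f := e.twist a t) ?_ ?_ i⟩
  · rw [hp]
    show e.toFun _ = e.toFun a * e.toFun _ * (e.toFun a)⁻¹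
    rw [← e.map_inv, ← e.map_mul, ← e.map_mul, ha]
  · rw [hq]
    show e.toFun _ = e.toFun a * e.toFun _ * (e.toFun a)⁻¹
    rw [← e.map_inv, ← e.map_mul, ← e.map_mul, ht]

end SCopy

namespace Pair

variable (F : Pair z)

theorem kEl_mul' {n m : ℕ} (hn : n < 288) (hm : m < 288) : F.kEl (kMul n m) = F.kEl n * F.kEl m :=
  F.kEl_mul hn hm

theorem kEl_inv (n : ℕ) : F.kEl (kInv n) = (F.kEl n)⁻¹ := by
  rw [kInv, F.kEl_enc, F.fst.map_inv, F.snd.map_inv, kEl, mul_inv_rev, (F.comm _ _).inv_inv.eq]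

theorem kMul_lt {n m : ℕ} (hn : n < 288) (hm : m < 288) : kMul n m < 288 := by
  have h1 : cS n = 0 := by unfold cS; omega
  have h2 : cT n = 0 := by unfold cT; omega
  have h3 : cS m = 0 := by unfold cS; omega
  have h4 : cT m = 0 := by unfold cT; omega
  simp only [kMul, mulP, h1, h2, h3, h4, Nat.add_zero]
  exact enc_lt_of_zero _ _

theorem kInv_lt {n : ℕ} (_hn : n < 288) : kInv n < 288 := enc_lt_of_zero _ _

theorem inQ_lt {n : ℕ} (h : inQ n = true) : n < 288 := by
  simp only [inQ, Bool.and_eq_true, decide_eq_true_eq] at h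
  exact h.1.1

theorem mem_qList {n : ℕ} (h : inQ n = true) : n ∈ qList := by
  have hh := List.all_eq_true.mp qList_spec n (List.mem_range.mpr (inQ_lt h))
  simpa [h] using hh

theorem inQ_mul {n m : ℕ} (hn : inQ n = true) (hm : inQ m = true) : inQ (kMul n m) = true := by
  have h := List.all_eq_true.mp q_closed n (mem_qList hn)
  simp only [Bool.and_eq_true, List.all_eq_true] at h
  exact h.2 m (mem_qList hm)

theorem inQ_inv {n : ℕ} (hn : inQ n = true) : inQ (kInv n) = true := by
  have h := List.all_eq_true.mp q_closed n (mem_qList hn)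
  simp only [Bool.and_eq_true] at h
  exact h.1

theorem inQ_conj {n m : ℕ} (hn : inQ n = true) (hm : m < 288) : inQ (kMul (kMul m n) (kInv m)) = true := by
  have key : qNormB m = true := by
    rcases (by omega : m < 72 ∨ (72 ≤ m ∧ m < 144) ∨ (144 ≤ m ∧ m < 216) ∨ 216 ≤ m) with h | h | h | h
    · exact List.all_eq_true.mp q_normal_1 m (List.mem_range'_1.mpr ⟨by omega, by omega⟩)
    · exact List.all_eq_true.mp q_normal_2 m (List.mem_range'_1.mpr ⟨by omega, by omega⟩)
    · exact List.all_eq_true.mp q_normal_3 m (List.mem_range'_1.mpr ⟨by omega, by omega⟩)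
    · exact List.all_eq_true.mp q_normal_4 m (List.mem_range'_1.mpr ⟨by omega, by omega⟩)
  exact List.all_eq_true.mp key n (mem_qList hn)

/-- The subgroup formed by the normal 2-subgroup. -/
def qSub : Subgroup G where
  carrier := {x | ∃ n, inQ n = true ∧ F.kEl n = x}
  one_mem' := ⟨39, by decide +kernel, F.kEl_one⟩
  mul_mem' := by
    rintro _ _ ⟨n, hn, rfl⟩ ⟨m, hm, rfl⟩
    exact ⟨kMul n m, inQ_mul hn hm, F.kEl_mul' (inQ_lt hn) (inQ_lt hm)⟩
  inv_mem' := by
    rintro _ ⟨n, hn, rfl⟩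
    exact ⟨kInv n, inQ_inv hn, F.kEl_inv n⟩

theorem mem_qSub {x : G} : x ∈ F.qSub ↔ ∃ n, inQ n = true ∧ F.kEl n = x := Iff.rfl

/-- The subgroup formed by the central product. -/
def kSub : Subgroup G where
  carrier := {x | ∃ n, n < 288 ∧ F.kEl n = x}
  one_mem' := ⟨39, by norm_num, F.kEl_one⟩
  mul_mem' := by
    rintro _ _ ⟨n, hn, rfl⟩ ⟨m, hm, rfl⟩
    exact ⟨kMul n m, kMul_lt hn hm, F.kEl_mul' hn hm⟩
  inv_mem' := by
    rintro _ ⟨n, hn, rfl⟩
    exact ⟨kInv n, kInv_lt hn, F.kEl_inv n⟩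

theorem mem_kSub {x : G} : x ∈ F.kSub ↔ ∃ n, n < 288 ∧ F.kEl n = x := Iff.rfl

/-- Injectivity on the codes. -/
def Inj : Prop := ∀ n m, n < 288 → m < 288 → F.kEl n = F.kEl m → n = m

end Pair

end CfsgLib.UFourThree
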