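import Cfsg.Agent.Lib.UFourThree.Stage

/-!
Basic facts about the model realisation of the centraliser, and its twist exchanging the two classes
of outer involutions.
-/

set_option autoImplicit false
set_option maxRecDepth 100000
set_option Elab.async false

namespace CfsgLib.UFourThree

/-- The twisting map on codes: `w ↦ w r`, the second coordinate twisted. -/
def phiC (n : ℕ) : ℕ :=
  hMul (hMul (hMul (enc (cA n) 3 0 0) (hConj 903 (enc (cB n) 3 0 0)))
    (if cS n = 0 then 39 else 903)) (if cT n = 0 then 39 else 327)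

theorem hMul_lt (a b : ℕ) : hMul a b < 1152 := mulP_lt _ _ _ a b

theorem hConj_lt (a b : ℕ) : hConj a b < 1152 := hMul_lt _ _

theorem hCom_lt (a b : ℕ) : hCom a b < 1152 := hMul_lt _ _

theorem phi_facts : ((List.range 1152).all fun n => phiC (phiC (phiC (phiC n))) == n) = true := by
  decide +kernel

theorem twist_frame_facts :
    (∀ a : Fin 24, ∀ b : Fin 24, enc (sMul a b) 3 0 0 = hMul (enc a 3 0 0) (enc b 3 0 0) ∧
      hMul (enc a 3 0 0) (hConj 903 (enc b 3 0 0)) = hMul (hConj 903 (enc b 3 0 0)) (enc a 3 0 0)) ∧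
    (∀ a : Fin 24, hConj 327 (enc a 3 0 0) = enc (sDc a) 3 0 0) ∧
    hMul 903 903 = 39 ∧ hMul 327 327 = 183 ∧ hMul 327 903 = hMul (hMul 903 327) 183 ∧
    enc 15 3 0 0 = 183 := by
  decide +kernel

theorem enc_mod_left (a b : ℕ) : enc (a % 24) b 0 0 = enc a b 0 0 := by
  simp [enc, sNeg, Nat.mod_mod]

variable {G : Type*} [Group G] {z : G}

namespace Real

variable (R : Real z)

theorem el_one : R.el 39 = 1 := by
  have h := R.map_mul 39 39
  rw [show hMul 39 39 = 39 by decide +kernel] at h
  exact mul_left_cancel (h.symm.trans (mul_one _).symm)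

theorem mul_congr {a b c : ℕ} (h : hMul a b = c) : R.el a * R.el b = R.el c := by
  rw [← h, R.map_mul]

theorem el_inv {a : ℕ} (ha : a < 1152) : R.el (hInv a) = (R.el a)⁻¹ := by
  have h := List.all_eq_true.mp code_lt a (List.mem_range.mpr ha)
  simp only [Bool.and_eq_true, decide_eq_true_eq, beq_iff_eq] at h
  exact (inv_eq_of_mul_eq_one_right ((R.mul_congr h.2).trans R.el_one)).symm

theorem el_conj {a : ℕ} (ha : a < 1152) (b : ℕ) :
    R.el (hConj a b) = R.el a * R.el b * (R.el a)⁻¹ := by
  rw [hConj, R.map_mul, R.map_mul, R.el_inv ha]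

theorem el_com {a b : ℕ} (ha : a < 1152) (hb : b < 1152) :
    R.el (hCom a b) = R.el a * R.el b * (R.el a)⁻¹ * (R.el b)⁻¹ := by
  rw [hCom, R.map_mul, R.el_conj ha, R.el_inv hb]

theorem code_z_comm : ((List.range 1152).all fun n => hMul n 183 == hMul 183 n) = true := by
  decide +kernel

theorem el_z_comm {n : ℕ} (hn : n < 1152) : Commute (R.el n) z := by
  have h : hMul n 183 = hMul 183 n := by
    simpa using List.all_eq_true.mp code_z_comm n (List.mem_range.mpr hn)
  have := congrArg R.el h
  rw [R.map_mul, R.map_mul, R.map_z] at this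
  exact this

theorem commute_of {a b : ℕ} (h : hMul a b = hMul b a) : Commute (R.el a) (R.el b) := by
  show R.el a * R.el b = R.el b * R.el a
  rw [← R.map_mul, ← R.map_mul, h]

theorem code_of_commute {a b : ℕ} (h : Commute (R.el a) (R.el b)) : hMul a b = hMul b a :=
  R.inj _ _ (hMul_lt _ _) (hMul_lt _ _) (by rw [R.map_mul, R.map_mul]; exact h)

theorem el_ne_one {a : ℕ} (ha : a < 1152) (h : a ≠ 39) : R.el a ≠ 1 := fun e =>
  h (R.inj _ _ ha (by norm_num) (e.trans R.el_one.symm))

/-- The copy from which the twisted frame is built. -/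
def twistCopy : SCopy z where
  toFun a := R.el (enc a 3 0 0)
  map_mul a b := by
    have h := (twist_frame_facts.1 ⟨a % 24, Nat.mod_lt _ (by norm_num)⟩
      ⟨b % 24, Nat.mod_lt _ (by norm_num)⟩).1
    simp only at h
    rw [show sMul (a % 24) (b % 24) = sMul a b by simp [sMul], enc_mod_left, enc_mod_left] at h
    rw [h, R.map_mul]
  map_minus := by rw [twist_frame_facts.2.2.2.2.2, R.map_z]

/-- The frame on the twisted generators. -/
def twistFrame : GFrame z where
  base := R.twistCopy
  w := R.el 903
  r := R.el 327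
  m := 0
  p := 1
  c := 1
  w_z := R.el_z_comm (by norm_num)
  r_z := R.el_z_comm (by norm_num)
  comm a b := by
    have h := (twist_frame_facts.1 ⟨a % 24, Nat.mod_lt _ (by norm_num)⟩
      ⟨b % 24, Nat.mod_lt _ (by norm_num)⟩).2
    simp only [enc_mod_left] at h
    show Commute (R.el (enc a 3 0 0)) (R.el 903 * R.el (enc b 3 0 0) * (R.el 903)⁻¹)
    rw [← R.el_conj (by norm_num)]
    exact R.commute_of h
  w_sq := by rw [R.mul_congr twist_frame_facts.2.2.1, R.el_one, pow_zero]
  r_sq := by rw [R.mul_congr twist_frame_facts.2.2.2.1, R.map_z, pow_one]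
  r_base a := by
    have h := twist_frame_facts.2.1 ⟨a % 24, Nat.mod_lt _ (by norm_num)⟩
    simp only [enc_mod_left] at h
    rw [show sDc (a % 24) = sDc a by simp [sDc]] at h
    show R.el 327 * R.el (enc a 3 0 0) * (R.el 327)⁻¹ = R.el (enc (sDc a) 3 0 0)
    rw [← R.el_conj (by norm_num), h]
  r_w := by
    rw [pow_one, R.mul_congr twist_frame_facts.2.2.2.2.1, R.map_mul, R.map_mul, R.map_z]

theorem twist_el (n : ℕ) : R.twistFrame.el n = R.el (phiC n) := by
  have e1 : (R.el 903) ^ cS n = R.el (if cS n = 0 then 39 else 903) := by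
    rcases (show cS n = 0 ∨ cS n = 1 by unfold cS; omega) with h | h <;> simp [h, R.el_one]
  have e2 : (R.el 327) ^ cT n = R.el (if cT n = 0 then 39 else 327) := by
    rcases (show cT n = 0 ∨ cT n = 1 by unfold cT; omega) with h | h <;> simp [h, R.el_one]
  rw [phiC, R.map_mul, R.map_mul, R.map_mul, R.el_conj (by norm_num), ← e1, ← e2]
  rfl

theorem phiC_lt (n : ℕ) : phiC n < 1152 := hMul_lt _ _

/-- The realisation with the roles of the two classes of outer involutions exchanged. -/
def twist : Real z where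
  el n := R.el (phiC n)
  map_mul a b := by
    rw [← R.twist_el, ← R.twist_el, ← R.twist_el]
    exact R.twistFrame.el_mul a b
  map_z := by rw [show phiC 183 = 183 by decide +kernel, R.map_z]
  inj a b ha hb h := by
    have e := R.inj _ _ (phiC_lt a) (phiC_lt b) h
    have h4 : ∀ n, n < 1152 → phiC (phiC (phiC (phiC n))) = n := fun n hn => by
      simpa using List.all_eq_true.mp phi_facts n (List.mem_range.mpr hn)
    rw [← h4 a ha, ← h4 b hb, e]
  surj g hg := by
    obtain ⟨n, hn, e⟩ := R.surj g hg
    refine ⟨phiC (phiC (phiC n)), phiC_lt _, ?_⟩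
    rw [show phiC (phiC (phiC (phiC n))) = n by
      simpa using List.all_eq_true.mp phi_facts n (List.mem_range.mpr hn), e]
  ord := R.ord
  card_cent := R.card_cent
  one_class n hn h2 hne := by
    have h4 : ∀ n, n < 1152 → phiC (phiC (phiC (phiC n))) = n := fun n hn => by
      simpa using List.all_eq_true.mp phi_facts n (List.mem_range.mpr hn)
    refine R.one_class _ (phiC_lt n) ?_ ?_
    · refine R.inj _ _ (hMul_lt _ _) (by norm_num) ?_
      rw [R.map_mul]
      show R.el (phiC n) * R.el (phiC n) = _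
      rw [← R.twist_el, ← R.twistFrame.el_mul]
      show R.twistFrame.el (hMul n n) = _
      rw [h2, R.twistFrame.el_one, R.el_one]
    · intro e
      refine hne ?_
      rw [← h4 n hn, e]
      decide +kernel

end Real

end CfsgLib.UFourThree
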