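import Cfsg.Agent.Lib.UFourThree.Action
import Cfsg.Agent.Lib.UFourThree.Main

/-!
Recognition of the unitary group in four dimensions over the field with nine elements from the
centraliser of an involution.
-/

set_option autoImplicit false
set_option Elab.async false

namespace CfsgLib.UFourThree

/-- A group with such a centraliser is the unitary group. -/
theorem recognition {G : Type*} [Group G] [Finite G] {z : G} (S : Setting z) (K : Type) [Field K]
    [Fintype K] (hK : Fintype.card K = 9) :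
    Nat.card G = 2 ^ 7 * 3 ^ 6 * 5 * 7 ∧ (∀ x y : G, orderOf x = 2 → orderOf y = 2 → IsConj x y) ∧
      Nonempty (G ≃* Cfsg.PSU 4 K 3) := by
  obtain ⟨R⟩ := exists_real_of_setting S
  obtain ⟨Γ⟩ := R.exists_gens
  obtain ⟨e⟩ := Γ.exists_iso
  obtain ⟨f⟩ := exists_isoMcL hK
  have hle : Subgroup.centralizer ({z} : Set G) ≤ Γ.G0 := fun g hg =>
    Γ.cent_le_G0 (Subgroup.mem_centralizer_singleton_iff.mp hg)
  have hconj : ∀ t : G, orderOf t = 2 → Commute t z → ∃ g ∈ Γ.G0, g * z * g⁻¹ = t := by
    intro t ht htz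
    obtain ⟨n, hn, rfl⟩ := R.surj t htz
    refine Γ.one_class_G0 hn ?_ ?_
    · refine R.inj _ _ (hMul_lt _ _) (by norm_num) ?_
      rw [R.map_mul, R.el_one, ← pow_two, ← ht, pow_orderOf_eq_one]
    · rintro rfl
      rw [R.el_one, orderOf_one] at ht
      omega
  obtain ⟨htop, hcard, hclass⟩ :=
    eq_top_of_isoPSU z R.ord R.card_cent Γ.G0 hle hconj K hK ⟨e.trans f⟩
  exact ⟨hcard, hclass,
    ⟨((Subgroup.topEquiv.symm).trans (MulEquiv.subgroupCongr htop.symm)).trans (e.trans f)⟩⟩

end CfsgLib.UFourThree
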