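import Cfsg.Agent.Lib.UFourThree.Flip

/-!
Other labellings of the central product, and the action of the centraliser on the two copies.
-/

set_option autoImplicit false
set_option maxRecDepth 100000
set_option Elab.async false

namespace CfsgLib.UFourThree

variable {G : Type*} [Group G] {z : G}

theorem sl_centre : ∀ a : Fin 24, sMul a 6 = sMul 6 a → sMul a 0 = sMul 0 a → (a : ℕ) = 3 ∨ (a : ℕ) = 15 := by
  decide +kernel

theorem slow_pow : ∀ a : Fin 24, sMul a (sMul a a) = 3 → (a : ℕ) ≠ 3 → (a : ℕ) ≠ 15 := by decide +kernel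

theorem sMul_lt (a b : ℕ) : sMul a b < 24 := by
  have := (table_lt ⟨a % 24, Nat.mod_lt _ (by norm_num)⟩ ⟨b % 24, Nat.mod_lt _ (by norm_num)⟩).1
  simpa [sMul, Nat.mod_mod] using this

namespace Pair

variable (F : Pair z)

theorem kEl_fst (a : ℕ) : F.kEl (enc a 3 0 0) = F.fst.toFun a := by
  rw [F.kEl_enc, F.snd.map_one, mul_one]

theorem kEl_snd (a : ℕ) : F.kEl (enc 3 a 0 0) = F.snd.toFun a := by
  rw [F.kEl_enc, F.fst.map_one, one_mul]

theorem fst_inj (h : F.Inj) : F.fst.Inj := by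
  intro a b ha hb e
  have := h _ _ (enc_lt_of_zero a 3) (enc_lt_of_zero b 3) (by rw [F.kEl_fst, F.kEl_fst, e])
  unfold enc at this
  simp only [show 3 % 24 < 12 by norm_num, if_true] at this
  omega

theorem snd_inj (h : F.Inj) : F.snd.Inj := by
  intro a b ha hb e
  have := h _ _ (enc_lt_of_zero 3 a) (enc_lt_of_zero 3 b) (by rw [F.kEl_snd, F.kEl_snd, e])
  have := congrArg cA this
  have h2 := congrArg cB (h _ _ (enc_lt_of_zero 3 a) (enc_lt_of_zero 3 b) (by rw [F.kEl_snd, F.kEl_snd, e]))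
  rw [cA_enc, cA_enc] at this
  rw [cB_enc, cB_enc] at h2
  unfold sNeg at this h2
  split_ifs at this h2 <;> omega

/-- The pair with the copies exchanged. -/
def swap : Pair z where
  fst := F.snd
  snd := F.fst
  comm a b := (F.comm b a).symm

end Pair

namespace Setting

variable (S : Setting z)

theorem mem_qSub_iff {n : ℕ} (hn : n < 288) : S.P.kEl n ∈ S.P.qSub ↔ S.P.kEl n ^ 32 = 1 := by
  have h2 := Pair.kMul_lt hn hn
  have h4 := Pair.kMul_lt h2 h2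
  have h8 := Pair.kMul_lt h4 h4
  have h16 := Pair.kMul_lt h8 h8
  have hp := List.all_eq_true.mp q_pow n (List.mem_range.mpr hn)
  simp only [Bool.and_eq_true, Bool.or_eq_true, Bool.not_eq_true', beq_iff_eq, beq_eq_false_iff_ne] at hp
  have e32 : S.P.kEl (kMul (kMul (kMul (kMul (kMul n n) (kMul n n)) (kMul (kMul n n) (kMul n n)))
      (kMul (kMul (kMul n n) (kMul n n)) (kMul (kMul n n) (kMul n n))))
      (kMul (kMul (kMul (kMul n n) (kMul n n)) (kMul (kMul n n) (kMul n n)))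
      (kMul (kMul (kMul n n) (kMul n n)) (kMul (kMul n n) (kMul n n))))) = S.P.kEl n ^ 32 := by
    rw [S.P.kEl_mul' h16 h16, S.P.kEl_mul' h8 h8, S.P.kEl_mul' h4 h4, S.P.kEl_mul' h2 h2, S.P.kEl_mul' hn hn]
    simp only [pow_succ, pow_zero, one_mul, mul_assoc]
  constructor
  · rintro ⟨m, hm, e⟩
    have em := S.inj m n (Pair.inQ_lt hm) hn e
    subst em
    have h4' : S.P.kEl m ^ 4 = 1 := by
      have := congrArg S.P.kEl ((hp.1).resolve_left (by simp [hm]))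
      rw [S.P.kEl_mul' h2 h2, S.P.kEl_mul' hn hn, S.P.kEl_one] at this
      rw [← this]; simp only [pow_succ, pow_zero, one_mul, mul_assoc]
    rw [show (32 : ℕ) = 4 * 8 from rfl, pow_mul, h4', one_pow]
  · intro h
    refine ⟨n, hp.2.resolve_left fun hne => hne (S.inj _ _ (Pair.kMul_lt h16 h16) (by norm_num) ?_), rfl⟩
    rw [e32, h, S.P.kEl_one]

theorem exists_kEl {h : G} (hh : Commute h z) (n : ℕ) (hn : n < 288) :
    ∃ m, m < 288 ∧ h * S.P.kEl n * h⁻¹ = S.P.kEl m := S.conjK h hh n hn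

theorem mem_factor {m q : ℕ} (hm : m < 288) (hq : q < 288) (h3 : S.P.kEl m ^ 3 = 1) (h1 : S.P.kEl m ≠ 1)
    (hq4 : S.P.kEl q * S.P.kEl q = z) (hqc : Commute (S.P.kEl m) (S.P.kEl q)) :
    (∃ p, S.P.kEl m = S.P.fst.toFun p) ∨ (∃ p, S.P.kEl m = S.P.snd.toFun p) := by
  have hqQ : inQ q = true := by
    obtain ⟨n, hn, e⟩ := (S.mem_qSub_iff hq).mpr (by
      rw [show (32 : ℕ) = 2 * 16 from rfl, pow_mul, pow_two, hq4, show (16 : ℕ) = 2 * 8 from rfl, pow_mul,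
        pow_two, S.sq_z, one_pow])
    rw [← S.inj n q (Pair.inQ_lt hn) hq e]; exact hn
  have hm2 := Pair.kMul_lt hm hm
  have key := List.all_eq_true.mp q_mixed m (List.mem_range.mpr hm)
  simp only [Bool.or_eq_true, Bool.not_eq_true', beq_iff_eq, beq_eq_false_iff_ne, List.any_eq_false,
    Bool.and_eq_true] at key
  have e3 : kMul m (kMul m m) = 39 := S.inj _ _ (Pair.kMul_lt hm hm2) (by norm_num) (by
    rw [S.P.kEl_mul' hm hm2, S.P.kEl_mul' hm hm, S.P.kEl_one, ← h3]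
    simp only [pow_succ, pow_zero, one_mul, mul_assoc])
  have e39 : m ≠ 39 := fun e => h1 (e ▸ S.P.kEl_one)
  have eq1 : kMul q q = 183 := S.inj _ _ (Pair.kMul_lt hq hq) (by norm_num) (by
    rw [S.P.kEl_mul' hq hq, hq4, S.P.kEl_z])
  have eq2 : kMul m q = kMul q m := S.inj _ _ (Pair.kMul_lt hm hq) (Pair.kMul_lt hq hm) (by
    rw [S.P.kEl_mul' hm hq, S.P.kEl_mul' hq hm]; exact hqc.eq)
  rcases key with ((a | a) | ((a | a) | a)) | a
  · exact absurd e3 a
  · exact absurd a e39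
  · exact Or.inr ⟨cB m, by rw [Pair.kEl, a, S.P.fst.map_one, one_mul]⟩
  · exact Or.inr ⟨sNeg (cB m), by rw [Pair.kEl, a, S.P.fst.map_minus, S.P.snd.map_neg]⟩
  · exact Or.inl ⟨cA m, by rw [Pair.kEl, a, S.P.snd.map_one, mul_one]⟩
  · exact absurd ⟨eq1, eq2⟩ (a q (Pair.mem_qList hqQ))

/-- A copy lies in another one. -/
def Into (e f : SCopy z) : Prop := (∃ p, e.toFun 6 = f.toFun p) ∧ ∃ q, e.toFun 0 = f.toFun q

theorem into_of_generators {e f : SCopy z} {p q : ℕ} (h6 : e.toFun 6 = f.toFun p) (h22 : e.toFun 22 = f.toFun q) :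
    Into e f := by
  refine ⟨⟨p, h6⟩, sMul (sMul p p) q, ?_⟩
  rw [f.map_mul, f.map_mul, ← h6, ← h22, ← e.map_mul, ← e.map_mul]
  exact congrArg e.toFun (by decide +kernel)

theorem conj_into (e o : SCopy z) (he : ∀ a, ∃ n, n < 288 ∧ e.toFun a = S.P.kEl n) (hei : e.Inj)
    (ho : ∃ n, n < 288 ∧ o.toFun 0 = S.P.kEl n) (hc : ∀ a, Commute (e.toFun a) (o.toFun 0)) :
    Into e S.P.fst ∨ Into e S.P.snd := by
  obtain ⟨q, hq, eq⟩ := ho
  have hq4 : S.P.kEl q * S.P.kEl q = z := by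
    rw [← eq, ← o.map_mul, show sMul 0 0 = 15 by decide +kernel, o.map_minus]
  have key : ∀ a, a < 24 → sMul a (sMul a a) = 3 → a ≠ 3 →
      (∃ p, e.toFun a = S.P.fst.toFun p) ∨ ∃ p, e.toFun a = S.P.snd.toFun p := by
    intro a ha h3 hne
    obtain ⟨m, hm, em⟩ := he a
    rw [em]
    refine S.mem_factor hm hq ?_ ?_ hq4 (by rw [← em, ← eq]; exact hc a)
    · rw [← em, pow_succ', pow_two, ← e.map_mul, ← e.map_mul, h3, e.map_one]
    · rw [← em, ← e.map_one]; exact fun h => hne (hei a 3 ha (by norm_num) h)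
  obtain ⟨hne, h6, h22, -, -, -⟩ := sl_facts
  have contra : e.toFun 6 * e.toFun 22 = e.toFun 22 * e.toFun 6 → False := fun h =>
    hne (hei _ _ (sMul_lt _ _) (sMul_lt _ _) (by rw [e.map_mul, e.map_mul, h]))
  rcases key 6 (by norm_num) h6 (by norm_num) with ⟨p, hp⟩ | ⟨p, hp⟩ <;>
    rcases key 22 (by norm_num) h22 (by norm_num) with ⟨r, hr⟩ | ⟨r, hr⟩
  · exact Or.inl (into_of_generators hp hr)
  · exact (contra (by rw [hp, hr]; exact (S.P.comm p r).eq)).elim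
  · exact (contra (by rw [hp, hr]; exact (S.P.comm r p).eq.symm)).elim
  · exact Or.inr (into_of_generators hp hr)

theorem not_both {e o f : SCopy z} (hei : e.Inj) (hoi : o.Inj) (hf : f.Inj) (h1 : Into e f) (h2 : Into o f)
    (hc : ∀ a b, Commute (e.toFun a) (o.toFun b)) : False := by
  obtain ⟨a, t, -, ht, ha⟩ := f.exists_twist e hf hei h1.1 h1.2
  obtain ⟨p, hp⟩ := h2.1
  have hall : ∀ i, Commute (f.toFun p) (f.toFun i) := by
    intro i
    obtain ⟨j, hj⟩ : ∃ j, (f.twist a t).toFun j = f.toFun i := by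
      refine ⟨sTw t (sMul (sMul (sInv a) i) a), ?_⟩
      show f.toFun a * f.toFun (sTw t (sTw t (sMul (sMul (sInv a) i) a))) * (f.toFun a)⁻¹ = f.toFun i
      have htt : sTw t (sTw t (sMul (sMul (sInv a) i) a)) = sMul (sMul (sInv a) i) a := by
        have hl := sMul_lt (sMul (sInv a) i) a
        unfold sTw
        split_ifs
        · rw [Nat.mod_mod, Nat.mod_eq_of_lt hl]
        · exact (table_ops ⟨_, hl⟩).2.2.2.2.2.2
      rw [htt, f.map_mul, f.map_mul, f.map_inv]; group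
    have := hc j 6
    rw [ha, hj, hp] at this
    exact this.symm
  have hp' := Nat.mod_lt p (show 24 > 0 by norm_num)
  rw [← f.map_mod] at hp
  have hp2 : ∀ i, sMul (p % 24) i = sMul i (p % 24) := fun i =>
    hf _ _ (sMul_lt _ _) (sMul_lt _ _) (by
      rw [f.map_mul, f.map_mul, f.map_mod]; exact (hall i).eq)
  have hh := sl_centre ⟨p % 24, hp'⟩ (hp2 6) (hp2 0)
  obtain ⟨-, h6, -, -, -, -⟩ := sl_facts
  have h3 : sMul (p % 24) (sMul (p % 24) (p % 24)) = 3 := hf _ _ (sMul_lt _ _) (by norm_num) (by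
    rw [f.map_mul, f.map_mul, ← hp, ← o.map_mul, ← o.map_mul, h6, o.map_one, f.map_one])
  have h31 : p % 24 ≠ 3 := fun e3 => by
    rw [e3, f.map_one, ← o.map_one] at hp
    exact absurd (hoi 6 3 (by norm_num) (by norm_num) hp) (by norm_num)
  rcases hh with hh | hh
  · exact h31 hh
  · exact slow_pow ⟨p % 24, hp'⟩ h3 h31 hh

theorem conj_inj {e : SCopy z} (he : e.Inj) {h : G} (hh : Commute h z) : (e.conj h hh).Inj :=
  fun a b ha hb hab => he a b ha hb (mul_left_cancel (mul_right_cancel (show h * e.toFun a * h⁻¹ = h * e.toFun b * h⁻¹ from hab)))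

/-- An element of the centraliser fixes both copies or exchanges them. -/
theorem fix_or_swap {h : G} (hh : Commute h z) :
    (Into (S.P.fst.conj h hh) S.P.fst ∧ Into (S.P.snd.conj h hh) S.P.snd) ∨
    (Into (S.P.fst.conj h hh) S.P.snd ∧ Into (S.P.snd.conj h hh) S.P.fst) := by
  have hk : ∀ n, n < 288 → ∃ m, m < 288 ∧ h * S.P.kEl n * h⁻¹ = S.P.kEl m := S.conjK h hh
  have he1 : ∀ a, ∃ n, n < 288 ∧ (S.P.fst.conj h hh).toFun a = S.P.kEl n := fun a => by
    obtain ⟨m, hm, e⟩ := hk _ (Pair.enc_lt_of_zero a 3)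
    exact ⟨m, hm, by rw [← e, S.P.kEl_fst]; rfl⟩
  have he2 : ∀ a, ∃ n, n < 288 ∧ (S.P.snd.conj h hh).toFun a = S.P.kEl n := fun a => by
    obtain ⟨m, hm, e⟩ := hk _ (Pair.enc_lt_of_zero 3 a)
    exact ⟨m, hm, by rw [← e, S.P.kEl_snd]; rfl⟩
  have hc : ∀ a b, Commute ((S.P.fst.conj h hh).toFun a) ((S.P.snd.conj h hh).toFun b) := fun a b =>
    (S.P.comm a b).conj h
  have i1 := conj_inj (S.P.fst_inj S.inj) hh
  have i2 := conj_inj (S.P.snd_inj S.inj) hh
  rcases S.conj_into _ _ he1 i1 (he2 0) (fun a => hc a 0) with a | a <;>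
    rcases S.conj_into _ _ he2 i2 (he1 0) (fun b => (hc 0 b).symm) with b | b
  · exact (not_both i1 i2 (S.P.fst_inj S.inj) a b hc).elim
  · exact Or.inl ⟨a, b⟩
  · exact Or.inr ⟨a, b⟩
  · exact (not_both i1 i2 (S.P.snd_inj S.inj) a b hc).elim

theorem exists_standard {h : G} (hh : Commute h z) (hfix : Into (S.P.fst.conj h hh) S.P.fst ∧
    Into (S.P.snd.conj h hh) S.P.snd) :
    ∃ k t s, k < 288 ∧ t < 2 ∧ s < 2 ∧
      (∀ a, ((S.P.kEl k)⁻¹ * h) * S.P.fst.toFun a * ((S.P.kEl k)⁻¹ * h)⁻¹ = S.P.fst.toFun (sTw t a)) ∧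
      (∀ a, ((S.P.kEl k)⁻¹ * h) * S.P.snd.toFun a * ((S.P.kEl k)⁻¹ * h)⁻¹ = S.P.snd.toFun (sTw s a)) := by
  obtain ⟨a, t, -, ht, ha⟩ := S.P.fst.exists_twist _ (S.P.fst_inj S.inj)
    (conj_inj (S.P.fst_inj S.inj) hh) hfix.1.1 hfix.1.2
  obtain ⟨b, s, -, hs, hb⟩ := S.P.snd.exists_twist _ (S.P.snd_inj S.inj)
    (conj_inj (S.P.snd_inj S.inj) hh) hfix.2.1 hfix.2.2
  refine ⟨enc a b 0 0, t, s, Pair.enc_lt_of_zero a b, ht, hs, fun i => ?_, fun i => ?_⟩
  · have e : h * S.P.fst.toFun i * h⁻¹ = S.P.fst.toFun a * S.P.fst.toFun (sTw t i) * (S.P.fst.toFun a)⁻¹ := ha i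
    rw [S.P.kEl_enc]
    calc (S.P.fst.toFun a * S.P.snd.toFun b)⁻¹ * h * S.P.fst.toFun i * ((S.P.fst.toFun a * S.P.snd.toFun b)⁻¹ * h)⁻¹
        = (S.P.fst.toFun a * S.P.snd.toFun b)⁻¹ * (h * S.P.fst.toFun i * h⁻¹) * (S.P.fst.toFun a * S.P.snd.toFun b) := by
          group
      _ = (S.P.snd.toFun b)⁻¹ * (S.P.fst.toFun (sTw t i) * S.P.snd.toFun b) := by rw [e]; group
      _ = _ := by rw [(S.P.comm _ _).eq]; group
  · have e : h * S.P.snd.toFun i * h⁻¹ = S.P.snd.toFun b * S.P.snd.toFun (sTw s i) * (S.P.snd.toFun b)⁻¹ := hb i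
    rw [S.P.kEl_enc, (S.P.comm a b).eq]
    calc (S.P.snd.toFun b * S.P.fst.toFun a)⁻¹ * h * S.P.snd.toFun i * ((S.P.snd.toFun b * S.P.fst.toFun a)⁻¹ * h)⁻¹
        = (S.P.snd.toFun b * S.P.fst.toFun a)⁻¹ * (h * S.P.snd.toFun i * h⁻¹) * (S.P.snd.toFun b * S.P.fst.toFun a) := by
          group
      _ = (S.P.fst.toFun a)⁻¹ * (S.P.snd.toFun (sTw s i) * S.P.fst.toFun a) := by rw [e]; group
      _ = _ := by rw [← (S.P.comm _ _).eq]; group

theorem eq_one_or_z {h : G} (hh : Commute h z) (h1 : ∀ a, h * S.P.fst.toFun a * h⁻¹ = S.P.fst.toFun a)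
    (h2 : ∀ a, h * S.P.snd.toFun a * h⁻¹ = S.P.snd.toFun a) : h = 1 ∨ h = z := by
  refine S.fixK h hh fun n _ => ?_
  exact Commute.mul_right (mul_inv_eq_iff_eq_mul.mp (h1 _)) (mul_inv_eq_iff_eq_mul.mp (h2 _))

/-- The setting with another labelling of the same central product. -/
theorem exists_withPair [Finite G] (F : Pair z) (hF : F.Inj)
    (hsub : ∀ n, n < 288 → F.kEl n ∈ S.P.kSub) : ∃ S' : Setting z, S'.P = F := by
  classical
  have hsurj : ∀ m, m < 288 → ∃ n, n < 288 ∧ F.kEl n = S.P.kEl m := by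
    choose f hf hfe using hsub
    let φ : Fin 288 → Fin 288 := fun i => ⟨f i i.2, hf i i.2⟩
    have hφ : Function.Injective φ := fun i j hij => Fin.ext (hF i j i.2 j.2 (by
      rw [← hfe i i.2, ← hfe j j.2]; exact congrArg S.P.kEl (congrArg Fin.val hij)))
    intro m hm
    obtain ⟨i, hi⟩ := (Finite.injective_iff_surjective.mp hφ) ⟨m, hm⟩
    exact ⟨i, i.2, by rw [← hfe i i.2]; exact congrArg S.P.kEl (congrArg Fin.val hi)⟩
  have hmemQ : ∀ n, n < 288 → (inQ n = true ↔ F.kEl n ∈ S.P.qSub) := by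
    intro n hn
    obtain ⟨m, hm, e⟩ := hsub n hn
    have h2 := Pair.kMul_lt hn hn
    have h4 := Pair.kMul_lt h2 h2
    have h8 := Pair.kMul_lt h4 h4
    have h16 := Pair.kMul_lt h8 h8
    have hp := List.all_eq_true.mp q_pow n (List.mem_range.mpr hn)
    simp only [Bool.and_eq_true, Bool.or_eq_true, Bool.not_eq_true', beq_iff_eq, beq_eq_false_iff_ne] at hp
    rw [← e, S.mem_qSub_iff hm, e]
    constructor
    · intro hq
      have h4' : F.kEl n ^ 4 = 1 := by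
        have := congrArg F.kEl ((hp.1).resolve_left (by simp [hq]))
        rw [F.kEl_mul' h2 h2, F.kEl_mul' hn hn, F.kEl_one] at this
        rw [← this]; simp only [pow_succ, pow_zero, one_mul, mul_assoc]
      rw [show (32 : ℕ) = 4 * 8 from rfl, pow_mul, h4', one_pow]
    · intro h
      refine hp.2.resolve_left fun hne => hne (hF _ _ (Pair.kMul_lt h16 h16) (by norm_num) ?_)
      rw [F.kEl_mul' h16 h16, F.kEl_mul' h8 h8, F.kEl_mul' h4 h4, F.kEl_mul' h2 h2, F.kEl_mul' hn hn, F.kEl_one,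
        ← h]
      simp only [pow_succ, pow_zero, one_mul, mul_assoc]
  have hQ : F.qSub = S.P.qSub := by
    ext x
    constructor
    · rintro ⟨n, hn, rfl⟩; exact (hmemQ n (Pair.inQ_lt hn)).mp hn
    · rintro ⟨m, hm, rfl⟩
      obtain ⟨n, hn, e⟩ := hsurj m (Pair.inQ_lt hm)
      exact ⟨n, (hmemQ n hn).mpr (e ▸ ⟨m, hm, rfl⟩), e⟩
  refine ⟨⟨F, S.ord, hF, ?_, ?_, S.card_cent, ?_, ?_⟩, rfl⟩
  · intro h hh n hn
    obtain ⟨m, hm, e⟩ := hsub n hn
    obtain ⟨m', hm', e'⟩ := S.conjK h hh m hm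
    obtain ⟨n', hn', e''⟩ := hsurj m' hm'
    exact ⟨n', hn', by rw [← e, e', e'']⟩
  · intro h hh hc
    refine S.fixK h hh fun m hm => ?_
    obtain ⟨n, hn, e⟩ : S.P.kEl m ∈ F.qSub := by rw [hQ]; exact ⟨m, hm, rfl⟩
    rw [← e]; exact hc n hn
  · obtain ⟨g, m, hm, hne, e⟩ := S.weak
    obtain ⟨n, hn, en⟩ : S.P.kEl m ∈ F.qSub := by rw [hQ]; exact ⟨m, hm, rfl⟩
    refine ⟨g, n, hn, fun h => hne ?_, by rw [e, en]⟩
    exact S.inj _ _ (Pair.inQ_lt hm) (by norm_num) (by rw [← en, h, F.kEl_z, S.P.kEl_z])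
  · intro g n hn hne e
    obtain ⟨m, hm, em⟩ : F.kEl n ∈ S.P.qSub := by rw [← hQ]; exact ⟨n, hn, rfl⟩
    rw [hQ]
    refine S.inter g m hm (fun h => hne ?_) (by rw [e, em])
    exact hF _ _ (Pair.inQ_lt hn) (by norm_num) (by rw [← em, h, F.kEl_z, S.P.kEl_z])

end Setting

end CfsgLib.UFourThree
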