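import Cfsg.Agent.Lib.UFourThree.Pair
import Cfsg.Agent.Lib.Components.FStar
import Cfsg.Agent.Lib.Solvable.Fitting
import Cfsg.Prelude.Def_Classification

/-!
The elementwise form of the hypotheses on an involution centraliser of type `U₄(3)`.
-/

set_option autoImplicit false

namespace CfsgLib.UFourThree

open Matrix

universe u

variable {G : Type u} [Group G]

/-- The hypotheses on the centraliser in terms of elements. -/
structure Setting (z : G) where
  /-- The two copies of `SL(2,3)`. -/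
  P : Pair z
  ord : orderOf z = 2
  inj : P.Inj
  conjK : ∀ h, Commute h z → ∀ n, n < 288 → ∃ m, m < 288 ∧ h * P.kEl n * h⁻¹ = P.kEl m
  fixK : ∀ h, Commute h z → (∀ n, inQ n = true → Commute h (P.kEl n)) → h = 1 ∨ h = z
  card_cent : Nat.card (Subgroup.centralizer ({z} : Set G)) = 1152
  weak : ∃ g n, inQ n = true ∧ n ≠ 183 ∧ g * z * g⁻¹ = P.kEl n
  inter : ∀ g n, inQ n = true → n ≠ 183 → g * z * g⁻¹ = P.kEl n →
    Nat.card ↥(P.qSub ⊓ P.qSub.map (MulAut.conj g).toMonoidHom) = 4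

/-- The element of `SL(2,3)` with a code. -/
def slSL (a : ℕ) : Matrix.SpecialLinearGroup (Fin 2) (ZMod 3) :=
  ⟨slMat (a % 24), slMat_det ⟨a % 24, Nat.mod_lt _ (by norm_num)⟩⟩

theorem slSL_mul (a b : ℕ) : slSL (sMul a b) = slSL a * slSL b := by
  refine Subtype.ext ?_
  show slMat (sMul a b % 24) = slMat (a % 24) * slMat (b % 24)
  have h := slMat_mul ⟨a % 24, Nat.mod_lt _ (by norm_num)⟩ ⟨b % 24, Nat.mod_lt _ (by norm_num)⟩
  have hl := (table_lt ⟨a % 24, Nat.mod_lt _ (by norm_num)⟩ ⟨b % 24, Nat.mod_lt _ (by norm_num)⟩).1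
  simp only [sMul, Nat.mod_mod] at h hl ⊢
  rw [Nat.mod_eq_of_lt hl]
  exact h

theorem slSL_inj {a b : ℕ} (ha : a < 24) (hb : b < 24) (h : slSL a = slSL b) : a = b := by
  have e : slMat (a % 24) = slMat (b % 24) := congrArg Subtype.val h
  rw [Nat.mod_eq_of_lt ha, Nat.mod_eq_of_lt hb] at e
  exact congrArg Fin.val (slMat_injective ⟨a, ha⟩ ⟨b, hb⟩ e)

theorem slSL_surj (M : Matrix.SpecialLinearGroup (Fin 2) (ZMod 3)) : ∃ a, a < 24 ∧ slSL a = M := by
  obtain ⟨i, hi⟩ := slMat_surjective (M.1 0 0) (M.1 0 1) (M.1 1 0) (M.1 1 1)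
    (by rw [← Matrix.det_fin_two]; exact M.2)
  refine ⟨i, i.2, Subtype.ext ?_⟩
  show slMat ((i : ℕ) % 24) = M.1
  rw [Nat.mod_eq_of_lt i.2, hi]
  exact (Matrix.eta_fin_two M.1).symm

theorem slSL_sq {a : ℕ} (ha : a < 24) (h : slSL a * slSL a = 1) (h1 : slSL a ≠ 1) : a = 15 := by
  have key : ∀ i : Fin 24, sMul i i = 3 → (i : ℕ) = 3 ∨ (i : ℕ) = 15 := by decide +kernel
  have h3 : slSL 3 = 1 := by
    have := slSL_mul 3 3
    rw [show sMul 3 3 = 3 by decide +kernel] at this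
    exact (left_eq_mul.mp this)
  have e : sMul a a = 3 := by
    have hl : sMul a a < 24 := (table_lt ⟨a, ha⟩ ⟨a, ha⟩).1
    exact slSL_inj hl (by norm_num) (by rw [slSL_mul, h, h3])
  exact (key ⟨a, ha⟩ e).resolve_left fun e3 => h1 (by rw [show a = 3 from e3, h3])

variable [Finite G]

open Cfsg in
/-- The setting given by the hypotheses. -/
theorem exists_setting (z : G) (hz : orderOf z = 2) (H₁ H₂ : Subgroup (Subgroup.centralizer ({z} : Set G)))
    (hK : H₁ ⊔ H₂ = Subgroup.closure {x : Subgroup.centralizer ({z} : Set G) | Odd (orderOf x)})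
    (hn₁ : (H₁.subgroupOf (H₁ ⊔ H₂)).Normal) (hn₂ : (H₂.subgroupOf (H₁ ⊔ H₂)).Normal)
    (e₁ : H₁ ≃* Matrix.SpecialLinearGroup (Fin 2) (ZMod 3))
    (e₂ : H₂ ≃* Matrix.SpecialLinearGroup (Fin 2) (ZMod 3))
    (hmeet : (H₁ ⊓ H₂).map (Subgroup.subtype (Subgroup.centralizer ({z} : Set G))) = Subgroup.zpowers z)
    (Q : Subgroup (Subgroup.centralizer ({z} : Set G))) [Q.Normal]
    (hQ : Q = (Cfsg.pCore 2 ↥(H₁ ⊔ H₂)).map (Subgroup.subtype (H₁ ⊔ H₂)))
    (hF : Cfsg.generalizedFittingSubgroup (Subgroup.centralizer ({z} : Set G)) = Q)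
    (hnwc : ∃ g : G, (∃ hq : g * z * g⁻¹ ∈ Subgroup.centralizer ({z} : Set G),
      (⟨g * z * g⁻¹, hq⟩ : Subgroup.centralizer ({z} : Set G)) ∈ Q) ∧ g * z * g⁻¹ ≠ z)
    (hH : Nat.card ↥(Subgroup.centralizer ({z} : Set G)) = 2 ^ 7 * 3 ^ 2)
    (hQQg : ∀ g : G, g * z * g⁻¹ ∈ Q.map (Subgroup.subtype (Subgroup.centralizer ({z} : Set G))) →
      g * z * g⁻¹ ≠ z → Nat.card ↥((Q.map (Subgroup.subtype (Subgroup.centralizer ({z} : Set G)))) ⊓
        (Q.map (Subgroup.subtype (Subgroup.centralizer ({z} : Set G)))).map (MulAut.conj g).toMonoidHom) = 4) :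
    Nonempty (Setting z) := by
  let f₁ : ℕ → ↥(Subgroup.centralizer ({z} : Set G)) := fun a => (e₁.symm (slSL a) : H₁)
  let f₂ : ℕ → ↥(Subgroup.centralizer ({z} : Set G)) := fun a => (e₂.symm (slSL a) : H₂)
  have m₁ : ∀ a b, f₁ (sMul a b) = f₁ a * f₁ b := fun a b => by simp [f₁, slSL_mul]
  have m₂ : ∀ a b, f₂ (sMul a b) = f₂ a * f₂ b := fun a b => by simp [f₂, slSL_mul]
  have i₁ : ∀ a b, a < 24 → b < 24 → f₁ a = f₁ b → a = b := fun a b ha hb h =>
    slSL_inj ha hb (e₁.symm.injective (Subtype.ext h))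
  have i₂ : ∀ a b, a < 24 → b < 24 → f₂ a = f₂ b → a = b := fun a b ha hb h =>
    slSL_inj ha hb (e₂.symm.injective (Subtype.ext h))
  have s₁ : ∀ x ∈ H₁, ∃ a, a < 24 ∧ f₁ a = x := fun x hx => by
    obtain ⟨a, ha, e⟩ := slSL_surj (e₁ ⟨x, hx⟩)
    exact ⟨a, ha, by simp [f₁, e]⟩
  have s₂ : ∀ x ∈ H₂, ∃ a, a < 24 ∧ f₂ a = x := fun x hx => by
    obtain ⟨a, ha, e⟩ := slSL_surj (e₂ ⟨x, hx⟩)
    exact ⟨a, ha, by simp [f₂, e]⟩
  let zC : ↥(Subgroup.centralizer ({z} : Set G)) := ⟨z, Subgroup.mem_centralizer_singleton_iff.mpr rfl⟩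
  have hz1 : zC ≠ 1 := fun h => by
    have : z = 1 := congrArg Subtype.val h
    rw [this, orderOf_one] at hz; omega
  have hzz : zC * zC = 1 := Subtype.ext (by
    show z * z = 1
    rw [← pow_two, ← hz]; exact pow_orderOf_eq_one z)
  have hmeet' : ∀ x ∈ H₁, x ∈ H₂ → x = 1 ∨ x = zC := by
    intro x h1 h2
    have h : (x : G) ∈ Subgroup.zpowers z := hmeet ▸ ⟨x, ⟨h1, h2⟩, rfl⟩
    obtain ⟨i, hi⟩ := h
    rcases Int.even_or_odd i with ⟨j, hj⟩ | ⟨j, hj⟩
    · refine Or.inl (Subtype.ext ?_)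
      rw [← hi, hj]
      show z ^ (j + j) = 1
      rw [_root_.zpow_add, ← (Commute.refl z).mul_zpow, show z * z = 1 from congrArg Subtype.val hzz, _root_.one_zpow]
    · refine Or.inr (Subtype.ext ?_)
      rw [← hi, hj]
      show z ^ (2 * j + 1) = z
      rw [_root_.zpow_add, _root_.zpow_mul, zpow_one, show z ^ (2 : ℤ) = 1 by
        rw [zpow_two]; exact congrArg Subtype.val hzz, _root_.one_zpow, one_mul]
  have hzin : zC ∈ H₁ ∧ zC ∈ H₂ := by
    obtain ⟨x, hx, hxz⟩ := (hmeet ▸ Subgroup.mem_zpowers z : z ∈ (H₁ ⊓ H₂).map (Subgroup.centralizer ({z} : Set G)).subtype)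
    rw [show zC = x from Subtype.ext hxz.symm]
    exact hx
  have hminus : ∀ (H : Subgroup ↥(Subgroup.centralizer ({z} : Set G))) (e : H ≃* Matrix.SpecialLinearGroup (Fin 2) (ZMod 3)), zC ∈ H →
      ((e.symm (slSL 15) : H) : ↥(Subgroup.centralizer ({z} : Set G))) = zC := by
    intro H e hzH
    obtain ⟨a, ha, ea⟩ := slSL_surj (e ⟨zC, hzH⟩)
    have h15 : a = 15 := slSL_sq ha
      (by rw [ea, ← map_mul]; exact (congrArg e (Subtype.ext hzz)).trans (map_one e))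
      (fun h => hz1 (congrArg Subtype.val (e.injective ((ea.symm.trans h).trans (map_one e).symm))))
    rw [← h15, ea, MulEquiv.symm_apply_apply]
  have z₁ : f₁ 15 = zC := hminus H₁ e₁ hzin.1
  have z₂ : f₂ 15 = zC := hminus H₂ e₂ hzin.2
  have mem₁ : ∀ a, f₁ a ∈ H₁ := fun a => SetLike.coe_mem _
  have mem₂ : ∀ a, f₂ a ∈ H₂ := fun a => SetLike.coe_mem _
  have zcen : ∀ x : ↥(Subgroup.centralizer ({z} : Set G)), zC * x = x * zC := fun x => Subtype.ext (Subgroup.mem_centralizer_singleton_iff.mp x.2).symm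
  have hcomm3 : ∀ a b, sMul a (sMul a a) = 3 → Commute (f₁ a) (f₂ b) := by
    intro a b ha3
    have hb : f₂ b ∈ H₁ ⊔ H₂ := Subgroup.mem_sup_right (mem₂ b)
    have haK : f₁ a ∈ H₁ ⊔ H₂ := Subgroup.mem_sup_left (mem₁ a)
    have h1 : f₂ b * f₁ a * (f₂ b)⁻¹ ∈ H₁ := hn₁.conj_mem ⟨f₁ a, haK⟩ (mem₁ a) ⟨f₂ b, hb⟩
    have h2 : f₁ a * (f₂ b)⁻¹ * (f₁ a)⁻¹ ∈ H₂ :=
      hn₂.conj_mem ⟨(f₂ b)⁻¹, inv_mem hb⟩ (inv_mem (mem₂ b)) ⟨f₁ a, haK⟩
    have hc : f₂ b * f₁ a * (f₂ b)⁻¹ * (f₁ a)⁻¹ ∈ H₂ := by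
      have := mul_mem (mem₂ b) h2
      simpa [mul_assoc] using this
    rcases hmeet' _ (mul_mem h1 (inv_mem (mem₁ a))) hc with h | h
    · exact (mul_inv_eq_iff_eq_mul.mp (mul_inv_eq_one.mp h)).symm
    · exfalso
      have hconj : f₂ b * f₁ a * (f₂ b)⁻¹ = zC * f₁ a := mul_inv_eq_iff_eq_mul.mp h
      have h3 : f₁ a * (f₁ a * f₁ a) = 1 := by
        rw [← m₁, ← m₁, ha3]; exact left_eq_mul.mp ((congrArg f₁ (show sMul 3 3 = 3 by decide +kernel)).symm.trans (m₁ 3 3))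
      have h4 : zC * f₁ a * (zC * f₁ a * (zC * f₁ a)) = 1 := by
        rw [← hconj]
        calc _ = f₂ b * (f₁ a * (f₁ a * f₁ a)) * (f₂ b)⁻¹ := by group
          _ = 1 := by rw [h3]; group
      refine hz1 ?_
      have e4 : (zC * f₁ a) ^ 3 = 1 := by rw [pow_succ', pow_two, h4]
      have e3 : (f₁ a) ^ 3 = 1 := by rw [pow_succ', pow_two, h3]
      rw [Commute.mul_pow (zcen (f₁ a)), e3, mul_one, pow_succ', pow_two, hzz, mul_one] at e4
      exact e4
  have hcomm : ∀ a b, Commute (f₁ a) (f₂ b) := by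
    intro a b
    obtain ⟨-, h6, h22, -, -, h0⟩ := sl_facts
    have c6 := hcomm3 6 b h6
    have c0 : Commute (f₁ 0) (f₂ b) := by
      rw [← h0, m₁]
      refine Commute.mul_left ?_ (hcomm3 22 b h22)
      have hinv : f₁ (sInv 6) = f₁ 6 * f₁ 6 := by
        rw [← m₁]; exact congrArg f₁ (by decide +kernel)
      rw [hinv]
      exact c6.mul_left c6
    have c3 : Commute (f₁ 3) (f₂ b) := hcomm3 3 b (by decide +kernel)
    obtain ⟨i, j, l, h⟩ := sl_words ⟨a % 24, Nat.mod_lt _ (by norm_num)⟩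
    have hmod : f₁ a = f₁ (a % 24) := by simp [f₁, slSL, Nat.mod_mod]
    have c15 : Commute (f₁ 15) (f₂ b) := by rw [z₁]; exact zcen _
    have cI : Commute (f₁ (sInv 6)) (f₂ b) := by
      rw [show f₁ (sInv 6) = f₁ 6 * f₁ 6 by rw [← m₁]; exact congrArg f₁ (by decide +kernel)]
      exact c6.mul_left c6
    have ci : Commute (f₁ ([3, 6, sMul 6 6].getD i.val 0)) (f₂ b) := by
      fin_cases i
      exacts [c3, c6, (m₁ 6 6).symm ▸ c6.mul_left c6]
    have cj : Commute (f₁ ([3, 0, 15, sMul 15 0].getD j.val 0)) (f₂ b) := by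
      fin_cases j
      exacts [c3, c0, c15, (m₁ 15 0).symm ▸ c15.mul_left c0]
    have cl : Commute (f₁ ([3, sMul (sMul 6 0) (sInv 6)].getD l.val 0)) (f₂ b) := by
      fin_cases l
      exacts [c3, (m₁ _ _).symm ▸ ((m₁ 6 0).symm ▸ c6.mul_left c0).mul_left cI]
    simp only at h
    rw [hmod, ← h, m₁, m₁]
    exact ci.mul_left (cj.mul_left cl)
  let P : Pair z :=
    { fst := ⟨fun a => (f₁ a : G), fun a b => by rw [m₁]; rfl, congrArg Subtype.val z₁⟩
      snd := ⟨fun a => (f₂ a : G), fun a b => by rw [m₂]; rfl, congrArg Subtype.val z₂⟩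
      comm := fun a b => congrArg Subtype.val (hcomm a b) }
  let k : ℕ → ↥(Subgroup.centralizer ({z} : Set G)) := fun n => f₁ (cA n) * f₂ (cB n)
  have hk : ∀ n, (k n : G) = P.kEl n := fun n => rfl
  have hKset : ∀ x ∈ H₁ ⊔ H₂, ∃ n, n < 288 ∧ k n = x := by
    intro x hx
    have hle : H₁ ⊔ H₂ ≤ P.kSub.subgroupOf (Subgroup.centralizer ({z} : Set G)) := by
      refine sup_le (fun y hy => ?_) (fun y hy => ?_)
      · obtain ⟨a, ha, rfl⟩ := s₁ y hy
        refine ⟨enc a 3 0 0, Pair.enc_lt_of_zero _ _, ?_⟩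
        rw [P.kEl_enc, P.snd.map_one, mul_one]; rfl
      · obtain ⟨a, ha, rfl⟩ := s₂ y hy
        refine ⟨enc 3 a 0 0, Pair.enc_lt_of_zero _ _, ?_⟩
        rw [P.kEl_enc, P.fst.map_one, one_mul]; rfl
    obtain ⟨n, hn, e⟩ := hle hx
    exact ⟨n, hn, Subtype.ext e⟩
  have hkmem : ∀ n, k n ∈ H₁ ⊔ H₂ := fun n =>
    mul_mem (Subgroup.mem_sup_left (mem₁ _)) (Subgroup.mem_sup_right (mem₂ _))
  have hinj : P.Inj := by
    intro n m hn hm h
    have h' : f₁ (cA n) * f₂ (cB n) = f₁ (cA m) * f₂ (cB m) := Subtype.ext h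
    have h'' : (f₁ (cA m))⁻¹ * f₁ (cA n) = f₂ (cB m) * (f₂ (cB n))⁻¹ := by
      rw [inv_mul_eq_iff_eq_mul, ← mul_assoc, eq_mul_inv_iff_mul_eq]; exact h'
    have hd : ∀ i j, i < 12 → j < 12 → f₂ i = zC * f₂ j → False := by
      intro i j hi hj e
      rw [← z₂, ← m₂] at e
      have hl : sMul 15 j < 24 := by rw [sNeg_eq]; unfold sNeg; omega
      have := i₂ i (sMul 15 j) (by omega) hl e
      rw [sNeg_eq] at this
      unfold sNeg at this
      omega
    have hA : cA n < 24 ∧ cA m < 24 ∧ cB n < 12 ∧ cB m < 12 := by unfold cA cB; omega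
    rcases hmeet' _ (mul_mem (inv_mem (mem₁ (cA m))) (mem₁ (cA n)))
        (h'' ▸ mul_mem (mem₂ (cB m)) (inv_mem (mem₂ (cB n)))) with e | e
    · have ea : cA n = cA m := i₁ _ _ hA.1 hA.2.1 (inv_mul_eq_one.mp e).symm
      have eb : cB m = cB n := i₂ _ _ (by omega) (by omega) (mul_inv_eq_one.mp (h''.symm.trans e))
      unfold cA at ea; unfold cB at eb
      omega
    · exact (hd _ _ hA.2.2.2 hA.2.2.1 (mul_inv_eq_iff_eq_mul.mp (h''.symm.trans e))).elim
  have hQset : ∀ x : ↥(Subgroup.centralizer ({z} : Set G)), x ∈ Q ↔ ∃ n, inQ n = true ∧ k n = x := by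
    intro x
    rw [hQ]
    constructor
    · rintro ⟨y, hy, rfl⟩
      obtain ⟨n, hn, e⟩ := hKset _ y.2
      refine ⟨n, ?_, e⟩
      obtain ⟨i, hi⟩ := CfsgLib.Fitting.pCore_isPGroup 2 ⟨y, hy⟩
      have hyi : ((y : ↥(Subgroup.centralizer ({z} : Set G))) : G) ^ 2 ^ i = 1 := by
        have := congrArg (fun v : (Cfsg.pCore 2 ↥(H₁ ⊔ H₂)) => (((v : ↥(H₁ ⊔ H₂)) : ↥(Subgroup.centralizer ({z} : Set G))) : G)) hi
        simpa using this
      have hdiv : ((y : ↥(Subgroup.centralizer ({z} : Set G))) : G) ^ 32 = 1 := by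
        have hcard : orderOf ((y : ↥(Subgroup.centralizer ({z} : Set G))) : G) ∣ 2 ^ i := orderOf_dvd_of_pow_eq_one hyi
        have hy2 : orderOf ((y : ↥(Subgroup.centralizer ({z} : Set G))) : G) ∣ 1152 := by
          rw [Subgroup.orderOf_coe, ← show Nat.card ↥(Subgroup.centralizer ({z} : Set G)) = 1152 by rw [hH]; norm_num]
          exact orderOf_dvd_natCard _
        obtain ⟨j, -, hj⟩ := (Nat.dvd_prime_pow Nat.prime_two).mp hcard
        have hK288 : orderOf ((y : ↥(Subgroup.centralizer ({z} : Set G))) : G) ∣ 288 := by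
          have hsurj : Nat.card (P.kSub : Subgroup G) = 288 := by
            rw [← Nat.card_fin 288]
            refine (Nat.card_congr (Equiv.ofBijective
              (fun i : Fin 288 => (⟨P.kEl i, i, i.2, rfl⟩ : P.kSub)) ⟨?_, ?_⟩)).symm
            · intro a b hab; exact Fin.ext (hinj a b a.2 b.2 (congrArg Subtype.val hab))
            · rintro ⟨v, m, hm, rfl⟩; exact ⟨⟨m, hm⟩, rfl⟩
          rw [← hsurj]
          exact Subgroup.orderOf_dvd_natCard P.kSub ⟨n, hn, congrArg Subtype.val e⟩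
        have hj5 : j ≤ 5 := by
          rw [hj] at hK288
          by_contra hcon
          have : 2 ^ 6 ∣ 288 := (pow_dvd_pow 2 (show 6 ≤ j by omega)).trans hK288
          norm_num at this
        rw [← orderOf_dvd_iff_pow_eq_one, hj]
        exact (pow_dvd_pow 2 hj5).trans (by norm_num)
      have hp := List.all_eq_true.mp q_pow n (List.mem_range.mpr hn)
      simp only [Bool.and_eq_true, Bool.or_eq_true, Bool.not_eq_true', beq_eq_false_iff_ne] at hp
      refine hp.2.resolve_left (fun hne => hne ?_)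
      have h2 := Pair.kMul_lt hn hn
      have h4 := Pair.kMul_lt h2 h2
      have h8 := Pair.kMul_lt h4 h4
      have h16 := Pair.kMul_lt h8 h8
      refine hinj _ _ (Pair.kMul_lt h16 h16) (by norm_num) ?_
      rw [P.kEl_mul' h16 h16, P.kEl_mul' h8 h8, P.kEl_mul' h4 h4, P.kEl_mul' h2 h2, P.kEl_mul' hn hn,
        P.kEl_one, show P.kEl n = ((y : ↥(Subgroup.centralizer ({z} : Set G))) : G) from congrArg Subtype.val e]
      rw [← hdiv]; simp only [pow_succ, pow_zero, one_mul, mul_assoc]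
    · rintro ⟨n, hn, rfl⟩
      let N : Subgroup ↥(H₁ ⊔ H₂) := (P.qSub.subgroupOf (Subgroup.centralizer ({z} : Set G))).subgroupOf (H₁ ⊔ H₂)
      have hN : N.Normal := ⟨fun a ha b => by
        obtain ⟨i, hi, ei⟩ := ha
        obtain ⟨j, hj, ej⟩ := hKset _ b.2
        have ej' : P.kEl j = ((b : ↥(Subgroup.centralizer ({z} : Set G))) : G) := congrArg Subtype.val ej
        refine ⟨kMul (kMul j i) (kInv j), Pair.inQ_conj hi hj, ?_⟩
        rw [P.kEl_mul' (Pair.kMul_lt hj (Pair.inQ_lt hi)) (Pair.kInv_lt hj), P.kEl_mul' hj (Pair.inQ_lt hi),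
          P.kEl_inv, ei, ej']
        rfl⟩
      have hp : IsPGroup 2 N := by
        intro v
        obtain ⟨i, hi, ei⟩ := v.2
        refine ⟨2, Subtype.ext (Subtype.ext (Subtype.ext ?_))⟩
        have hh := List.all_eq_true.mp q_pow i (List.mem_range.mpr (Pair.inQ_lt hi))
        simp only [Bool.and_eq_true, Bool.or_eq_true, Bool.not_eq_true', beq_iff_eq, hi,
          Bool.true_eq_false, false_or] at hh
        have h2 := Pair.kMul_lt (Pair.inQ_lt hi) (Pair.inQ_lt hi)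
        have := congrArg P.kEl hh.1
        rw [P.kEl_mul' h2 h2, P.kEl_mul' (Pair.inQ_lt hi) (Pair.inQ_lt hi), ei, P.kEl_one] at this
        push_cast
        rw [show (4 : ℕ) = 2 + 2 from rfl, pow_add, pow_two]
        exact this
      exact ⟨⟨k n, hkmem n⟩, CfsgLib.Fitting.le_pCore hN hp ⟨n, hn, rfl⟩, rfl⟩
  have hQmap : Q.map (Subgroup.centralizer ({z} : Set G)).subtype = P.qSub := by
    ext x
    constructor
    · rintro ⟨y, hy, rfl⟩
      obtain ⟨n, hn, rfl⟩ := (hQset y).mp hy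
      exact ⟨n, hn, rfl⟩
    · rintro ⟨n, hn, rfl⟩
      exact ⟨k n, (hQset _).mpr ⟨n, hn, rfl⟩, rfl⟩
  refine ⟨⟨P, hz, hinj, ?_, ?_, by rw [hH]; norm_num, ?_, ?_⟩⟩
  · intro h hh n hn
    set hc : ↥(Subgroup.centralizer ({z} : Set G)) := ⟨h, Subgroup.mem_centralizer_singleton_iff.mpr hh.eq⟩ with hcd
    have hodd : ∀ m, m < 288 → Odd (orderOf (k m)) → hc * k m * hc⁻¹ ∈ H₁ ⊔ H₂ := by
      intro m _ ho
      rw [hK]
      refine Subgroup.subset_closure ?_
      show Odd (orderOf (hc * k m * hc⁻¹))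
      rwa [← MulAut.conj_apply, ← MulEquiv.coe_toMonoidHom,
        orderOf_injective (MulAut.conj hc).toMonoidHom (MulAut.conj hc).injective]
    have hle : H₁ ⊔ H₂ ≤ (H₁ ⊔ H₂).comap (MulAut.conj hc).toMonoidHom := by
      conv_lhs => rw [hK]
      rw [Subgroup.closure_le]
      intro x hx
      have hxK : x ∈ H₁ ⊔ H₂ := by rw [hK]; exact Subgroup.subset_closure hx
      obtain ⟨m, hm, rfl⟩ := hKset x hxK
      exact hodd m hm hx
    obtain ⟨m, hm, e⟩ := hKset _ (hle (hkmem n))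
    exact ⟨m, hm, (congrArg Subtype.val e).symm⟩
  · intro h hh hcen
    set hc : ↥(Subgroup.centralizer ({z} : Set G)) := ⟨h, Subgroup.mem_centralizer_singleton_iff.mpr hh.eq⟩ with hcd
    have hcQ : hc ∈ Subgroup.centralizer (Q : Set ↥(Subgroup.centralizer ({z} : Set G))) := by
      intro y hy
      obtain ⟨n, hn, rfl⟩ := (hQset y).mp hy
      exact Subtype.ext (hcen n hn).eq.symm
    have hin : hc ∈ Q := by
      rw [← hF] at hcQ ⊢
      exact CfsgLib.Components.centralizer_generalizedFitting_le hcQ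
    obtain ⟨n, hn, e⟩ := (hQset hc).mp hin
    have e' : P.kEl n = h := congrArg Subtype.val e
    have key : (qList.all fun n => n == 39 || n == 183 ||
        qList.any fun m => inQ m && !(kMul n m == kMul m n)) = true := by decide +kernel
    have hl := Pair.inQ_lt hn
    have := List.all_eq_true.mp key n (Pair.mem_qList hn)
    simp only [Bool.or_eq_true, beq_iff_eq, List.any_eq_true, Bool.and_eq_true, Bool.not_eq_true',
      beq_eq_false_iff_ne] at this
    rcases this with (r | r) | ⟨m, -, hmq, hne⟩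
    · exact Or.inl (by rw [← e', r, P.kEl_one])
    · exact Or.inr (by rw [← e', r, P.kEl_z])
    · exfalso
      have hm := Pair.inQ_lt hmq
      refine hne (hinj _ _ (Pair.kMul_lt hl hm) (Pair.kMul_lt hm hl) ?_)
      rw [P.kEl_mul' hl hm, P.kEl_mul' hm hl, e']
      exact (hcen m hmq).eq
  · obtain ⟨g, ⟨hq, hmem⟩, hne⟩ := hnwc
    obtain ⟨n, hn, e⟩ := (hQset _).mp hmem
    exact ⟨g, n, hn, fun h => hne ((congrArg Subtype.val e).symm.trans (h ▸ P.kEl_z)),
      (congrArg Subtype.val e).symm⟩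
  · intro g n hn hne hg
    rw [← hQmap]
    refine hQQg g (hQmap ▸ ⟨n, hn, hg.symm⟩) fun h => hne (hinj _ _ (Pair.inQ_lt hn) (by norm_num) ?_)
    rw [← hg, h, P.kEl_z]

end CfsgLib.UFourThree
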