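import Cfsg.Agent.Lib.UFourThree.Flip

/-!
Finite checks which single out the parameters of the centraliser.
-/

set_option autoImplicit false
set_option maxRecDepth 100000
set_option Elab.async false

namespace CfsgLib.UFourThree

/-- The codes of the centraliser outside the four group. -/
def cxList : List ℕ := cList.filter fun c => !eList.contains c

/-- An element of a coset of the central product compatible with a flip. -/
def yTest (m p c y : ℕ) : Bool :=
  let q := mulP m p c
  q y 0 == q 0 y && ([39, 0].contains (q y y) &&
    cList.all fun x => eList.any fun e => q x y == q e (q y x))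

/-- Candidates in a coset. -/
def yCands (m p c off : ℕ) : List ℕ := (List.range' off 288).filter (yTest m p c)

/-- The conditions on a pair of candidates. -/
def pairB (m p c y y' : ℕ) : Bool :=
  let q := mulP m p c
  let y'' := q y y'
  q y y' == q 0 (q y' y) &&
    ((q y y == 39).toNat + (q y' y' == 39).toNat + (q y'' y'' == 39).toNat == 2 &&
      cxList.all fun x => [y, y', y''].any fun t => !(q x t == q t x) && !(q x t == q 0 (q t x)))

/-- The forbidden commutator of an element of order four with an involution. -/
def psiB (m p c y y' : ℕ) : Bool :=
  let q := mulP m p c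
  cxList.all fun x => [y, y', q y y'].all fun t =>
    q x x == 39 || !(q t t == 39) || !(q x t == q 0 (q t x))

/-- The forbidden commutator of an involution with an element of order four. -/
def mirB (m p c y y' : ℕ) : Bool :=
  let q := mulP m p c
  cxList.all fun x => [y, y', q y y'].all fun t =>
    !(q x x == 39) || q t t == 39 || !(q x t == q 183 (q t x))

/-- Both statements for one set of parameters. -/
def paramB (m p c : ℕ) : Bool :=
  (yCands m p c 576).all fun y => (yCands m p c 288).all fun y' =>
    !pairB m p c y y' || (psiB m p c y y' && (!mirB m p c y y' || (m == 0 && p == 1 && c == 1)))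

theorem param_000 : paramB 0 0 0 = true := by decide +kernel
theorem param_001 : paramB 0 0 1 = true := by decide +kernel
theorem param_010 : paramB 0 1 0 = true := by decide +kernel
theorem param_011 : paramB 0 1 1 = true := by decide +kernel
theorem param_100 : paramB 1 0 0 = true := by decide +kernel
theorem param_101 : paramB 1 0 1 = true := by decide +kernel
theorem param_110 : paramB 1 1 0 = true := by decide +kernel
theorem param_111 : paramB 1 1 1 = true := by decide +kernel

theorem param_all {m p c : ℕ} (hm : m < 2) (hp : p < 2) (hc : c < 2) : paramB m p c = true := by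
  interval_cases m <;> interval_cases p <;> interval_cases c
  exacts [param_000, param_001, param_010, param_011, param_100, param_101, param_110, param_111]

/-- Outside the normal 2-subgroup the centraliser of the hyperplane is trivial. -/
def hypB (m p c : ℕ) : Bool :=
  let q := mulP m p c
  (List.range 1152).all fun n => !(q n 0 == q 0 n) || qList.contains n ||
    cList.any fun x => !(q n x == q x n) && !(q n x == q 183 (q x n))

theorem hyp_000 : hypB 0 0 0 = true := by decide +kernel
theorem hyp_001 : hypB 0 0 1 = true := by decide +kernel
theorem hyp_010 : hypB 0 1 0 = true := by decide +kernel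
theorem hyp_011 : hypB 0 1 1 = true := by decide +kernel
theorem hyp_100 : hypB 1 0 0 = true := by decide +kernel
theorem hyp_101 : hypB 1 0 1 = true := by decide +kernel
theorem hyp_110 : hypB 1 1 0 = true := by decide +kernel
theorem hyp_111 : hypB 1 1 1 = true := by decide +kernel

theorem hyp_all {m p c : ℕ} (hm : m < 2) (hp : p < 2) (hc : c < 2) : hypB m p c = true := by
  interval_cases m <;> interval_cases p <;> interval_cases c
  exacts [hyp_000, hyp_001, hyp_010, hyp_011, hyp_100, hyp_101, hyp_110, hyp_111]

theorem coset_facts : ∀ a ∈ cxList, ∀ b ∈ cxList, kMul a b ∈ cxList →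
    (kMul a b = kMul 183 (kMul b a) ∧
      ((kMul a a == 39).toNat + (kMul b b == 39).toNat + (kMul (kMul a b) (kMul a b) == 39).toNat == 2) = true ∧
      ∀ c ∈ cList, ∃ e ∈ eList, c = e ∨ c = kMul e a ∨ c = kMul e b ∨ c = kMul e (kMul a b)) := by
  decide +kernel

theorem cx_facts : ∀ a ∈ cList, a ∈ eList ∨ (a ∈ cxList ∧ inQ a = true ∧
    (kMul a a = 39 ∨ kMul a a = 183)) := by
  decide +kernel

theorem cx_mul_ne : ∀ a ∈ cList, ∀ e ∈ eList, kMul e a ∈ eList → a ∈ eList := by decide +kernel

theorem r_coset_sq : ((List.range' 288 288).all fun n => !(hMul n n == 39)) = true := by decide +kernel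

/-- The four representatives of the classes of involutions. -/
def invReps : List ℕ := [183, 0, 615, 903]

/-- The test that an involution is conjugate to a representative. -/
def invB2 (n : ℕ) : Bool :=
  !(hMul n n == 39) || n == 39 || invReps.contains n ||
    (List.range 1152).any fun k => invReps.contains (hMul (hMul k n) (hInv k))

theorem inv_classes_1 : (List.range' 0 576).all invB2 = true := by decide +kernel

theorem inv_classes_2 : (List.range' 576 576).all invB2 = true := by decide +kernel

theorem inv_classes {n : ℕ} (hn : n < 1152) : invB2 n = true := by
  rcases lt_or_ge n 576 with h | h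
  · exact List.all_eq_true.mp inv_classes_1 n (List.mem_range'_1.mpr ⟨by omega, by omega⟩)
  · exact List.all_eq_true.mp inv_classes_2 n (List.mem_range'_1.mpr ⟨by omega, by omega⟩)

end CfsgLib.UFourThree
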