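import Cfsg.Agent.Lib.UFourThree.Types
import Cfsg.Agent.Lib.UFourThree.StageTables

/-!
The centraliser is the model and all its involutions are conjugate.
-/

set_option autoImplicit false
set_option maxRecDepth 100000
set_option Elab.async false

namespace CfsgLib.UFourThree

theorem tail_facts : (∀ a : Fin 24, sMul (sMul a 6) (sInv a) ≠ 3 ∧ sMul (sMul a 6) (sInv a) ≠ 15) ∧
    (∀ a : Fin 24, sMul (sMul a (sDc 6)) (sInv a) ≠ 3 ∧ sMul (sMul a (sDc 6)) (sInv a) ≠ 15) ∧
    (∀ a : Fin 24, sMul (sMul a 6) (sInv a) ≠ sDc 6 ∨ sMul (sMul a 0) (sInv a) ≠ sDc 0) := by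
  decide +kernel

variable {G : Type*} [Group G] {z : G}

/-- The centraliser as an image of the model. -/
structure Real (z : G) where
  /-- The map from the codes. -/
  el : ℕ → G
  map_mul : ∀ a b, el (hMul a b) = el a * el b
  map_z : el 183 = z
  inj : ∀ a b, a < 1152 → b < 1152 → el a = el b → a = b
  surj : ∀ g, Commute g z → ∃ n, n < 1152 ∧ el n = g
  ord : orderOf z = 2
  card_cent : Nat.card (Subgroup.centralizer ({z} : Set G)) = 1152
  one_class : ∀ n, n < 1152 → hMul n n = 39 → n ≠ 39 → IsConj z (el n)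

namespace GSetting

variable (Γ : GSetting z)

theorem kEl_eq {n : ℕ} (hn : n < 288) : Γ.S.P.kEl n = Γ.F.el n := by
  rw [Γ.F.el_eq_kEl hn, Γ.pair_eq]

theorem el_comm_z (n : ℕ) : Commute (Γ.F.el n) z := by
  have h1 := (Γ.F.base.z_comm (cA n)).symm
  have h2 := ((Γ.F.base.conj Γ.F.w Γ.F.w_z).z_comm (cB n)).symm
  exact ((h1.mul_left h2).mul_left (Γ.F.w_z.pow_left _)).mul_left (Γ.F.r_z.pow_left _)

theorem el_inj {n n' : ℕ} (hn : n < 1152) (hn' : n' < 1152) (h : Γ.F.el n = Γ.F.el n') : n = n' := by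
  have hs : cS n < 2 ∧ cT n < 2 ∧ cS n' < 2 ∧ cT n' < 2 := by unfold cS cT; omega
  have hk : ∀ m, Γ.F.el m = Γ.S.P.kEl (m % 288) * (Γ.F.w ^ cS m * Γ.F.r ^ cT m) := by
    intro m
    have e1 : cA (m % 288) = cA m := by unfold cA; omega
    have e2 : cB (m % 288) = cB m := by unfold cB; omega
    rw [Γ.pair_eq, GFrame.el]
    show _ = Γ.F.base.toFun (cA (m % 288)) * (Γ.F.w * Γ.F.base.toFun (cB (m % 288)) * Γ.F.w⁻¹) * _
    rw [e1, e2]; group
  have hl : n % 288 < 288 ∧ n' % 288 < 288 := by omega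
  set k := kMul (kInv (n % 288)) (n' % 288) with hkd
  have hkl : k < 288 := Pair.kMul_lt (Pair.kInv_lt hl.1) hl.2
  have hT : Γ.F.w ^ cS n * Γ.F.r ^ cT n = Γ.S.P.kEl k * (Γ.F.w ^ cS n' * Γ.F.r ^ cT n') := by
    rw [hkd, Γ.S.P.kEl_mul' (Pair.kInv_lt hl.1) hl.2, Γ.S.P.kEl_inv, mul_assoc, ← hk n', ← h, hk n]
    group
  set e := Γ.F.base with hed
  set e₂ := e.conj Γ.F.w Γ.F.w_z with he2
  have hkk : Γ.S.P.kEl k = e.toFun (cA k) * e₂.toFun (cB k) := by rw [Γ.pair_eq]; rfl
  have hact : ∀ i, (Γ.F.w ^ cS n * Γ.F.r ^ cT n) * e.toFun i * (Γ.F.w ^ cS n * Γ.F.r ^ cT n)⁻¹ =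
      if cS n = 0 then e.toFun (sTw (cT n) i) else e₂.toFun (sTw (cT n) i) := fun i => by
    rw [mul_inv_eq_iff_eq_mul, Γ.F.tail_fst _ _ _ hs.1 hs.2.1]; rfl
  have hact' : ∀ i, (Γ.F.w ^ cS n' * Γ.F.r ^ cT n') * e.toFun i * (Γ.F.w ^ cS n' * Γ.F.r ^ cT n')⁻¹ =
      if cS n' = 0 then e.toFun (sTw (cT n') i) else e₂.toFun (sTw (cT n') i) := fun i => by
    rw [mul_inv_eq_iff_eq_mul, Γ.F.tail_fst _ _ _ hs.2.2.1 hs.2.2.2]; rfl
  have hrel : ∀ i, (if cS n = 0 then e.toFun (sTw (cT n) i) else e₂.toFun (sTw (cT n) i)) =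
      (if cS n' = 0 then e.toFun (sMul (sMul (cA k) (sTw (cT n') i)) (sInv (cA k)))
        else e₂.toFun (sMul (sMul (cB k) (sTw (cT n') i)) (sInv (cB k)))) := by
    intro i
    rw [← hact i, hT]
    have hstep : Γ.S.P.kEl k * (Γ.F.w ^ cS n' * Γ.F.r ^ cT n') * e.toFun i *
        (Γ.S.P.kEl k * (Γ.F.w ^ cS n' * Γ.F.r ^ cT n'))⁻¹ = Γ.S.P.kEl k *
          (if cS n' = 0 then e.toFun (sTw (cT n') i) else e₂.toFun (sTw (cT n') i)) * (Γ.S.P.kEl k)⁻¹ := by
      rw [← hact' i]; group
    rw [hstep, hkk]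
    split_ifs
    · rw [e.map_mul, e.map_mul, e.map_inv]
      calc e.toFun (cA k) * e₂.toFun (cB k) * e.toFun (sTw (cT n') i) * (e.toFun (cA k) * e₂.toFun (cB k))⁻¹
          = e.toFun (cA k) * (e₂.toFun (cB k) * e.toFun (sTw (cT n') i)) * (e₂.toFun (cB k))⁻¹ * (e.toFun (cA k))⁻¹ := by
            group
        _ = _ := by rw [← (show Commute (e.toFun (sTw (cT n') i)) (e₂.toFun (cB k)) from Γ.F.comm _ _).eq]; group
    · rw [e₂.map_mul, e₂.map_mul, e₂.map_inv]
      calc e.toFun (cA k) * e₂.toFun (cB k) * e₂.toFun (sTw (cT n') i) * (e.toFun (cA k) * e₂.toFun (cB k))⁻¹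
          = e.toFun (cA k) * (e₂.toFun (cB k) * e₂.toFun (sTw (cT n') i) * (e₂.toFun (cB k))⁻¹) * (e.toFun (cA k))⁻¹ := by
            group
        _ = e.toFun (cA k) * (e₂.toFun (sMul (sMul (cB k) (sTw (cT n') i)) (sInv (cB k)))) * (e.toFun (cA k))⁻¹ := by
            rw [e₂.map_mul, e₂.map_mul, e₂.map_inv]
        _ = _ := by
            rw [(show Commute (e.toFun (cA k)) (e₂.toFun (sMul (sMul (cB k) (sTw (cT n') i)) (sInv (cB k)))) from
              Γ.F.comm _ _).eq, mul_inv_cancel_right, e₂.map_mul, e₂.map_mul, e₂.map_inv]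
  have hPinj : Γ.F.pair.Inj := by rw [← Γ.pair_eq]; exact Γ.S.inj
  have i1 : e.Inj := Pair.fst_inj Γ.F.pair hPinj
  have i2 : e₂.Inj := Pair.snd_inj Γ.F.pair hPinj
  have hmix : ∀ p q, p < 24 → q < 24 → e.toFun p = e₂.toFun q → p = 3 ∨ p = 15 := by
    intro p q hp hq h
    have h' := hPinj _ _ (Pair.enc_lt_of_zero p 3) (Pair.enc_lt_of_zero 3 q) (by
      rw [Pair.kEl_fst, Pair.kEl_snd]; exact h)
    have a1 := congrArg cA h'
    rw [cA_enc, cA_enc] at a1
    unfold sNeg at a1
    split_ifs at a1 <;> omega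
  obtain ⟨t1, t2, t3⟩ := tail_facts
  have hA := Nat.mod_lt (cA k) (show 24 > 0 by norm_num)
  have hB := Nat.mod_lt (cB k) (show 24 > 0 by norm_num)
  have hmod : ∀ a i, sMul (sMul a i) (sInv a) = sMul (sMul (a % 24) i) (sInv (a % 24)) := fun a i => by
    simp [sMul, sInv]
  have hlt : ∀ t i, sTw t i < 24 := fun t i => by
    unfold sTw
    split_ifs
    · exact Nat.mod_lt _ (by norm_num)
    · have := (table_lt ⟨i % 24, Nat.mod_lt _ (by norm_num)⟩ ⟨0, by norm_num⟩).2.2
      simpa [sDc, Nat.mod_mod] using this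
  have hS : cS n = cS n' := by
    by_contra hne
    have h6 := hrel 6
    have ht : sTw (cT n') 6 = 6 ∨ sTw (cT n') 6 = sDc 6 := by
      rcases (show cT n' = 0 ∨ cT n' = 1 by omega) with h | h <;> simp [sTw, h]
    have ht' : sTw (cT n) 6 ≠ 3 ∧ sTw (cT n) 6 ≠ 15 := by
      rcases (show cT n = 0 ∨ cT n = 1 by omega) with h | h <;> rw [h] <;> decide +kernel
    rcases (show (cS n = 0 ∧ cS n' = 1) ∨ (cS n = 1 ∧ cS n' = 0) by omega) with ⟨a, b⟩ | ⟨a, b⟩
    · simp only [a, b, if_true, Nat.one_ne_zero, if_false] at h6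
      rcases hmix _ _ (hlt _ _) (sMul_lt _ _) h6 with h | h
      exacts [ht'.1 h, ht'.2 h]
    · simp only [a, b, if_true, Nat.one_ne_zero, if_false] at h6
      rcases hmix _ _ (sMul_lt _ _) (hlt _ _) h6.symm with h | h <;>
        (rw [hmod] at h; rcases ht with e6 | e6 <;> rw [e6] at h)
      exacts [(t1 ⟨_, hA⟩).1 h, (t2 ⟨_, hA⟩).1 h, (t1 ⟨_, hA⟩).2 h, (t2 ⟨_, hA⟩).2 h]
  have hT' : cT n = cT n' := by
    by_contra hne
    have key : ∀ i, ∃ a : Fin 24, sTw (cT n) i = sMul (sMul a (sTw (cT n') i)) (sInv a) ∧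
        (a : ℕ) = if cS n' = 0 then cA k % 24 else cB k % 24 := by
      intro i
      have h := hrel i
      rw [hS] at h
      split_ifs at h with hc
      · exact ⟨⟨_, hA⟩, (i1 _ _ (hlt _ _) (sMul_lt _ _) h).trans (hmod _ _), by simp [hc]⟩
      · exact ⟨⟨_, hB⟩, (i2 _ _ (hlt _ _) (sMul_lt _ _) h).trans (hmod _ _), by simp [hc]⟩
    obtain ⟨a, ha, ea⟩ := key 6
    obtain ⟨b, hb, eb⟩ := key 0
    obtain rfl : a = b := Fin.ext (ea.trans eb.symm)
    rcases (show (cT n = 0 ∧ cT n' = 1) ∨ (cT n = 1 ∧ cT n' = 0) by omega) with ⟨u, v⟩ | ⟨u, v⟩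
    · simp only [u, v, sTw, if_true, Nat.one_ne_zero, if_false] at ha hb
      have key' : ∀ a : Fin 24, sMul (sMul a (sDc 6)) (sInv a) ≠ 6 ∨ sMul (sMul a (sDc 0)) (sInv a) ≠ 0 := by
        decide +kernel
      rcases key' a with h | h
      exacts [h ha.symm, h hb.symm]
    · simp only [u, v, sTw, if_true, Nat.one_ne_zero, if_false] at ha hb
      rcases t3 a with h | h
      exacts [h ha.symm, h hb.symm]
  have hmod288 : n % 288 = n' % 288 := by
    refine Γ.S.inj _ _ hl.1 hl.2 ?_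
    rw [hk, hk, hS, hT'] at h
    exact mul_right_cancel h
  unfold cS at hS
  unfold cT at hT'
  omega

theorem el_surj [Finite G] {g : G} (hg : Commute g z) : ∃ n, n < 1152 ∧ Γ.F.el n = g := by
  let f : Fin 1152 → Subgroup.centralizer ({z} : Set G) := fun i =>
    ⟨Γ.F.el i, Subgroup.mem_centralizer_singleton_iff.mpr (Γ.el_comm_z i).eq⟩
  have hf : Function.Injective f := fun a b hab => Fin.ext (Γ.el_inj a.2 b.2 (congrArg Subtype.val hab))
  obtain ⟨i, hi⟩ := ((Nat.bijective_iff_injective_and_card f).mpr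
    ⟨hf, by rw [Γ.S.card_cent, Nat.card_fin]⟩).2 ⟨g, Subgroup.mem_centralizer_singleton_iff.mpr hg.eq⟩
  exact ⟨i, i.2, congrArg Subtype.val hi⟩

include Γ in
/-- The frame with reduced parameters. -/
theorem exists_reduced : ∃ Δ : GSetting z, Δ.F.m < 2 ∧ Δ.F.p < 2 ∧ Δ.F.c < 2 := by
  refine ⟨⟨{ Γ.F with
      m := Γ.F.m % 2
      p := Γ.F.p % 2
      c := Γ.F.c % 2
      w_sq := ?_
      r_sq := ?_
      r_w := ?_ }, Γ.S, Γ.pair_eq⟩, Nat.mod_lt _ (by norm_num), Nat.mod_lt _ (by norm_num), Nat.mod_lt _ (by norm_num)⟩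
  · rw [Γ.F.w_sq, Γ.F.z_pow_mod, Γ.F.z_pow_mod, Nat.mod_mod]
  · rw [Γ.F.r_sq, Γ.F.z_pow_mod, Γ.F.z_pow_mod, Nat.mod_mod]
  · rw [Γ.F.r_w, Γ.F.z_pow_mod Γ.F.c, Γ.F.z_pow_mod (Γ.F.c % 2), Nat.mod_mod]

include Γ in
theorem exists_real [Finite G] : Nonempty (Real z) := by
  obtain ⟨Δ, hm, hp, hc⟩ := Γ.exists_reduced
  clear Γ
  obtain ⟨Φ⟩ := Δ.S.exists_flip
  set F := Δ.F with hFd
  set q := mulP F.m F.p F.c with hqd
  set el := F.el with held
  have el_mul : ∀ a b, el (q a b) = el a * el b := F.el_mul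
  have hql : ∀ a b, q a b < 1152 := fun a b => mulP_lt _ _ _ a b
  have inj : ∀ {a b}, a < 1152 → b < 1152 → el a = el b → a = b := fun ha hb h => Δ.el_inj ha hb h
  have hk : ∀ {n}, n < 288 → Δ.S.P.kEl n = el n := fun hn => Δ.kEl_eq hn
  have hzp : Δ.S.zp = el 0 := hk (by norm_num)
  have el39 : el 39 = 1 := F.el_one
  have el183 : el 183 = z := F.el_z
  set g := Φ.g with hgd
  let Y : ℕ → G := fun c => g * el c * g⁻¹
  have hY : ∀ c ∈ cList, Δ.S.P.kEl c = el c := fun c hc => hk (Setting.cList_lt hc)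
  have hgz : g * z * g⁻¹ = el 0 := Φ.g_z.trans hzp
  have hgzp : g * el 0 * g⁻¹ = z := by rw [← hzp]; exact Φ.g_zp
  have eE : ∀ e ∈ eList, e < 288 ∧ e ∈ cList := by decide +kernel
  have Ymem : ∀ c ∈ cList, ∃ y, y < 1152 ∧ el y = Y c := fun c hc => by
    have h := Φ.mem_H c hc
    rw [hY c hc] at h
    exact Δ.el_surj h
  have Yzp : ∀ c ∈ cList, Y c * el 0 = el 0 * Y c := fun c hc => by
    show g * el c * g⁻¹ * el 0 = el 0 * (g * el c * g⁻¹)
    rw [← hgz]
    calc g * el c * g⁻¹ * (g * z * g⁻¹) = g * (el c * z) * g⁻¹ := by group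
      _ = g * (z * el c) * g⁻¹ := by rw [(Δ.el_comm_z c).eq]
      _ = _ := by group
  have cmem : ∀ c ∈ cList, ∀ x ∈ cList, ∃ e ∈ eList, el x * Y c = el e * (Y c * el x) := by
    intro c hc x hx
    obtain ⟨e, he, h⟩ := Φ.comm_mem c hc x hx
    rw [hY c hc, hY x hx, hk (eE e he).1] at h
    refine ⟨e, he, ?_⟩
    rw [← hgd] at h
    rw [← h]
    show el x * (g * el c * g⁻¹) =
      el x * (g * el c * g⁻¹) * (el x)⁻¹ * (g * el c * g⁻¹)⁻¹ * (g * el c * g⁻¹ * el x)
    group
  have yT : ∀ c ∈ cList, ∀ y, y < 1152 → el y = Y c → yTest F.m F.p F.c y = true := by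
    intro c hc y hy e
    simp only [yTest, ← hqd, Bool.and_eq_true, beq_iff_eq, List.all_eq_true, List.any_eq_true,
      List.contains_iff_mem]
    refine ⟨inj (hql _ _) (hql _ _) (by rw [el_mul, el_mul, e]; exact Yzp c hc), ?_, fun x hx => ?_⟩
    · have hsq : Y c * Y c = g * el (kMul c c) * g⁻¹ := by
        have hl := Setting.cList_lt hc
        rw [← hk (Pair.kMul_lt hl hl), Δ.S.P.kEl_mul' hl hl, hY c hc]
        show g * el c * g⁻¹ * (g * el c * g⁻¹) = _
        group
      rcases cx_facts c hc with h | ⟨-, -, h⟩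
      · have key : ∀ e ∈ eList, kMul e e = 39 := by decide +kernel
        rw [key c h, el39, mul_one, mul_inv_cancel] at hsq
        simp [inj (hql y y) (show 39 < 1152 by norm_num) (by rw [el_mul, e, hsq, el39])]
      · rcases h with h | h
        · rw [h, el39, mul_one, mul_inv_cancel] at hsq
          simp [inj (hql y y) (show 39 < 1152 by norm_num) (by rw [el_mul, e, hsq, el39])]
        · rw [h, el183, hgz] at hsq
          simp [inj (hql y y) (show 0 < 1152 by norm_num) (by rw [el_mul, e, hsq])]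
    · obtain ⟨i, hi, h⟩ := cmem c hc x hx
      exact ⟨i, hi, inj (hql _ _) (hql _ _) (by rw [el_mul, el_mul, el_mul, e]; exact h)⟩
  -- representatives in the two cosets
  have cov : ∀ s, (s = 576 ∨ s = 288) → ∃ c ∈ cList, ∃ y, y ∈ List.range' s 288 ∧ el y = Y c := by
    intro s hs
    obtain ⟨k, hk', c, hc, e⟩ := Φ.cover (el (s + 39)) (Δ.el_comm_z _)
    rw [hk hk', hY c hc, ← el_mul] at e
    refine ⟨c, hc, q (s + 39) k, ?_, e⟩
    have h1 : cS k = 0 := by unfold cS; omega
    have h2 : cT k = 0 := by unfold cT; omega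
    have b1 := cS_enc
    have hS : cS (q (s + 39) k) = cS (s + 39) % 2 := by
      simp only [hqd, mulP, cS_enc, h1, Nat.add_zero]
    have hT : cT (q (s + 39) k) = cT (s + 39) % 2 := by
      simp only [hqd, mulP, cT_enc, h2, Nat.add_zero]
    have := hql (s + 39) k
    rw [List.mem_range'_1]
    unfold cS at hS
    unfold cT at hT
    omega
  obtain ⟨cw, hcw, yw, hyw, eyw⟩ := cov 576 (Or.inl rfl)
  obtain ⟨cr, hcr, yr, hyr, eyr⟩ := cov 288 (Or.inr rfl)
  have hywl : 576 ≤ yw ∧ yw < 864 := by rw [List.mem_range'_1] at hyw; omega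
  have hyrl : 288 ≤ yr ∧ yr < 576 := by rw [List.mem_range'_1] at hyr; omega
  have Ymul : ∀ a ∈ cList, ∀ b ∈ cList, Y (kMul a b) = Y a * Y b := fun a ha b hb => by
    have la := Setting.cList_lt ha
    have lb := Setting.cList_lt hb
    show g * el (kMul a b) * g⁻¹ = _
    rw [← hk (Pair.kMul_lt la lb), Δ.S.P.kEl_mul' la lb, hY a ha, hY b hb]
    show _ = g * el a * g⁻¹ * (g * el b * g⁻¹)
    group
  have Ye : ∀ e ∈ eList, ∃ e' ∈ eList, Y e = el e' := by
    intro e he
    have h : e = 39 ∨ e = 183 ∨ e = 0 ∨ e = kMul 183 0 := by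
      have := c_facts.2.2.1
      simp only [eList, List.mem_cons, List.not_mem_nil, or_false] at he
      rcases he with h | h | h | h <;> omega
    have e144 : kMul 183 0 = 144 := c_facts.2.2.1
    rcases h with rfl | rfl | rfl | rfl
    · exact ⟨39, by decide, by show g * el 39 * g⁻¹ = _; rw [el39, mul_one, mul_inv_cancel]⟩
    · exact ⟨0, by decide, by show g * el 183 * g⁻¹ = _; rw [el183, hgz]⟩
    · exact ⟨183, by decide, by show g * el 0 * g⁻¹ = _; rw [hgzp, el183]⟩
    · refine ⟨144, by decide, ?_⟩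
      rw [Ymul 183 (by decide +kernel) 0 (by decide +kernel)]
      show g * el 183 * g⁻¹ * (g * el 0 * g⁻¹) = el 144
      rw [el183, hgz, hgzp, ← e144, ← hk (Pair.kMul_lt (by norm_num) (by norm_num)),
        Δ.S.P.kEl_mul' (by norm_num) (by norm_num), hk (by norm_num), hk (by norm_num), el183]
      exact (Δ.el_comm_z 0).eq
  have notE : ∀ c ∈ cList, ∀ y, y < 1152 → 288 ≤ y → el y = Y c → c ∈ cxList := by
    intro c hc y hy h288 e
    refine List.mem_filter.mpr ⟨hc, ?_⟩
    by_contra hce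
    have hce' : c ∈ eList := by simpa using hce
    obtain ⟨e', he', ee⟩ := Ye c hce'
    have := inj hy (by have := (eE e' he').1; omega) (e.trans ee)
    have := (eE e' he').1
    omega
  set c3 := kMul cw cr with hc3d
  have hc3 : c3 ∈ cList := by
    simpa using List.all_eq_true.mp (List.all_eq_true.mp c_facts.2.2.2.2.2.1 cw hcw) cr hcr
  have ey3 : el (q yw yr) = Y c3 := by rw [el_mul, eyw, eyr, ← Ymul cw hcw cr hcr]
  have h3l : 288 ≤ q yw yr := by
    have hs : cS yw = 1 ∧ cT yw = 0 ∧ cS yr = 0 ∧ cT yr = 1 := by unfold cS cT; omega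
    have hS : cS (q yw yr) = 1 := by simp only [hqd, mulP, cS_enc, hs.1, hs.2.2.1]
    unfold cS at hS
    omega
  have hxw := notE cw hcw yw (by omega) (by omega) eyw
  have hxr := notE cr hcr yr (by omega) (by omega) eyr
  have hx3 := notE c3 hc3 _ (hql _ _) h3l ey3
  obtain ⟨f1, f2, f3⟩ := coset_facts cw hxw cr hxr hx3
  have hlw := Setting.cList_lt hcw
  have hlr := Setting.cList_lt hcr
  have hsqY : ∀ c ∈ cList, ∀ y, y < 1152 → el y = Y c → (q y y = 39 ↔ kMul c c = 39) := by
    intro c hc y hy e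
    have hl := Setting.cList_lt hc
    have hh : el (q y y) = g * el (kMul c c) * g⁻¹ := by
      rw [el_mul, e, ← Ymul c hc c hc]
    constructor
    · intro h
      rw [h, el39] at hh
      have h1 : el (kMul c c) = el 39 := by
        rw [el39]; exact conj_eq_one_iff.mp hh.symm
      exact inj (by have := Pair.kMul_lt hl hl; omega) (by norm_num) h1
    · intro h
      exact inj (hql _ _) (by norm_num) (by rw [hh, h, el39, mul_one, mul_inv_cancel])
  -- decomposition of an element of the second subgroup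
  have decomp : ∀ c ∈ cxList, ∃ t ∈ [yw, yr, q yw yr], ∃ c₀ ∈ cList, ∃ e ∈ eList,
      el t = Y c₀ ∧ Y c = el e * el t ∧ (∀ x ∈ cList, Commute (el e) (el x)) ∧ kMul c c = kMul c₀ c₀ := by
    intro c hc
    have hcl : c ∈ cList := (List.mem_filter.mp hc).1
    obtain ⟨e, he, h⟩ := f3 c hcl
    have hnot : c ∉ eList := by simpa using (List.mem_filter.mp hc).2
    have sq : ∀ c₀ ∈ cList, c = kMul e c₀ → kMul c c = kMul c₀ c₀ := by
      have key : ∀ e ∈ eList, ∀ c₀ ∈ cList, kMul (kMul e c₀) (kMul e c₀) = kMul c₀ c₀ := by decide +kernel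
      intro c₀ h0 h'; rw [h']; exact key e he c₀ h0
    have ecomm : ∀ e' ∈ eList, ∀ x ∈ cList, Commute (el e') (el x) := by
      have key : ∀ e' ∈ eList, ∀ x ∈ cList, kMul e' x = kMul x e' := by decide +kernel
      intro e' he' x hx
      have l1 := (eE e' he').1
      have l2 := Setting.cList_lt hx
      show el e' * el x = el x * el e'
      rw [← hk l1, ← hk l2, ← Δ.S.P.kEl_mul' l1 l2, ← Δ.S.P.kEl_mul' l2 l1, key e' he' x hx]
    obtain ⟨e', he', ee⟩ := Ye e he
    rcases h with h | h | h | h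
    · exact absurd (h ▸ he) hnot
    · exact ⟨yw, by simp, cw, hcw, e', he', eyw, by rw [h, Ymul e (eE e he).2 cw hcw, ee, eyw],
        ecomm e' he', sq cw hcw h⟩
    · exact ⟨yr, by simp, cr, hcr, e', he', eyr, by rw [h, Ymul e (eE e he).2 cr hcr, ee, eyr],
        ecomm e' he', sq cr hcr h⟩
    · exact ⟨q yw yr, by simp, c3, hc3, e', he', ey3, by rw [h, Ymul e (eE e he).2 c3 hc3, ee, ey3],
        ecomm e' he', sq c3 hc3 h⟩
  have hl3 : ∀ t ∈ [yw, yr, q yw yr], t < 1152 := by
    intro t ht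
    have := hql yw yr
    simp only [List.mem_cons, List.not_mem_nil, or_false] at ht
    rcases ht with rfl | rfl | rfl <;> omega
  -- the pair conditions
  have hpair : pairB F.m F.p F.c yw yr = true := by
    simp only [pairB, ← hqd, Bool.and_eq_true, beq_iff_eq, List.all_eq_true, List.any_eq_true,
      Bool.not_eq_true', beq_eq_false_iff_ne]
    refine ⟨inj (hql _ _) (hql _ _) ?_, ?_, fun x hx => ?_⟩
    · rw [el_mul, el_mul, el_mul, eyw, eyr]
      have h1 : el (kMul cw cr) = z * el (kMul cr cw) := by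
        rw [f1]
        rw [← hk (Pair.kMul_lt (by norm_num) (Pair.kMul_lt hlr hlw)),
          Δ.S.P.kEl_mul' (by norm_num) (Pair.kMul_lt hlr hlw), Δ.S.P.kEl_z, hk (Pair.kMul_lt hlr hlw)]
      rw [← Ymul cw hcw cr hcr, ← Ymul cr hcr cw hcw, ← hgz]
      show g * el (kMul cw cr) * g⁻¹ = g * z * g⁻¹ * (g * el (kMul cr cw) * g⁻¹)
      rw [h1]; group
    · have b : ∀ c ∈ cList, ∀ y, y < 1152 → el y = Y c → (q y y == 39) = (kMul c c == 39) := fun c hc y hy e => by
        rw [Bool.eq_iff_iff, beq_iff_eq, beq_iff_eq]; exact hsqY c hc y hy e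
      rw [b cw hcw yw (by omega) eyw, b cr hcr yr (by omega) eyr, b c3 hc3 _ (hql _ _) ey3]
      simpa using f2
    · obtain ⟨hxl, hxe⟩ := List.mem_filter.mp hx
      have hxe' : x ∉ eList := by simpa using hxe
      set h := g⁻¹ * el x * g with hhd
      have hh0 : Commute h z := by
        have h0 := (Δ.S.cList_comm hxl).eq
        rw [hY x hxl, hk (show 0 < 288 by norm_num)] at h0
        show g⁻¹ * el x * g * z = z * (g⁻¹ * el x * g)
        calc g⁻¹ * el x * g * z = g⁻¹ * (el x * (g * z * g⁻¹)) * g := by group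
          _ = g⁻¹ * ((g * z * g⁻¹) * el x) * g := by rw [hgz, h0]
          _ = _ := by group
      have hhp : h * el 0 = el 0 * h := by
        calc g⁻¹ * el x * g * el 0 = g⁻¹ * (el x * (g * el 0 * g⁻¹)) * g := by group
          _ = g⁻¹ * ((g * el 0 * g⁻¹) * el x) * g := by rw [hgzp, (Δ.el_comm_z x).eq]
          _ = el 0 * (g⁻¹ * el x * g) := by group
      obtain ⟨n, hn, en⟩ := Δ.el_surj hh0
      change el n = h at en
      have key := List.all_eq_true.mp (hyp_all hm hp hc) n (List.mem_range.mpr hn)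
      simp only [← hqd, Bool.or_eq_true, Bool.not_eq_true', beq_eq_false_iff_ne, List.contains_iff_mem,
        List.any_eq_true, Bool.and_eq_true] at key
      have hcom0 : q n 0 = q 0 n := inj (hql _ _) (hql _ _) (by rw [el_mul, el_mul, en]; exact hhp)
      rcases key with (hk1 | hk1) | ⟨c, hc', hne1, hne2⟩
      · exact absurd hcom0 hk1
      · exfalso
        have hn288 : n < 288 := Pair.inQ_lt (by
          have key' : ∀ n ∈ qList, inQ n = true := by decide +kernel
          exact key' n hk1)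
        have hnc : n ∈ cList := Δ.S.mem_cList_of hn288 (by rw [hk hn288, hk (by norm_num), en]; exact hhp)
        have := Φ.inter_mem n hnc x (Setting.cList_lt hxl) (by
          rw [hY n hnc, hY x hxl, en, hhd, ← hgd]; group)
        exact hxe' this
      · have hcx : c ∈ cxList := by
          refine List.mem_filter.mpr ⟨hc', ?_⟩
          by_contra hce
          have hce' : c ∈ eList := by simpa using hce
          refine hne1 (inj (hql _ _) (hql _ _) ?_)
          rw [el_mul, el_mul, en]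
          have : el c = 1 ∨ el c = z ∨ el c = el 0 ∨ el c = z * el 0 := by
            simp only [eList, List.mem_cons, List.not_mem_nil, or_false] at hce'
            rcases hce' with rfl | rfl | rfl | rfl
            · exact Or.inl el39
            · exact Or.inr (Or.inl el183)
            · exact Or.inr (Or.inr (Or.inl rfl))
            · refine Or.inr (Or.inr (Or.inr ?_))
              rw [← hk (by norm_num : (144 : ℕ) < 288), Δ.S.kEl_144, hzp]
          rcases this with e | e | e | e <;> rw [e]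
          · simp
          · exact hh0.eq
          · exact hhp
          · rw [← mul_assoc, hh0.eq, mul_assoc, hhp, mul_assoc]
        obtain ⟨t, ht, c₀, hc₀, e, he, et, eY, ec, -⟩ := decomp c hcx
        have htl := hl3 t ht
        refine ⟨t, ht, fun hh1 => hne1 ?_, fun hh2 => hne2 ?_⟩
        · refine inj (hql _ _) (hql _ _) ?_
          have hxt : el x * el t = el t * el x := by rw [← el_mul, ← el_mul, hh1]
          have hxY : el x * Y c = Y c * el x := by
            rw [eY, ← mul_assoc, ← (ec x hxl).eq, mul_assoc, hxt, mul_assoc]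
          rw [el_mul, el_mul, en, hhd]
          calc g⁻¹ * el x * g * el c = g⁻¹ * (el x * Y c) * g := by
                show _ = g⁻¹ * (el x * (g * el c * g⁻¹)) * g
                group
            _ = g⁻¹ * (Y c * el x) * g := by rw [hxY]
            _ = _ := by show g⁻¹ * (g * el c * g⁻¹ * el x) * g = _; group
        · refine inj (hql _ _) (hql _ _) ?_
          have hxt : el x * el t = el 0 * (el t * el x) := by rw [← el_mul, ← el_mul, ← el_mul, hh2]
          have hxY : el x * Y c = el 0 * (Y c * el x) := by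
            have he0 : Commute (el e) (el 0) := ec 0 (by decide +kernel)
            calc el x * Y c = (el x * el e) * el t := by rw [eY, mul_assoc]
              _ = (el e * el 0) * (el t * el x) := by rw [← (ec x hxl).eq, mul_assoc, hxt, ← mul_assoc]
              _ = _ := by rw [he0.eq, eY]; simp only [mul_assoc]
          rw [el_mul, el_mul, el_mul, en, hhd, el183]
          calc g⁻¹ * el x * g * el c = g⁻¹ * (el x * Y c) * g := by
                show _ = g⁻¹ * (el x * (g * el c * g⁻¹)) * g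
                group
            _ = g⁻¹ * ((g * z * g⁻¹) * (Y c * el x)) * g := by rw [hxY, hgz]
            _ = _ := by show g⁻¹ * (g * z * g⁻¹ * (g * el c * g⁻¹ * el x)) * g = _; group
  have hywc : yw ∈ yCands F.m F.p F.c 576 :=
    List.mem_filter.mpr ⟨hyw, yT cw hcw yw (by omega) eyw⟩
  have hyrc : yr ∈ yCands F.m F.p F.c 288 :=
    List.mem_filter.mpr ⟨hyr, yT cr hcr yr (by omega) eyr⟩
  have hpar := List.all_eq_true.mp (List.all_eq_true.mp (param_all hm hp hc) yw hywc) yr hyrc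
  simp only [hpair, Bool.not_true, Bool.false_or, Bool.and_eq_true] at hpar
  obtain ⟨hpsi, hmir⟩ := hpar
  simp only [psiB, ← hqd, List.all_eq_true, Bool.or_eq_true, beq_iff_eq, Bool.not_eq_true',
    beq_eq_false_iff_ne] at hpsi
  have psi : ∀ x ∈ cxList, ∀ c ∈ cxList, kMul x x ≠ 39 → kMul c c = 39 →
      el x * Y c ≠ el 0 * (Y c * el x) := by
    intro x hx c hc' hx2 hc2 hcon
    have hxl := (List.mem_filter.mp hx).1
    obtain ⟨t, ht, c₀, hc₀, e, he, et, eY, ec, hsq⟩ := decomp c hc'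
    have htl := hl3 t ht
    have hlx := Setting.cList_lt hxl
    rcases hpsi x hx t ht with (h | h) | h
    · refine hx2 ?_
      refine inj (by have := Pair.kMul_lt hlx hlx; omega) (by norm_num) ?_
      rw [← hk (Pair.kMul_lt hlx hlx), Δ.S.P.kEl_mul' hlx hlx, hk hlx, ← el_mul, h]
    · exact h ((hsqY c₀ hc₀ t htl et).mpr (hsq ▸ hc2))
    · refine h (inj (hql _ _) (hql _ _) ?_)
      rw [el_mul, el_mul, el_mul]
      have he0 : Commute (el e) (el 0) := ec 0 (by decide +kernel)
      have h1 : el e * (el x * el t) = el e * (el 0 * (el t * el x)) := by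
        calc el e * (el x * el t) = el x * Y c := by rw [eY, ← mul_assoc, (ec x hxl).eq, mul_assoc]
          _ = el 0 * (Y c * el x) := hcon
          _ = _ := by rw [eY, ← mul_assoc (el e) (el 0), he0.eq]; simp only [mul_assoc]
      exact mul_left_cancel h1
  have hg2z : Commute (g * g) z := by
    have h0 : g * g * z * (g * g)⁻¹ = z := by
      calc g * g * z * (g * g)⁻¹ = g * (g * z * g⁻¹) * g⁻¹ := by group
        _ = z := by rw [hgz, hgzp]
    exact mul_inv_eq_iff_eq_mul.mp h0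
  have hg2p : (g * g) * el 0 * (g * g)⁻¹ = el 0 := by
    calc g * g * el 0 * (g * g)⁻¹ = g * (g * el 0 * g⁻¹) * g⁻¹ := by group
      _ = el 0 := by rw [hgzp, hgz]
  have hmirror : mirB F.m F.p F.c yw yr = true := by
    simp only [mirB, ← hqd, List.all_eq_true, Bool.or_eq_true, beq_iff_eq, Bool.not_eq_true',
      beq_eq_false_iff_ne]
    intro x hx t ht
    by_contra hnot
    push Not at hnot
    obtain ⟨⟨hx2, ht2⟩, hrel⟩ := hnot
    have hxl := (List.mem_filter.mp hx).1
    have hlx := Setting.cList_lt hxl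
    obtain ⟨c₀, hc₀, et, hne0⟩ : ∃ c₀ ∈ cList, el t = Y c₀ ∧ c₀ ∈ cxList := by
      simp only [List.mem_cons, List.not_mem_nil, or_false] at ht
      rcases ht with rfl | rfl | rfl
      exacts [⟨cw, hcw, eyw, hxw⟩, ⟨cr, hcr, eyr, hxr⟩, ⟨c3, hc3, ey3, hx3⟩]
    have hl0 := Setting.cList_lt hc₀
    have hrel' : el x * Y c₀ = z * (Y c₀ * el x) := by
      rw [← et, ← el183, ← el_mul, ← el_mul, ← el_mul, hrel]
    -- conjugate by `g`
    obtain ⟨c', hc'Q, ec'⟩ := Δ.S.qSub_normal hg2z (x := Δ.S.P.kEl c₀) ⟨c₀, (Setting.mem_cList hc₀).1, rfl⟩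
    have hl' := Pair.inQ_lt hc'Q
    rw [hk hl', hk hl0] at ec'
    have hc'l : c' ∈ cList := by
      refine Δ.S.mem_cList_of hl' ?_
      rw [hk hl', hk (by norm_num), ec']
      have h0 := (Δ.S.cList_comm hc₀).eq
      rw [hk hl0, hk (by norm_num)] at h0
      show g * g * el c₀ * (g * g)⁻¹ * el 0 = el 0 * (g * g * el c₀ * (g * g)⁻¹)
      conv_lhs => arg 2; rw [← hg2p]
      conv_rhs => arg 1; rw [← hg2p]
      calc g * g * el c₀ * (g * g)⁻¹ * (g * g * el 0 * (g * g)⁻¹) = g * g * (el c₀ * el 0) * (g * g)⁻¹ := by group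
        _ = g * g * (el 0 * el c₀) * (g * g)⁻¹ := by rw [h0]
        _ = _ := by group
    have hc'x : c' ∈ cxList := by
      refine List.mem_filter.mpr ⟨hc'l, ?_⟩
      by_contra hce
      have hce' : c' ∈ eList := by simpa using hce
      have hcE : c₀ ∉ eList := by simpa using (List.mem_filter.mp hne0).2
      obtain ⟨i, hi, ei⟩ : ∃ i ∈ eList, (g * g)⁻¹ * el c' * (g * g) = el i := by
        have hi1 : (g * g)⁻¹ * z * (g * g) = z := by rw [(hg2z.inv_left).eq, inv_mul_cancel_right]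
        have hi2 : (g * g)⁻¹ * el 0 * (g * g) = el 0 := by
          conv_lhs => rw [← hg2p]
          group
        simp only [eList, List.mem_cons, List.not_mem_nil, or_false] at hce'
        rcases hce' with rfl | rfl | rfl | rfl
        · exact ⟨39, by decide, by rw [el39]; group⟩
        · exact ⟨183, by decide, by rw [el183, hi1]⟩
        · exact ⟨0, by decide, hi2⟩
        · refine ⟨144, by decide, ?_⟩
          rw [← hk (by norm_num : (144 : ℕ) < 288), Δ.S.kEl_144, hzp]
          calc (g * g)⁻¹ * (z * el 0) * (g * g) = ((g * g)⁻¹ * z * (g * g)) * ((g * g)⁻¹ * el 0 * (g * g)) := by group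
            _ = _ := by rw [hi1, hi2]
      refine hcE ?_
      have : c₀ = i := inj (by omega) (by have := (eE i hi).1; omega) (by rw [← ei, ec']; group)
      rw [this]; exact hi
    have hc'2 : kMul c' c' ≠ 39 := by
      intro h
      refine ht2 ((hsqY c₀ hc₀ t (hl3 t ht) et).mpr ?_)
      have e1 : el c' * el c' = 1 := by
        rw [← hk hl', ← Δ.S.P.kEl_mul' hl' hl', h, Δ.S.P.kEl_one]
      have e2 : el c₀ * el c₀ = 1 := by
        rw [ec'] at e1
        have : g * g * (el c₀ * el c₀) * (g * g)⁻¹ = 1 := by rw [← e1]; group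
        exact conj_eq_one_iff.mp this
      exact inj (by have := Pair.kMul_lt hl0 hl0; omega) (by norm_num)
        (by rw [← hk (Pair.kMul_lt hl0 hl0), Δ.S.P.kEl_mul' hl0 hl0, hk hl0, el39, e2])
    have hxk : kMul x x = 39 := by
      refine inj (by have := Pair.kMul_lt hlx hlx; omega) (by norm_num) ?_
      rw [← hk (Pair.kMul_lt hlx hlx), Δ.S.P.kEl_mul' hlx hlx, hk hlx, ← el_mul, hx2]
    refine psi c' hc'x x hx hc'2 hxk ?_
    have h5 : Y x * el c' = el 0 * (el c' * Y x) := by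
      rw [ec']
      show g * el x * g⁻¹ * (g * g * el c₀ * (g * g)⁻¹) = el 0 * (g * g * el c₀ * (g * g)⁻¹ * (g * el x * g⁻¹))
      rw [← hgz]
      calc g * el x * g⁻¹ * (g * g * el c₀ * (g * g)⁻¹) = g * (el x * Y c₀) * g⁻¹ := by
            show _ = g * (el x * (g * el c₀ * g⁻¹)) * g⁻¹; group
        _ = g * (z * (Y c₀ * el x)) * g⁻¹ := by rw [hrel']
        _ = _ := by show g * (z * (g * el c₀ * g⁻¹ * el x)) * g⁻¹ = _; group
    have hz0 : el 0 * el 0 = 1 := by
      rw [← hk (show 0 < 288 by norm_num), ← Δ.S.P.kEl_mul' (by norm_num) (by norm_num),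
        show kMul 0 0 = 39 by decide +kernel, Δ.S.P.kEl_one]
    rw [h5, ← mul_assoc (el 0) (el 0), hz0, one_mul]
  rw [hmirror] at hmir
  simp only [Bool.not_true, Bool.false_or, Bool.and_eq_true, beq_iff_eq] at hmir
  obtain ⟨⟨em, ep⟩, ec⟩ := hmir
  have qh : q = hMul := by funext a b; rw [hqd, em, ep, ec]; rfl
  -- involutions
  have hzc : ∀ c ∈ cxList, kMul c c = 39 → IsConj z (el c) := by
    intro c hc' h
    obtain ⟨hcl, hce⟩ := List.mem_filter.mp hc'
    have hne : c ≠ 39 ∧ c ≠ 183 := by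
      refine ⟨?_, ?_⟩ <;> (rintro rfl; simp [eList] at hce)
    have key := List.all_eq_true.mp zp_conj c (Pair.mem_qList (Setting.mem_cList hcl).1)
    simp only [h, beq_self_eq_true, Bool.not_true, Bool.false_or, Bool.or_eq_true, beq_iff_eq, hne.1, hne.2,
      false_or, List.any_eq_true, List.mem_range] at key
    obtain ⟨k, hk', ek⟩ := key
    have hl := Setting.cList_lt hcl
    have e := congrArg Δ.S.P.kEl ek
    rw [Δ.S.P.kEl_mul' (Pair.kMul_lt hk' hl) (Pair.kInv_lt hk'), Δ.S.P.kEl_mul' hk' hl, Δ.S.P.kEl_inv,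
      hk hk', hk hl, hk (show 0 < 288 by norm_num)] at e
    exact (isConj_iff.mpr ⟨g, hgz⟩).trans (isConj_iff.mpr ⟨el k, e⟩).symm
  have hr2 : q yr yr ≠ 39 := by
    have key := List.all_eq_true.mp r_coset_sq yr hyr
    rw [qh]
    simpa using key
  have cr2 : kMul cr cr ≠ 39 := fun h => hr2 ((hsqY cr hcr yr (by omega) eyr).mpr h)
  have w2 : kMul cw cw = 39 ∧ kMul c3 c3 = 39 := by
    rcases Decidable.em (kMul cw cw = 39) with a | a <;> rcases Decidable.em (kMul c3 c3 = 39) with b | b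
    · exact ⟨a, b⟩
    all_goals
      exfalso
      rw [← hc3d] at f2
      have n2 := beq_eq_false_iff_ne.mpr cr2
      rw [n2] at f2
      first
        | (rw [beq_eq_false_iff_ne.mpr a] at f2; cases h : (kMul c3 c3 == 39) <;> rw [h] at f2 <;> simp at f2)
        | (rw [beq_eq_false_iff_ne.mpr b] at f2; cases h : (kMul cw cw == 39) <;> rw [h] at f2 <;> simp at f2)
  have hconjw : IsConj z (el yw) ∧ IsConj z (el (q yw yr)) := by
    refine ⟨?_, ?_⟩
    · rw [eyw]; exact (hzc cw hxw w2.1).trans (isConj_iff.mpr ⟨g, rfl⟩)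
    · rw [ey3]; exact (hzc c3 hx3 w2.2).trans (isConj_iff.mpr ⟨g, rfl⟩)
  have invSame : ∀ n, n < 1152 → el n * el (hInv n) = 1 := by
    intro n hn
    have := List.all_eq_true.mp code_lt n (List.mem_range.mpr hn)
    simp only [Bool.and_eq_true, decide_eq_true_eq, beq_iff_eq] at this
    rw [← el_mul, qh, this.2, el39]
  have conjto : ∀ n, n < 1152 → hMul n n = 39 → n ≠ 39 → ∃ r ∈ invReps, IsConj (el r) (el n) ∧
      (cS r = cS n ∧ cT r = cT n) := by
    intro n hn h2 hne
    have key := inv_classes hn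
    simp only [invB2, h2, beq_self_eq_true, Bool.not_true, Bool.false_or, Bool.or_eq_true, beq_iff_eq, hne,
      false_or, List.contains_iff_mem, List.any_eq_true, List.mem_range] at key
    have hpar : ∀ k, k < 1152 → ∀ r, r = hMul (hMul k n) (hInv k) → cS r = cS n ∧ cT r = cT n := by
      intro k hk' r hr
      have hkk := List.all_eq_true.mp code_lt k (List.mem_range.mpr hk')
      simp only [Bool.and_eq_true, decide_eq_true_eq, beq_iff_eq] at hkk
      have a1 : cS (hMul k (hInv k)) = cS 39 ∧ cT (hMul k (hInv k)) = cT 39 := by rw [hkk.2]; exact ⟨rfl, rfl⟩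
      have hb : cS k < 2 ∧ cT k < 2 ∧ cS (hInv k) < 2 ∧ cT (hInv k) < 2 ∧ cS n < 2 ∧ cT n < 2 := by
        unfold cS cT; omega
      subst hr
      simp only [hMul, mulP, cS_enc, cT_enc] at a1 ⊢
      rw [show cS 39 = 0 from rfl, show cT 39 = 0 from rfl] at a1
      omega
    rcases key with h | ⟨k, hk', h⟩
    · exact ⟨n, h, IsConj.refl _, rfl, rfl⟩
    · refine ⟨_, h, isConj_iff.mpr ⟨(el k)⁻¹, ?_⟩, hpar k hk' _ rfl⟩
      have e1 : el (hMul (hMul k n) (hInv k)) = el k * el n * el (hInv k) := by rw [← qh, el_mul, el_mul]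
      have e2 : el (hInv k) = (el k)⁻¹ := (inv_eq_of_mul_eq_one_right (invSame k hk')).symm
      rw [e1, e2]; group
  have hreps : ∀ r ∈ invReps, IsConj z (el r) := by
    intro r hr
    simp only [invReps, List.mem_cons, List.not_mem_nil, or_false] at hr
    rcases hr with rfl | rfl | rfl | rfl
    · rw [el183]
    · exact isConj_iff.mpr ⟨g, hgz⟩
    · have hw39 : yw ≠ 39 := by omega
      have hw2' : hMul yw yw = 39 := by rw [← qh]; exact (hsqY cw hcw yw (by omega) eyw).mpr w2.1
      obtain ⟨r', hr', hc', hS, hT⟩ := conjto yw (by omega) hw2' hw39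
      have hST : cS yw = 1 ∧ cT yw = 0 := by unfold cS cT; omega
      have : r' = 615 := by
        rw [hST.1] at hS; rw [hST.2] at hT
        simp only [invReps, List.mem_cons, List.not_mem_nil, or_false] at hr'
        rcases hr' with rfl | rfl | rfl | rfl <;> first | rfl | (exfalso; revert hS hT; decide +kernel)
      rw [this] at hc'
      exact hconjw.1.trans hc'.symm
    · have h39 : q yw yr ≠ 39 := by omega
      have h2' : hMul (q yw yr) (q yw yr) = 39 := by
        rw [← qh]; exact (hsqY c3 hc3 _ (hql _ _) ey3).mpr w2.2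
      obtain ⟨r', hr', hc', hS, hT⟩ := conjto _ (hql _ _) h2' h39
      have hy : cS yw = 1 ∧ cT yw = 0 ∧ cS yr = 0 ∧ cT yr = 1 := by unfold cS cT; omega
      have hST : cS (q yw yr) = 1 ∧ cT (q yw yr) = 1 := by
        constructor
        · simp only [hqd, mulP, cS_enc, hy.1, hy.2.2.1]
        · simp only [hqd, mulP, cT_enc, hy.2.1, hy.2.2.2]
      have : r' = 903 := by
        rw [hST.1] at hS; rw [hST.2] at hT
        simp only [invReps, List.mem_cons, List.not_mem_nil, or_false] at hr'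
        rcases hr' with rfl | rfl | rfl | rfl <;> first | rfl | (exfalso; revert hS hT; decide +kernel)
      rw [this] at hc'
      exact hconjw.2.trans hc'.symm
  exact ⟨{
    el := el
    map_mul := fun a b => by rw [← el_mul, qh]
    map_z := el183
    inj := fun a b ha hb => inj ha hb
    surj := fun g hg => Δ.el_surj hg
    ord := Δ.S.ord
    card_cent := Δ.S.card_cent
    one_class := fun n hn h2 hne => by
      obtain ⟨r', hr', hc', -⟩ := conjto n hn h2 hne
      exact (hreps r' hr').trans hc' }⟩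

end GSetting

theorem exists_real_of_setting [Finite G] (S : Setting z) : Nonempty (Real z) := by
  obtain ⟨Γ⟩ := S.exists_gSetting
  exact Γ.exists_real

end CfsgLib.UFourThree
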