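import Cfsg.Agent.Lib.UFourThree.Relabel

/-!
The outer elements of the centraliser: an exchanging element and a diagonal one.
-/

set_option autoImplicit false
set_option maxRecDepth 100000
set_option Elab.async false

namespace CfsgLib.UFourThree

/-- The diagonal automorphism on the first coordinate only. -/
def tauCode (n : ℕ) : ℕ := enc (sDc (cA n)) (cB n) 0 0

/-- The test that an element acting as `tauCode` after a code is compatible with a flip. -/
def tenB (k : ℕ) : Bool :=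
  tauCode (kMul (kMul k 0) (kInv k)) == 0 &&
    cList.all fun c => eList.contains (kMul c (tauCode (kMul (kMul k (kInv c)) (kInv k))))

theorem ten_false : ((List.range 288).all fun k => !tenB k) = true := by decide +kernel

variable {G : Type*} [Group G] {z : G}

namespace Setting

variable (S : Setting z)

/-- No element induces an outer automorphism on one copy only. -/
theorem no_ten [Finite G] {h : G} (hh : Commute h z)
    (h1 : ∀ a, h * S.P.fst.toFun a * h⁻¹ = S.P.fst.toFun (sDc a))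
    (h2 : ∀ a, h * S.P.snd.toFun a * h⁻¹ = S.P.snd.toFun a) : False := by
  obtain ⟨F⟩ := S.exists_flip
  obtain ⟨k, hk, c, hc, e⟩ := F.cover h hh
  have hact : ∀ n, n < 288 → h * S.P.kEl n * h⁻¹ = S.P.kEl (tauCode n) := by
    intro n _
    rw [tauCode, S.P.kEl_enc]
    show h * (S.P.fst.toFun (cA n) * S.P.snd.toFun (cB n)) * h⁻¹ = _
    calc _ = (h * S.P.fst.toFun (cA n) * h⁻¹) * (h * S.P.snd.toFun (cB n) * h⁻¹) := by group
      _ = _ := by rw [h1, h2]
  have hki := Pair.kInv_lt hk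
  have h0 : tauCode (kMul (kMul k 0) (kInv k)) = 0 := by
    refine S.inj _ _ (Pair.enc_lt_of_zero _ _) (by norm_num) ?_
    rw [← hact _ (Pair.kMul_lt (Pair.kMul_lt hk (by norm_num)) hki),
      S.P.kEl_mul' (Pair.kMul_lt hk (by norm_num)) hki, S.P.kEl_mul' hk (by norm_num), S.P.kEl_inv]
    calc h * (S.P.kEl k * S.P.kEl 0 * (S.P.kEl k)⁻¹) * h⁻¹
        = (h * S.P.kEl k) * S.P.kEl 0 * (h * S.P.kEl k)⁻¹ := by group
      _ = (F.g * S.P.kEl c * F.g⁻¹) * S.zp * (F.g * S.P.kEl c * F.g⁻¹)⁻¹ := by rw [e]; rfl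
      _ = F.g * (S.P.kEl c * z * (S.P.kEl c)⁻¹) * F.g⁻¹ := by rw [← F.g_z]; group
      _ = S.P.kEl 0 := by rw [(S.kEl_comm_z c).eq, mul_inv_cancel_right, F.g_z]; rfl
  have key := List.all_eq_true.mp ten_false k (List.mem_range.mpr hk)
  have hall : (cList.all fun c' => eList.contains
      (kMul c' (tauCode (kMul (kMul k (kInv c')) (kInv k))))) = true := by
    rw [List.all_eq_true]
    intro c' hc'
    have hl := cList_lt hc'
    have hli := Pair.kInv_lt hl
    obtain ⟨i, hi, ei⟩ := F.comm_mem c hc c' hc'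
    rw [List.contains_iff_mem]
    have hm := Pair.kMul_lt (Pair.kMul_lt hk hli) hki
    have hl' : ∀ x ∈ eList, x < 288 := by decide
    convert hi using 1
    have ht : tauCode (kMul (kMul k (kInv c')) (kInv k)) < 288 := Pair.enc_lt_of_zero _ _
    refine S.inj _ _ (Pair.kMul_lt hl ht) (hl' i hi) ?_
    rw [S.P.kEl_mul' hl ht, ← hact _ hm, S.P.kEl_mul' (Pair.kMul_lt hk hli) hki,
      S.P.kEl_mul' hk hli, S.P.kEl_inv, S.P.kEl_inv, ← ei, ← e]
    group
  simp only [tenB, h0, beq_self_eq_true, Bool.true_and, hall, Bool.not_true, Bool.false_eq_true] at key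

include S in
/-- A pair of codes covers at most `2 · 288` elements. -/
theorem not_two_cosets [Finite G] (w : G)
    (h : ∀ g, Commute g z → ∃ k, k < 288 ∧ (g = S.P.kEl k ∨ g = w * S.P.kEl k)) : False := by
  let f : Fin 2 × Fin 288 → G := fun p => if p.1 = 0 then S.P.kEl p.2 else w * S.P.kEl p.2
  have h1 : Nat.card (Subgroup.centralizer ({z} : Set G)) ≤ Nat.card (Set.range f) := by
    refine Nat.card_le_card_of_injective (fun g => ⟨(g : G), ?_⟩)
      (fun a b hab => Subtype.ext (congrArg (fun v : Set.range f => (v : G)) hab))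
    obtain ⟨k, hk, e | e⟩ := h g (Subgroup.mem_centralizer_singleton_iff.mp g.2)
    · exact ⟨(0, ⟨k, hk⟩), e.symm⟩
    · exact ⟨(1, ⟨k, hk⟩), e.symm⟩
  have h2 : Nat.card (Set.range f) ≤ 576 := by
    have := Nat.card_le_card_of_surjective (fun p => (⟨f p, p, rfl⟩ : Set.range f))
      (by rintro ⟨v, p, rfl⟩; exact ⟨p, rfl⟩)
    rwa [Nat.card_prod, Nat.card_fin, Nat.card_fin] at this
  rw [S.card_cent] at h1
  omega

/-- An element fixing both copies acts diagonally on both, up to the central product. -/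
theorem fix_cases [Finite G] {h : G} (hh : Commute h z) (hfix : Into (S.P.fst.conj h hh) S.P.fst ∧
    Into (S.P.snd.conj h hh) S.P.snd) :
    (∃ k, k < 288 ∧ h = S.P.kEl k) ∨
    (∃ k, k < 288 ∧ (∀ a, ((S.P.kEl k)⁻¹ * h) * S.P.fst.toFun a * ((S.P.kEl k)⁻¹ * h)⁻¹ = S.P.fst.toFun (sDc a)) ∧
      ∀ a, ((S.P.kEl k)⁻¹ * h) * S.P.snd.toFun a * ((S.P.kEl k)⁻¹ * h)⁻¹ = S.P.snd.toFun (sDc a)) := by
  obtain ⟨k, t, s, hk, ht, hs, e1, e2⟩ := S.exists_standard hh hfix
  have hc : Commute ((S.P.kEl k)⁻¹ * h) z := (S.kEl_comm_z k).inv_left.mul_left hh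
  interval_cases t <;> interval_cases s <;>
    simp only [sTw, if_true, Nat.one_ne_zero, if_false, S.P.fst.map_mod, S.P.snd.map_mod] at e1 e2
  · left
    rcases S.eq_one_or_z hc e1 e2 with e | e
    · exact ⟨k, hk, (inv_mul_eq_one.mp e).symm⟩
    · refine ⟨kMul k 183, Pair.kMul_lt hk (by norm_num), ?_⟩
      rw [S.P.kEl_mul' hk (by norm_num), S.P.kEl_z]
      exact inv_mul_eq_iff_eq_mul.mp e
  · exfalso
    have hinj : S.P.swap.Inj := by
      intro n m hn hm e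
      have h' : S.P.kEl (enc (cB n) (cA n) 0 0) = S.P.kEl (enc (cB m) (cA m) 0 0) := by
        rw [S.P.kEl_enc, S.P.kEl_enc, (S.P.comm _ _).eq, (S.P.comm (cB m) (cA m)).eq]; exact e
      have h'' := S.inj _ _ (Pair.enc_lt_of_zero _ _) (Pair.enc_lt_of_zero _ _) h'
      have a1 := congrArg cA h''
      have a2 := congrArg cB h''
      rw [cA_enc, cA_enc] at a1
      rw [cB_enc, cB_enc] at a2
      unfold sNeg at a1 a2
      have hlt : cA n < 24 ∧ cA m < 24 ∧ cB n < 12 ∧ cB m < 12 := by unfold cA cB; omega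
      have hnm : n = 12 * cA n + cB n ∧ m = 12 * cA m + cB m := by unfold cA cB; omega
      generalize cA n = p at *
      generalize cA m = p' at *
      generalize cB n = q at *
      generalize cB m = q' at *
      split_ifs at a1 a2 <;> omega
    obtain ⟨S', hS'⟩ := S.exists_withPair S.P.swap hinj (fun n _ =>
      ⟨enc (cB n) (cA n) 0 0, Pair.enc_lt_of_zero _ _, by rw [S.P.kEl_enc, (S.P.comm _ _).eq]; rfl⟩)
    exact S'.no_ten hc (by rw [hS']; exact e2) (by rw [hS']; exact e1)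
  · exact absurd (S.no_ten hc e1 e2) not_false
  · exact Or.inr ⟨k, hk, e1, e2⟩

theorem exists_swap [Finite G] : ∃ w, ∃ hw : Commute w z, Into (S.P.fst.conj w hw) S.P.snd ∧
    Into (S.P.snd.conj w hw) S.P.fst := by
  by_contra hno
  push Not at hno
  have hfix : ∀ g (hg : Commute g z), Into (S.P.fst.conj g hg) S.P.fst ∧ Into (S.P.snd.conj g hg) S.P.snd :=
    fun g hg => (S.fix_or_swap hg).resolve_right fun h => hno g hg h.1 h.2
  by_cases hex : ∃ r, Commute r z ∧ (∀ a, r * S.P.fst.toFun a * r⁻¹ = S.P.fst.toFun (sDc a)) ∧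
      ∀ a, r * S.P.snd.toFun a * r⁻¹ = S.P.snd.toFun (sDc a)
  · obtain ⟨r, hr, r1, r2⟩ := hex
    refine S.not_two_cosets r fun g hg => ?_
    rcases S.fix_cases hg (hfix g hg) with ⟨k, hk, e⟩ | ⟨k, hk, e1, e2⟩
    · exact ⟨k, hk, Or.inl e⟩
    · set g' := (S.P.kEl k)⁻¹ * g with hg'
      have hc : Commute g' z := (S.kEl_comm_z k).inv_left.mul_left hg
      have hdd : ∀ (e : SCopy z) a, e.toFun (sDc (sDc a)) = e.toFun a := fun e a => by
        have h := (table_ops ⟨a % 24, Nat.mod_lt _ (by norm_num)⟩).2.2.2.2.2.2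
        have h' : sDc (sDc a) = a % 24 := by simpa [sDc, Nat.mod_mod] using h
        rw [h', e.map_mod]
      have c1 : ∀ a, (r⁻¹ * g') * S.P.fst.toFun a * (r⁻¹ * g')⁻¹ = S.P.fst.toFun a := fun a => by
        calc (r⁻¹ * g') * S.P.fst.toFun a * (r⁻¹ * g')⁻¹ = r⁻¹ * (g' * S.P.fst.toFun a * g'⁻¹) * r := by group
          _ = r⁻¹ * (r * S.P.fst.toFun a * r⁻¹) * r := by rw [e1, r1]
          _ = _ := by group
      have c2 : ∀ a, (r⁻¹ * g') * S.P.snd.toFun a * (r⁻¹ * g')⁻¹ = S.P.snd.toFun a := fun a => by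
        calc (r⁻¹ * g') * S.P.snd.toFun a * (r⁻¹ * g')⁻¹ = r⁻¹ * (g' * S.P.snd.toFun a * g'⁻¹) * r := by group
          _ = r⁻¹ * (r * S.P.snd.toFun a * r⁻¹) * r := by rw [e2, r2]
          _ = _ := by group
      obtain ⟨k', hk', ek'⟩ : ∃ k', k' < 288 ∧ r⁻¹ * g' = S.P.kEl k' := by
        rcases S.eq_one_or_z (hr.inv_left.mul_left hc) c1 c2 with e | e
        · exact ⟨39, by norm_num, e.trans S.P.kEl_one.symm⟩
        · exact ⟨183, by norm_num, e.trans S.P.kEl_z.symm⟩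
      obtain ⟨k'', hk'', ek''⟩ := S.conjK r⁻¹ hr.inv_left k hk
      refine ⟨kMul k'' k', Pair.kMul_lt hk'' hk', Or.inr ?_⟩
      rw [S.P.kEl_mul' hk'' hk', ← ek', ← ek'', hg']
      group
  · refine S.not_two_cosets 1 fun g hg => ?_
    rcases S.fix_cases hg (hfix g hg) with ⟨k, hk, e⟩ | ⟨k, hk, e1, e2⟩
    · exact ⟨k, hk, Or.inl e⟩
    · exact absurd ⟨_, (S.kEl_comm_z k).inv_left.mul_left hg, e1, e2⟩ hex

theorem exists_diag [Finite G] : ∃ r, Commute r z ∧ (∀ a, r * S.P.fst.toFun a * r⁻¹ = S.P.fst.toFun (sDc a)) ∧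
      ∀ a, r * S.P.snd.toFun a * r⁻¹ = S.P.snd.toFun (sDc a) := by
  obtain ⟨w, hw, hw1, hw2⟩ := S.exists_swap
  by_contra hex
  have hfixK : ∀ g (hg : Commute g z), Into (S.P.fst.conj g hg) S.P.fst ∧ Into (S.P.snd.conj g hg) S.P.snd →
      ∃ k, k < 288 ∧ g = S.P.kEl k := fun g hg hf =>
    (S.fix_cases hg hf).resolve_right fun ⟨k, hk, e1, e2⟩ =>
      hex ⟨_, (S.kEl_comm_z k).inv_left.mul_left hg, e1, e2⟩
  have himg : ∀ (e f : SCopy z), e.Inj → f.Inj → Into e f → ∀ i, ∃ j, e.toFun i = f.toFun j := by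
    intro e f he hf hin i
    obtain ⟨a, t, -, -, ha⟩ := f.exists_twist e hf he hin.1 hin.2
    refine ⟨sMul (sMul a (sTw t i)) (sInv a), ?_⟩
    rw [ha, f.map_mul, f.map_mul, f.map_inv]; rfl
  refine S.not_two_cosets w fun g hg => ?_
  rcases S.fix_or_swap hg with hf | ⟨hs1, hs2⟩
  · obtain ⟨k, hk, e⟩ := hfixK g hg hf
    exact ⟨k, hk, Or.inl e⟩
  · have hwg : Commute (w⁻¹ * g) z := hw.inv_left.mul_left hg
    have hpre : ∀ (e f : SCopy z), e.Inj → f.Inj → Into (e.conj w hw) f → ∀ j, ∃ i,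
        w⁻¹ * f.toFun j * w = e.toFun i := by
      intro e f he hf hin j
      obtain ⟨a, t, -, ht, ha⟩ := f.exists_twist _ hf (conj_inj he hw) hin.1 hin.2
      refine ⟨sTw t (sMul (sMul (sInv a) j) a), ?_⟩
      have htt : sTw t (sTw t (sMul (sMul (sInv a) j) a)) = sMul (sMul (sInv a) j) a := by
        have hl := sMul_lt (sMul (sInv a) j) a
        unfold sTw
        split_ifs
        · rw [Nat.mod_mod, Nat.mod_eq_of_lt hl]
        · exact (table_ops ⟨_, hl⟩).2.2.2.2.2.2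
      have h := ha (sTw t (sMul (sMul (sInv a) j) a))
      change w * e.toFun _ * w⁻¹ = f.toFun a * f.toFun (sTw t (sTw t _)) * (f.toFun a)⁻¹ at h
      rw [htt, f.map_mul, f.map_mul, f.map_inv] at h
      calc w⁻¹ * f.toFun j * w = w⁻¹ * (f.toFun a * ((f.toFun a)⁻¹ * f.toFun j * f.toFun a) * (f.toFun a)⁻¹) * w := by
            group
        _ = w⁻¹ * (w * e.toFun (sTw t (sMul (sMul (sInv a) j) a)) * w⁻¹) * w := by rw [← h]
        _ = _ := by group
    have hinto : ∀ (e m f : SCopy z), e.Inj → m.Inj → f.Inj → Into (e.conj g hg) m → Into (f.conj w hw) m →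
        Into (e.conj (w⁻¹ * g) hwg) f := by
      intro e m f he hm hf h1 h2
      have hx : ∀ i, ∃ j, (e.conj (w⁻¹ * g) hwg).toFun i = f.toFun j := by
        intro i
        obtain ⟨p, hp⟩ := himg _ _ (conj_inj he hg) hm h1 i
        obtain ⟨q, hq⟩ := hpre f m hf hm h2 p
        refine ⟨q, ?_⟩
        rw [← hq, ← hp]
        show (w⁻¹ * g) * e.toFun i * (w⁻¹ * g)⁻¹ = w⁻¹ * (g * e.toFun i * g⁻¹) * w
        group
      exact ⟨hx 6, hx 0⟩
    obtain ⟨k, hk, e⟩ := hfixK _ hwg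
      ⟨hinto _ _ _ (S.P.fst_inj S.inj) (S.P.snd_inj S.inj) (S.P.fst_inj S.inj) hs1 hw1,
       hinto _ _ _ (S.P.snd_inj S.inj) (S.P.fst_inj S.inj) (S.P.snd_inj S.inj) hs2 hw2⟩
    exact ⟨k, hk, Or.inr (inv_mul_eq_iff_eq_mul.mp e)⟩

end Setting

/-- A frame labelling the whole centraliser. -/
structure GSetting (z : G) where
  /-- The frame. -/
  F : GFrame z
  /-- The setting with the pair of the frame. -/
  S : Setting z
  pair_eq : S.P = F.pair

/-- The existence of a frame. -/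
theorem Setting.exists_gSetting [Finite G] (S : Setting z) : Nonempty (GSetting z) := by
  obtain ⟨w₀, hw₀, hw1, -⟩ := S.exists_swap
  -- the square of an exchanging element lies in the central product
  obtain ⟨Φ⟩ := S.exists_flip
  obtain ⟨j, hj, c, hc, ej⟩ := Φ.cover w₀ hw₀
  obtain ⟨j', hj', ej'⟩ := S.conjK w₀⁻¹ hw₀.inv_left j hj
  have hsq : ∃ n, n < 288 ∧ w₀ * w₀ = S.P.kEl n := by
    have hcc : ∃ e, e < 288 ∧ (Φ.g * S.P.kEl c * Φ.g⁻¹) * (Φ.g * S.P.kEl c * Φ.g⁻¹) = S.P.kEl e := by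
      have key : ∀ x ∈ cList, kMul x x = 39 ∨ kMul x x = 183 := by decide +kernel
      have hl := Setting.cList_lt hc
      rw [show Φ.g * S.P.kEl c * Φ.g⁻¹ * (Φ.g * S.P.kEl c * Φ.g⁻¹) = Φ.g * (S.P.kEl c * S.P.kEl c) * Φ.g⁻¹ by group,
        ← S.P.kEl_mul' hl hl]
      rcases key c hc with e | e
      · exact ⟨39, by norm_num, by rw [e, S.P.kEl_one, mul_one, mul_inv_cancel]⟩
      · exact ⟨0, by norm_num, by rw [e, S.P.kEl_z, Φ.g_z]; rfl⟩
    obtain ⟨e, he, ee⟩ := hcc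
    rw [← ej] at ee
    refine ⟨kMul (kMul e (kInv j)) (kInv j'), Pair.kMul_lt (Pair.kMul_lt he (Pair.kInv_lt hj)) (Pair.kInv_lt hj'), ?_⟩
    rw [S.P.kEl_mul' (Pair.kMul_lt he (Pair.kInv_lt hj)) (Pair.kInv_lt hj'), S.P.kEl_mul' he (Pair.kInv_lt hj),
      ← ee, S.P.kEl_inv, S.P.kEl_inv, ← ej']
    group
  have i1 := S.P.fst_inj S.inj
  have i2 := S.P.snd_inj S.inj
  obtain ⟨a₀, t₀, -, -, ha₀⟩ := S.P.snd.exists_twist _ i2 (Setting.conj_inj i1 hw₀) hw1.1 hw1.2
  -- relabel with the exchanged copy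
  have himg : ∀ i, ∃ q, (S.P.fst.conj w₀ hw₀).toFun i = S.P.snd.toFun q := fun i => by
    refine ⟨sMul (sMul a₀ (sTw t₀ i)) (sInv a₀), ?_⟩
    rw [ha₀, S.P.snd.map_mul, S.P.snd.map_mul, S.P.snd.map_inv]; rfl
  let P₁ : Pair z :=
    { fst := S.P.fst
      snd := S.P.fst.conj w₀ hw₀
      comm := fun a b => by obtain ⟨q, hq⟩ := himg b; rw [hq]; exact S.P.comm a q }
  have hP₁ : P₁.Inj := by
    intro n m hn hm e
    obtain ⟨q, hq⟩ := himg (cB n)
    obtain ⟨q', hq'⟩ := himg (cB m)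
    have e' : S.P.kEl (enc (cA n) q 0 0) = S.P.kEl (enc (cA m) q' 0 0) := by
      rw [S.P.kEl_enc, S.P.kEl_enc, ← hq, ← hq']; exact e
    have e'' := S.inj _ _ (Pair.enc_lt_of_zero _ _) (Pair.enc_lt_of_zero _ _) e'
    have a1 := congrArg cA e''
    have a2 := congrArg cB e''
    rw [cA_enc, cA_enc] at a1
    rw [cB_enc, cB_enc] at a2
    have hlt : cA n < 24 ∧ cA m < 24 ∧ cB n < 12 ∧ cB m < 12 := by unfold cA cB; omega
    have same : cA n = cA m → n = m := by
      intro h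
      have h2 : (S.P.fst.conj w₀ hw₀).toFun (cB n) = (S.P.fst.conj w₀ hw₀).toFun (cB m) :=
        mul_left_cancel (a := S.P.fst.toFun (cA m)) (by
          have e0 : S.P.fst.toFun (cA n) * (S.P.fst.conj w₀ hw₀).toFun (cB n) =
            S.P.fst.toFun (cA m) * (S.P.fst.conj w₀ hw₀).toFun (cB m) := e
          rw [h] at e0; exact e0)
      have := Setting.conj_inj i1 hw₀ _ _ (by omega) (by omega) h2
      unfold cA at h; unfold cB at this; omega
    by_cases h : cA n = cA m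
    · exact same h
    · exfalso
      have h2 : S.P.fst.toFun (cA n) = z * S.P.fst.toFun (cA m) := by
        have : cA n = sNeg (cA m) := by unfold sNeg at a1 ⊢; split_ifs at a1 <;> omega
        rw [this, S.P.fst.map_neg]
      have h3 : z * (S.P.fst.conj w₀ hw₀).toFun (cB n) = (S.P.fst.conj w₀ hw₀).toFun (cB m) := by
        have e1 : z * S.P.fst.toFun (cA m) * (S.P.fst.conj w₀ hw₀).toFun (cB n) =
            S.P.fst.toFun (cA m) * (S.P.fst.conj w₀ hw₀).toFun (cB m) := by rw [← h2]; exact e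
        rw [(S.P.fst.z_comm _).eq, mul_assoc] at e1
        exact mul_left_cancel e1
      rw [← SCopy.map_neg] at h3
      have hl : sNeg (cB n) < 24 := by unfold sNeg; omega
      have := Setting.conj_inj i1 hw₀ _ _ hl (by omega) h3
      unfold sNeg at this
      omega
  obtain ⟨S₁, hS₁⟩ := S.exists_withPair P₁ hP₁ fun n _ => by
    obtain ⟨q, hq⟩ := himg (cB n)
    exact ⟨enc (cA n) q 0 0, Pair.enc_lt_of_zero _ _, by rw [S.P.kEl_enc, ← hq]; rfl⟩
  -- a square in the centre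
  obtain ⟨n, hn, en⟩ := hsq
  obtain ⟨n₁, hn₁, en₁⟩ : ∃ n₁, n₁ < 288 ∧ w₀ * w₀ = S₁.P.kEl n₁ := by
    have hex : ∀ i : Fin 288, ∃ m, m < 288 ∧ S₁.P.kEl i = S.P.kEl m := fun i => by
      obtain ⟨q, hq⟩ := himg (cB i.val)
      exact ⟨enc (cA i.val) q 0 0, Pair.enc_lt_of_zero _ _, by rw [hS₁, S.P.kEl_enc, ← hq]; rfl⟩
    choose φ hlt heq using hex
    have hφ : Function.Injective (fun i => (⟨φ i, hlt i⟩ : Fin 288)) := fun i i' h => by
      refine Fin.ext (S₁.inj i i' i.2 i'.2 ?_)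
      rw [heq i, heq i']
      exact congrArg S.P.kEl (congrArg Fin.val h)
    obtain ⟨i, hi⟩ := (Finite.injective_iff_surjective.mp hφ) ⟨n, hn⟩
    refine ⟨i, i.2, ?_⟩
    rw [en, heq i]
    exact congrArg S.P.kEl (congrArg Fin.val hi).symm
  rw [hS₁] at en₁
  set f := S.P.fst with hf
  set a := cA n₁ with had
  set b := cB n₁ with hbd
  have en' : w₀ * w₀ = f.toFun a * (w₀ * f.toFun b * w₀⁻¹) := en₁
  have hcomm : ∀ i i', Commute (f.toFun i) (w₀ * f.toFun i' * w₀⁻¹) := P₁.comm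
  set w := w₀ * (f.toFun a)⁻¹ with hwd
  have hwz : Commute w z := hw₀.mul_left (f.z_comm a).symm.inv_left
  have hwm : ∃ m, w * w = z ^ m := by
    -- conjugating the square by `w₀` shows that `b` is `a` up to sign
    have hab : Commute (w₀ * w₀) w₀ := (Commute.refl w₀).mul_left (Commute.refl w₀)
    have h11 : (w₀ * w₀) * f.toFun b * (w₀ * w₀)⁻¹ = f.toFun a * f.toFun b * (f.toFun a)⁻¹ := by
      rw [en']
      calc f.toFun a * (w₀ * f.toFun b * w₀⁻¹) * f.toFun b * (f.toFun a * (w₀ * f.toFun b * w₀⁻¹))⁻¹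
          = f.toFun a * ((w₀ * f.toFun b * w₀⁻¹) * f.toFun b) * (w₀ * f.toFun b * w₀⁻¹)⁻¹ * (f.toFun a)⁻¹ := by
            group
        _ = _ := by rw [← (hcomm b b).eq]; group
    have h10 : f.toFun (sMul (sMul a b) (sInv a)) * (w₀ * f.toFun a * w₀⁻¹) =
        f.toFun a * (w₀ * f.toFun b * w₀⁻¹) := by
      rw [(hcomm _ a).eq, f.map_mul, f.map_mul, f.map_inv, ← h11]
      calc (w₀ * f.toFun a * w₀⁻¹) * ((w₀ * w₀) * f.toFun b * (w₀ * w₀)⁻¹)
          = w₀ * (f.toFun a * (w₀ * f.toFun b * w₀⁻¹)) * w₀⁻¹ := by group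
        _ = w₀ * (w₀ * w₀) * w₀⁻¹ := by rw [en']
        _ = _ := by rw [← hab.eq, mul_inv_cancel_right, en']
    have h14 := hP₁ _ _ (Pair.enc_lt_of_zero (sMul (sMul a b) (sInv a)) a) (Pair.enc_lt_of_zero a b)
      (by rw [P₁.kEl_enc, P₁.kEl_enc]; exact h10)
    have h15 := congrArg cB h14
    rw [cB_enc, cB_enc] at h15
    have hab' : b % 24 = a % 24 ∨ b % 24 = (a % 24 + 12) % 24 := by
      unfold sNeg at h15; split_ifs at h15 <;> omega
    have hA : Commute (w₀ * (f.toFun a)⁻¹ * w₀⁻¹) (f.toFun a) := by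
      rw [← f.map_inv]; exact (hcomm a (sInv a)).symm
    have e1 : w * w = w₀ * ((f.toFun a)⁻¹ * f.toFun b) * w₀⁻¹ := by
      calc w * w = (w₀ * (f.toFun a)⁻¹ * w₀⁻¹) * (w₀ * w₀) * (f.toFun a)⁻¹ := by rw [hwd]; group
        _ = ((w₀ * (f.toFun a)⁻¹ * w₀⁻¹) * f.toFun a) * ((w₀ * f.toFun b * w₀⁻¹) * (f.toFun a)⁻¹) := by
            rw [en']; group
        _ = ((w₀ * (f.toFun a)⁻¹ * w₀⁻¹) * f.toFun a) * ((f.toFun a)⁻¹ * (w₀ * f.toFun b * w₀⁻¹)) := by
            rw [← ((hcomm a b).inv_left).eq]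
        _ = _ := by group
    rw [e1]
    rcases hab' with e | e
    · refine ⟨0, ?_⟩
      rw [← f.map_mod b, e, f.map_mod, inv_mul_cancel, mul_one, mul_inv_cancel, pow_zero]
    · refine ⟨1, ?_⟩
      rw [← f.map_mod b, e, show (a % 24 + 12) % 24 = sNeg a from rfl, f.map_neg, (f.z_comm a).eq,
        inv_mul_cancel_left, hw₀.eq, mul_inv_cancel_right, pow_one]
  obtain ⟨m, hm⟩ := hwm
  -- final labelling
  have hsnd : ∀ i, w * f.toFun i * w⁻¹ = (S.P.fst.conj w₀ hw₀).toFun (sMul (sMul (sInv a) i) a) := fun i => by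
    show _ = w₀ * f.toFun (sMul (sMul (sInv a) i) a) * w₀⁻¹
    rw [f.map_mul, f.map_mul, f.map_inv, hwd]; group
  let P₂ : Pair z :=
    { fst := f
      snd := f.conj w hwz
      comm := fun i i' => by
        show Commute (f.toFun i) (w * f.toFun i' * w⁻¹)
        rw [hsnd]; exact hcomm i _ }
  have hlift : ∀ n, P₂.kEl n = P₁.kEl (enc (cA n) (sMul (sMul (sInv a) (cB n)) a) 0 0) := fun n => by
    rw [P₁.kEl_enc]
    show f.toFun (cA n) * (w * f.toFun (cB n) * w⁻¹) = _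
    rw [hsnd]
  have hP₂ : P₂.Inj := by
    intro n n' hn hn' e
    rw [hlift, hlift] at e
    have e' := hP₁ _ _ (Pair.enc_lt_of_zero _ _) (Pair.enc_lt_of_zero _ _) e
    have a1 := congrArg cA e'
    have a2 := congrArg cB e'
    rw [cA_enc, cA_enc] at a1
    rw [cB_enc, cB_enc] at a2
    have hlt : cA n < 24 ∧ cA n' < 24 ∧ cB n < 12 ∧ cB n' < 12 := by unfold cA cB; omega
    have hlx := sMul_lt (sMul (sInv a) (cB n)) a
    have hly := sMul_lt (sMul (sInv a) (cB n')) a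
    generalize hx : sMul (sMul (sInv a) (cB n)) a = x at *
    generalize hy : sMul (sMul (sInv a) (cB n')) a = y at *
    have back : ∀ i j, i < 24 → f.toFun (sMul (sMul (sInv a) i) a) = z ^ j * f.toFun (sMul (sMul (sInv a) (cB n')) a) →
        f.toFun i = z ^ j * f.toFun (cB n') := by
      intro i j _ h
      rw [f.map_mul, f.map_mul, f.map_inv, f.map_mul, f.map_mul, f.map_inv] at h
      have hz' := ((f.z_comm a).pow_left j).eq
      calc f.toFun i = f.toFun a * ((f.toFun a)⁻¹ * f.toFun i * f.toFun a) * (f.toFun a)⁻¹ := by group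
        _ = f.toFun a * z ^ j * ((f.toFun a)⁻¹ * f.toFun (cB n') * f.toFun a) * (f.toFun a)⁻¹ := by rw [h]; group
        _ = _ := by rw [← hz']; group
    have ha1 : cA n = cA n' ∧ x = y ∨ cA n = (cA n' + 12) % 24 ∧ x = (y + 12) % 24 := by
      unfold sNeg at a1 a2
      split_ifs at a1 a2 <;> omega
    rcases ha1 with ⟨u1, u2⟩ | ⟨u1, u2⟩
    · have h := back (cB n) 0 (by omega) (by rw [hx, hy, u2, pow_zero, one_mul])
      rw [pow_zero, one_mul] at h
      have := i1 _ _ (by omega) (by omega) h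
      unfold cA at u1; unfold cB at this; omega
    · have h := back (cB n) 1 (by omega) (by
        rw [hx, hy, u2, pow_one, ← f.map_neg]; simp only [sNeg, Nat.mod_eq_of_lt hly])
      rw [pow_one, ← f.map_neg] at h
      have := i1 _ _ (by omega) (by unfold sNeg; omega) h
      unfold sNeg at this; omega
  obtain ⟨S₂, hS₂⟩ := S₁.exists_withPair P₂ hP₂ fun n _ => by
    rw [hlift]; exact ⟨_, Pair.enc_lt_of_zero _ _, by rw [hS₁]⟩
  obtain ⟨r, hr, r1, r2⟩ := S₂.exists_diag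
  rw [hS₂] at r1 r2
  have hwm' : ∀ i, w * (w * f.toFun i * w⁻¹) * w⁻¹ = f.toFun i := fun i => by
    calc w * (w * f.toFun i * w⁻¹) * w⁻¹ = (w * w) * f.toFun i * (w * w)⁻¹ := by group
      _ = f.toFun i := by rw [hm, ((f.z_comm i).pow_left m).eq, mul_inv_cancel_right]
  have r2' : ∀ i, r * (w * f.toFun i * w⁻¹) * r⁻¹ = w * f.toFun (sDc i) * w⁻¹ := r2
  have hp : ∃ p, r * r = z ^ p := by
    have hdd : ∀ i, f.toFun (sDc (sDc i)) = f.toFun i := fun i => by
      have h := (table_ops ⟨i % 24, Nat.mod_lt _ (by norm_num)⟩).2.2.2.2.2.2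
      have h' : sDc (sDc i) = i % 24 := by simpa [sDc, Nat.mod_mod] using h
      rw [h', f.map_mod]
    have c1 : ∀ i, (r * r) * S₂.P.fst.toFun i * (r * r)⁻¹ = S₂.P.fst.toFun i := fun i => by
      rw [hS₂]
      calc (r * r) * f.toFun i * (r * r)⁻¹ = r * (r * f.toFun i * r⁻¹) * r⁻¹ := by group
        _ = _ := by rw [r1, r1, hdd]
    have c2 : ∀ i, (r * r) * S₂.P.snd.toFun i * (r * r)⁻¹ = S₂.P.snd.toFun i := fun i => by
      rw [hS₂]
      show _ = w * f.toFun i * w⁻¹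
      calc (r * r) * (w * f.toFun i * w⁻¹) * (r * r)⁻¹ = r * (r * (w * f.toFun i * w⁻¹) * r⁻¹) * r⁻¹ := by group
        _ = _ := by rw [r2', r2', hdd]
    rcases S₂.eq_one_or_z (hr.mul_left hr) c1 c2 with e | e
    · exact ⟨0, by rw [e, pow_zero]⟩
    · exact ⟨1, by rw [e, pow_one]⟩
  obtain ⟨p, hp⟩ := hp
  have hc : ∃ c, r * w = w * r * z ^ c := by
    have hiw : ∀ i, w⁻¹ * f.toFun i * w = w * f.toFun i * w⁻¹ := fun i => by
      conv_lhs => rw [← hwm' i]
      group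
    have hiw2 : ∀ i, w⁻¹ * (w * f.toFun i * w⁻¹) * w = f.toFun i := fun i => by group
    have hir : ∀ i, r⁻¹ * f.toFun i * r = f.toFun (sDc i) := fun i => by
      have h := (table_ops ⟨i % 24, Nat.mod_lt _ (by norm_num)⟩).2.2.2.2.2.2
      have h' : sDc (sDc i) = i % 24 := by simpa [sDc, Nat.mod_mod] using h
      conv_lhs => rw [← f.map_mod i, ← h', ← r1]
      show r⁻¹ * (r * f.toFun (sDc i) * r⁻¹) * r = _
      group
    have hir2 : ∀ i, r⁻¹ * (w * f.toFun i * w⁻¹) * r = w * f.toFun (sDc i) * w⁻¹ := fun i => by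
      have h := (table_ops ⟨i % 24, Nat.mod_lt _ (by norm_num)⟩).2.2.2.2.2.2
      have h' : sDc (sDc i) = i % 24 := by simpa [sDc, Nat.mod_mod] using h
      conv_lhs => rw [← f.map_mod i, ← h', ← r2']
      group
    have hdd : ∀ i, f.toFun (sDc (sDc i)) = f.toFun i := fun i => by
      have h := (table_ops ⟨i % 24, Nat.mod_lt _ (by norm_num)⟩).2.2.2.2.2.2
      have h' : sDc (sDc i) = i % 24 := by simpa [sDc, Nat.mod_mod] using h
      rw [h', f.map_mod]
    have c1 : ∀ i, (r⁻¹ * w⁻¹ * r * w) * S₂.P.fst.toFun i * (r⁻¹ * w⁻¹ * r * w)⁻¹ = S₂.P.fst.toFun i := fun i => by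
      rw [hS₂]
      calc (r⁻¹ * w⁻¹ * r * w) * f.toFun i * (r⁻¹ * w⁻¹ * r * w)⁻¹
          = r⁻¹ * (w⁻¹ * (r * (w * f.toFun i * w⁻¹) * r⁻¹) * w) * r := by group
        _ = _ := by rw [r2', hiw2, hir, hdd]
    have c2 : ∀ i, (r⁻¹ * w⁻¹ * r * w) * S₂.P.snd.toFun i * (r⁻¹ * w⁻¹ * r * w)⁻¹ = S₂.P.snd.toFun i := fun i => by
      rw [hS₂]
      show _ = w * f.toFun i * w⁻¹
      calc (r⁻¹ * w⁻¹ * r * w) * (w * f.toFun i * w⁻¹) * (r⁻¹ * w⁻¹ * r * w)⁻¹
          = r⁻¹ * (w⁻¹ * (r * (w * (w * f.toFun i * w⁻¹) * w⁻¹) * r⁻¹) * w) * r := by group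
        _ = _ := by rw [hwm', r1, hiw, hir2, hdd]
    have hcz : Commute (r⁻¹ * w⁻¹ * r * w) z :=
      ((hr.inv_left.mul_left hwz.inv_left).mul_left hr).mul_left hwz
    rcases S₂.eq_one_or_z hcz c1 c2 with e | e
    · exact ⟨0, by
        rw [pow_zero, mul_one]
        calc r * w = w * r * (r⁻¹ * w⁻¹ * r * w) := by group
          _ = _ := by rw [e, mul_one]⟩
    · exact ⟨1, by
        rw [pow_one]
        calc r * w = w * r * (r⁻¹ * w⁻¹ * r * w) := by group
          _ = _ := by rw [e]⟩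
  obtain ⟨c', hc'⟩ := hc
  exact ⟨⟨⟨f, w, r, m, p, c', hwz, hr, P₂.comm, hm, hp, r1, hc'⟩, S₂, hS₂⟩⟩

end CfsgLib.UFourThree
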